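import Cfsg.Agent.ChevGroup.Simple

/-!
Twisted groups inside a group with the relations of a Chevalley group: the subgroup `G₁` of elements
fixed by an endomorphism `σ` that permutes the root groups according to a symmetry `ρ`. The orbits of the
fundamental roots are indexed by `K`; `cls k` holds the positive roots of the subsystem of the orbit `k`
and `wd k` is a word for its longest element.
-/

set_option autoImplicit false

namespace Cfsg.Agent.Twisted

open ChevGroup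

variable {Φ I : Type*} {G : Type*} [Group G] {F : Type*} [Field F] {S : RootIdx Φ I}
  (R : RootRel G F S)

/-- the subgroup generated by the root groups of a set of roots -/
def Sg (T : Φ → Prop) : Subgroup G := Subgroup.closure {y | ∃ r t, T r ∧ y = R.x r t}

theorem x_mem_Sg {T : Φ → Prop} {r : Φ} (h : T r) (t : F) : R.x r t ∈ Sg R T :=
  Subgroup.subset_closure ⟨r, t, h, rfl⟩

theorem Sg_mono {T T' : Φ → Prop} (h : ∀ r, T r → T' r) : Sg R T ≤ Sg R T' :=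
  Subgroup.closure_mono fun _ ⟨r, t, hr, e⟩ => ⟨r, t, h r hr, e⟩

theorem Sg_pos : Sg R S.pos = R.U := rfl

/-- the subgroup generated by the negative root groups -/
def V : Subgroup G := Sg R fun r => S.pos (S.neg r)

/-- `g` lies in the coset of `H` given by a word -/
def InCoset (g : G) (w : List I) : Prop := ∃ h ∈ R.H, g = h * R.nw w

theorem nw_conj_mem_H (w : List I) {h : G} (hh : h ∈ R.H) :
    R.nw w * h * (R.nw w)⁻¹ ∈ R.H := by
  induction w with
  | nil => simpa using hh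
  | cons i w ih => simpa [mul_assoc] using R.n_conj_mem_H i ih

theorem nw_reverse_mul (w : List I) : R.nw w.reverse * R.nw w ∈ R.H := by
  induction w with
  | nil => simp
  | cons i w ih =>
    have h1 := nw_conj_mem_H R w.reverse (R.n_sq_mem_H i)
    have := mul_mem h1 ih
    simpa [R.nw_append, mul_assoc] using this

theorem InCoset.one : InCoset R 1 [] := ⟨1, one_mem _, by simp⟩

theorem InCoset.mul {a b : G} {v w : List I} (ha : InCoset R a v) (hb : InCoset R b w) :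
    InCoset R (a * b) (v ++ w) := by
  obtain ⟨h, hh, rfl⟩ := ha
  obtain ⟨h', hh', rfl⟩ := hb
  exact ⟨h * (R.nw v * h' * (R.nw v)⁻¹), mul_mem hh (nw_conj_mem_H R v hh'),
    by rw [R.nw_append]; group⟩

theorem InCoset.inv {a : G} {w : List I} (ha : InCoset R a w) : InCoset R a⁻¹ w.reverse := by
  obtain ⟨h, hh, rfl⟩ := ha
  have h1 := nw_reverse_mul R w
  refine ⟨(R.nw w.reverse * R.nw w)⁻¹ * (R.nw w.reverse * h⁻¹ * (R.nw w.reverse)⁻¹),
    mul_mem (inv_mem h1) (nw_conj_mem_H R w.reverse (inv_mem hh)), by group⟩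

theorem InCoset.mem_H {a : G} (ha : InCoset R a []) : a ∈ R.H := by
  obtain ⟨h, hh, rfl⟩ := ha; simpa using hh

theorem H_conj_Sg {T : Φ → Prop} {h u : G} (hh : h ∈ R.H) (hu : u ∈ Sg R T) :
    h * u * h⁻¹ ∈ Sg R T :=
  R.conj_mem_uOther_of_scales T (fun s _ => let ⟨a, _, e⟩ := R.H_scales hh s; ⟨a, e⟩) hu

theorem InCoset.conj_Sg {g : G} {w : List I} (hg : InCoset R g w) {T T' : Φ → Prop}
    (hT : ∀ r, T r → T' (S.actw w r)) {u : G} (hu : u ∈ Sg R T) :
    g * u * g⁻¹ ∈ Sg R T' := by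
  induction hu using Subgroup.closure_induction with
  | mem y hy =>
    obtain ⟨r, t, hr, rfl⟩ := hy
    obtain ⟨h, hh, rfl⟩ := hg
    obtain ⟨e, _, he⟩ := R.nw_conj w r
    have := H_conj_Sg R hh (x_mem_Sg R (hT r hr) (e * t))
    rw [← he t] at this
    simpa [mul_assoc] using this
  | one => simp
  | mul a b _ _ ha hb => simpa [mul_assoc] using mul_mem ha hb
  | inv a _ ha => simpa [mul_assoc] using inv_mem ha

theorem InCoset.inv_conj_Sg {g : G} {w : List I} (hg : InCoset R g w) {T T' : Φ → Prop}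
    (hT : ∀ r, T r → T' (S.actw w.reverse r)) {u : G} (hu : u ∈ Sg R T) :
    g⁻¹ * u * g ∈ Sg R T' := by
  have := (hg.inv R).conj_Sg R hT hu
  rwa [inv_inv] at this

theorem low_of_V {ι : Type*} [Fintype ι] [DecidableEq ι] (M : Shape R ι) {v : G} (hv : v ∈ V R) :
    Uni (fun a => -M.key a) (M.mat v) := by
  have hx : ∀ r t, S.pos (S.neg r) → Uni (fun a => -M.key a) (M.mat (R.x r t)) := by
    intro r t hr
    have := M.uni_neg (S.neg r) t hr
    rwa [S.neg_neg] at this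
  induction hv using Subgroup.closure_induction'' with
  | mem g hg => obtain ⟨r, t, hr, rfl⟩ := hg; exact hx r t hr
  | inv_mem g hg => obtain ⟨r, t, hr, rfl⟩ := hg; rw [← R.x_neg]; exact hx r _ hr
  | one => rw [M.mat_one]; intro a b _; simp [Matrix.one_apply]
  | mul g h _ _ hg hh => rw [M.mat_mul]; exact hg.mul hh

theorem U_inter_V {ι : Type*} [Fintype ι] [DecidableEq ι] (M : Shape R ι) {g : G} (hu : g ∈ R.U)
    (hv : g ∈ V R) : g = 1 := M.eq_one_of_low hu (low_of_V R M hv)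

/-- A word that keeps the positive roots positive gives an element of `H`. -/
theorem nw_mem_H_of_pos {w : List I} (h : ∀ r, S.pos r → S.pos (S.actw w r))
    (hne : ∀ (r : Φ), R.x r 1 ≠ 1) (hsep : ∀ r s, R.x r 1 ∈ Sg R (fun u => u = s) → r = s) :
    R.nw w ∈ R.H := by
  obtain ⟨v, hv, -, -, h', hh', e⟩ := R.exists_red w
  cases v with
  | nil => rw [e, R.nw_nil, mul_one]; exact hh'
  | cons i u =>
    exfalso
    obtain ⟨hp, he⟩ := S.red_cons_root hv
    set r := S.actw u.reverse (S.simple i)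
    have hg : InCoset R (R.nw w) (i :: u) := ⟨h', hh', e⟩
    obtain ⟨c, hc, h1⟩ := R.nw_conj w r
    have h2 := hg.conj_Sg R (T := fun s => s = r) (T' := fun s => s = S.neg (S.simple i))
      (fun s hs => by rw [hs]; exact he) (x_mem_Sg R (T := fun s => s = r) (r := r) rfl c)
    rw [h1, hc] at h2
    have h3 := hsep _ _ h2
    have := h r hp
    rw [h3] at this
    exact S.not_pos_neg _ (S.simple_pos i) this

/-- The standing data. -/
structure Data (G₁ : Subgroup G) (K : Type*) where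
  σ : G →* G
  ρ : Φ → Φ
  f : Φ → F → F
  map_x : ∀ r t, σ (R.x r t) = R.x (ρ r) (f r t)
  map_H : ∀ h ∈ R.H, σ h ∈ R.H
  ρ_pos : ∀ r, S.pos r → S.pos (ρ r)
  cls : K → List Φ
  wd : K → List I
  cls_pos : ∀ k, ∀ r ∈ cls k, S.pos r
  ρ_cls : ∀ k r, ρ r ∈ cls k ↔ r ∈ cls k
  wd_cls : ∀ k, ∀ r ∈ cls k,
    S.neg (S.actw (wd k) r) ∈ cls k ∧ S.neg (S.actw (wd k).reverse r) ∈ cls k
  wd_other : ∀ k r, S.pos r → r ∉ cls k →
    (S.pos (S.actw (wd k) r) ∧ S.actw (wd k) r ∉ cls k) ∧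
      (S.pos (S.actw (wd k).reverse r) ∧ S.actw (wd k).reverse r ∉ cls k)
  comm : ∀ k, ∀ r ∈ cls k, ∀ s, S.pos s → s ∉ cls k → ∀ t u,
    R.x r t * R.x s u * R.x r (-t) ∈ Sg R (fun r => S.pos r ∧ r ∉ cls k)
  nJ : K → G
  nJ_mem : ∀ k, nJ k ∈ G₁
  nJ_coset : ∀ k, InCoset R (nJ k) (wd k)
  fixed : ∀ g ∈ G₁, σ g = g
  full : ∀ k, ∀ g ∈ Sg R (· ∈ cls k), σ g = g → g ∈ G₁
  full_H : ∀ h ∈ R.H, σ h = h → h ∈ G₁
  x_ne : ∀ r : Φ, R.x r 1 ≠ 1
  x_sep : ∀ r s, R.x r 1 ∈ Sg R (fun u => u = s) → r = s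

namespace Data

variable {R} {G₁ : Subgroup G} {K : Type*} (D : Data R G₁ K)

/-- `U ∩ G₁` -/
def U1 (_ : Data R G₁ K) : Subgroup G := G₁ ⊓ R.U

/-- `H ∩ G₁` -/
def H1 (_ : Data R G₁ K) : Subgroup G := G₁ ⊓ R.H

/-- `B ∩ G₁` -/
def B1 (_ : Data R G₁ K) : Subgroup G := G₁ ⊓ R.B

/-- the root groups of the orbit `k` -/
def Uk (k : K) : Subgroup G := Sg R (· ∈ D.cls k)

/-- the other positive root groups -/
def Uo (k : K) : Subgroup G := Sg R (fun r => S.pos r ∧ r ∉ D.cls k)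

/-- the fixed points of the root groups of the orbit `k` -/
def X (k : K) : Subgroup G := G₁ ⊓ D.Uk k

/-- the ambient word of a word in the orbits -/
def aw (W : List K) : List I := (W.map D.wd).flatten

/-- the product of the `nJ` along a word -/
def nW (W : List K) : G := (W.map D.nJ).prod

@[simp] theorem aw_nil : D.aw [] = [] := rfl

@[simp] theorem aw_cons (k : K) (W : List K) : D.aw (k :: W) = D.wd k ++ D.aw W := by simp [aw]

theorem aw_append (A B : List K) : D.aw (A ++ B) = D.aw A ++ D.aw B := by simp [aw]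

@[simp] theorem nW_nil : D.nW [] = 1 := rfl

@[simp] theorem nW_cons (k : K) (W : List K) : D.nW (k :: W) = D.nJ k * D.nW W := by simp [nW]

theorem nW_append (A B : List K) : D.nW (A ++ B) = D.nW A * D.nW B := by simp [nW]

theorem nW_mem (W : List K) : D.nW W ∈ G₁ := by
  induction W with
  | nil => simp
  | cons k W ih => rw [D.nW_cons]; exact mul_mem (D.nJ_mem k) ih

theorem nW_coset (W : List K) : InCoset R (D.nW W) (D.aw W) := by
  induction W with
  | nil => simpa using InCoset.one R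
  | cons k W ih => simpa using (D.nJ_coset k).mul R ih

theorem Uk_le_U (k : K) : D.Uk k ≤ R.U := Sg_mono R (D.cls_pos k)

theorem Uo_le_U (k : K) : D.Uo k ≤ R.U := Sg_mono R fun _ h => h.1

theorem X_le_U1 (k : K) : D.X k ≤ D.U1 := inf_le_inf_left _ (D.Uk_le_U k)

theorem U1_le_B1 : D.U1 ≤ D.B1 := inf_le_inf_left _ R.U_le_B

theorem H1_le_B1 : D.H1 ≤ D.B1 := inf_le_inf_left _ R.H_le_B

theorem σ_Sg {T T' : Φ → Prop} (h : ∀ r, T r → T' (D.ρ r)) {u : G} (hu : u ∈ Sg R T) :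
    D.σ u ∈ Sg R T' := by
  induction hu using Subgroup.closure_induction with
  | mem y hy => obtain ⟨r, t, hr, rfl⟩ := hy; rw [D.map_x]; exact x_mem_Sg R (h r hr) _
  | one => simp
  | mul a b _ _ ha hb => rw [map_mul]; exact mul_mem ha hb
  | inv a _ ha => rw [map_inv]; exact inv_mem ha

theorem σ_Uk {k : K} {u : G} (hu : u ∈ D.Uk k) : D.σ u ∈ D.Uk k :=
  D.σ_Sg (fun r hr => (D.ρ_cls k r).2 hr) hu

theorem σ_Uo {k : K} {u : G} (hu : u ∈ D.Uo k) : D.σ u ∈ D.Uo k :=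
  D.σ_Sg (fun r hr => ⟨D.ρ_pos r hr.1, fun h => hr.2 ((D.ρ_cls k r).1 h)⟩) hu

theorem σ_U {u : G} (hu : u ∈ R.U) : D.σ u ∈ R.U := D.σ_Sg D.ρ_pos hu

theorem Uk_conj_Uo (k : K) {a c : G} (ha : a ∈ D.Uk k) (hc : c ∈ D.Uo k) :
    a * c * a⁻¹ ∈ D.Uo k := by
  induction ha using Subgroup.closure_induction'' generalizing c with
  | mem g hg =>
    obtain ⟨r, t, hr, rfl⟩ := hg
    induction hc using Subgroup.closure_induction with
    | mem y hy =>
      obtain ⟨s, u, hs, rfl⟩ := hy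
      rw [← R.x_neg]; exact D.comm k r hr s hs.1 hs.2 t u
    | one => simp
    | mul a b _ _ ha hb => simpa [mul_assoc] using mul_mem ha hb
    | inv a _ ha => simpa [mul_assoc] using inv_mem ha
  | inv_mem g hg =>
    obtain ⟨r, t, hr, rfl⟩ := hg
    rw [← R.x_neg]
    induction hc using Subgroup.closure_induction with
    | mem y hy =>
      obtain ⟨s, u, hs, rfl⟩ := hy
      rw [← R.x_neg]; exact D.comm k r hr s hs.1 hs.2 (-t) u
    | one => simp
    | mul a b _ _ ha hb => simpa [mul_assoc] using mul_mem ha hb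
    | inv a _ ha => simpa [mul_assoc] using inv_mem ha
  | one => simpa using hc
  | mul g h _ _ hg hh => simpa [mul_assoc] using hg (hh hc)

theorem U_decomp (k : K) {u : G} (hu : u ∈ R.U) :
    ∃ a ∈ D.Uk k, ∃ c ∈ D.Uo k, u = a * c := by
  have hgen : ∀ r t, S.pos r → ∃ a ∈ D.Uk k, ∃ c ∈ D.Uo k, R.x r t = a * c := by
    intro r t hr
    by_cases h : r ∈ D.cls k
    · exact ⟨_, x_mem_Sg R h t, 1, one_mem _, by simp⟩
    · exact ⟨1, one_mem _, _, x_mem_Sg R ⟨hr, h⟩ t, by simp⟩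
  induction hu using Subgroup.closure_induction'' with
  | mem g hg => obtain ⟨r, t, hr, rfl⟩ := hg; exact hgen r t hr
  | inv_mem g hg => obtain ⟨r, t, hr, rfl⟩ := hg; rw [← R.x_neg]; exact hgen r _ hr
  | one => exact ⟨1, one_mem _, 1, one_mem _, by simp⟩
  | mul g h _ _ hg hh =>
    obtain ⟨a, ha, c, hc, rfl⟩ := hg
    obtain ⟨a', ha', c', hc', rfl⟩ := hh
    refine ⟨a * a', mul_mem ha ha', (a'⁻¹ * c * a'⁻¹⁻¹) * c',
      mul_mem (D.Uk_conj_Uo k (inv_mem ha') hc) hc', by group⟩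

theorem nJ_conj_Uo (k : K) {c : G} (hc : c ∈ D.Uo k) : D.nJ k * c * (D.nJ k)⁻¹ ∈ D.Uo k :=
  (D.nJ_coset k).conj_Sg R (fun r hr => (D.wd_other k r hr.1 hr.2).1) hc

theorem nJ_inv_conj_Uo (k : K) {c : G} (hc : c ∈ D.Uo k) : (D.nJ k)⁻¹ * c * D.nJ k ∈ D.Uo k :=
  (D.nJ_coset k).inv_conj_Sg R (fun r hr => (D.wd_other k r hr.1 hr.2).2) hc

theorem nJ_conj_Uk (k : K) {a : G} (ha : a ∈ D.Uk k) : D.nJ k * a * (D.nJ k)⁻¹ ∈ V R :=
  (D.nJ_coset k).conj_Sg R (T' := fun r => S.pos (S.neg r))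
    (fun r hr => D.cls_pos k _ (D.wd_cls k r hr).1) ha

variable {ι : Type*} [Fintype ι] [DecidableEq ι] (M : Shape R ι)

include M in
theorem Uk_inter_Uo (k : K) {g : G} (ha : g ∈ D.Uk k) (hc : g ∈ D.Uo k) : g = 1 :=
  conj_eq_one_iff.1 (U_inter_V R M (D.Uo_le_U k (D.nJ_conj_Uo k hc)) (D.nJ_conj_Uk k ha))

include M in
theorem decomp_unique (k : K) {a a' c c' : G} (ha : a ∈ D.Uk k) (ha' : a' ∈ D.Uk k)
    (hc : c ∈ D.Uo k) (hc' : c' ∈ D.Uo k) (e : a * c = a' * c') : a = a' ∧ c = c' := by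
  have e1 : a'⁻¹ * a = c' * c⁻¹ := by
    rw [eq_mul_inv_iff_mul_eq, mul_assoc, e, inv_mul_cancel_left]
  have h1 := D.Uk_inter_Uo M k (mul_mem (inv_mem ha') ha) (e1 ▸ mul_mem hc' (inv_mem hc))
  have h2 : a = a' := (inv_mul_eq_one.1 h1).symm
  subst h2
  exact ⟨rfl, mul_left_cancel e⟩

include M in
theorem fixed_decomp (k : K) {u : G} (hu : u ∈ R.U) (h : D.σ u = u) :
    ∃ a ∈ D.Uk k, ∃ c ∈ D.Uo k, u = a * c ∧ D.σ a = a ∧ D.σ c = c := by
  obtain ⟨a, ha, c, hc, rfl⟩ := D.U_decomp k hu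
  rw [map_mul] at h
  obtain ⟨e1, e2⟩ := D.decomp_unique M k (D.σ_Uk ha) ha (D.σ_Uo hc) hc h
  exact ⟨a, ha, c, hc, rfl, e1, e2⟩

theorem X_mem {k : K} {a : G} (ha : a ∈ D.Uk k) (h : D.σ a = a) : a ∈ D.X k :=
  ⟨D.full k a ha h, ha⟩

/-- every positive root sent to a negative one by the inverse of the word -/
def Inv (W : List K) (r : Φ) : Prop :=
  S.pos r ∧ S.pos (S.neg (S.actw (D.aw W).reverse r))

/-- the root groups of the orbit stay positive under the inverse of the word -/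
def Back (k : K) (W : List K) : Prop := ∀ r ∈ D.cls k, S.pos (S.actw (D.aw W).reverse r)

/-- every step of the word lengthens it -/
def Red : List K → Prop
  | [] => True
  | k :: W => D.Back k W ∧ Red W

theorem actw_aw_cons_rev (k : K) (W : List K) (r : Φ) :
    S.actw (D.aw (k :: W)).reverse r =
      S.actw (D.aw W).reverse (S.actw (D.wd k).reverse r) := by
  rw [D.aw_cons, List.reverse_append, S.actw_append]

theorem back_flip {k : K} {W : List K} (h : D.Back k W) :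
    ∀ r ∈ D.cls k, S.pos (S.neg (S.actw (D.aw (k :: W)).reverse r)) := by
  intro r hr
  rw [D.actw_aw_cons_rev, ← S.actw_neg]
  exact h _ (D.wd_cls k r hr).2

theorem back_cons {k : K} {W : List K}
    (h : ∀ r ∈ D.cls k, S.pos (S.neg (S.actw (D.aw W).reverse r))) : D.Back k (k :: W) := by
  intro r hr
  rw [D.actw_aw_cons_rev]
  have h1 := h _ (D.wd_cls k r hr).2
  rwa [S.actw_neg, S.neg_neg] at h1

theorem nW_inv_conj_Uk {k : K} {W : List K} (h : D.Back k W) {a : G} (ha : a ∈ D.Uk k) :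
    (D.nW W)⁻¹ * a * D.nW W ∈ R.U :=
  (D.nW_coset W).inv_conj_Sg R h ha

theorem nW_cons_inv_conj_Uk {k : K} {W : List K} (h : D.Back k W) {a : G} (ha : a ∈ D.Uk k) :
    (D.nW (k :: W))⁻¹ * a * D.nW (k :: W) ∈ V R :=
  (D.nW_coset (k :: W)).inv_conj_Sg R (D.back_flip h) ha

include M in
theorem mem_Inv : ∀ (W : List K), D.Red W → ∀ u ∈ R.U, (D.nW W)⁻¹ * u * D.nW W ∈ V R →
    u ∈ Sg R (D.Inv W) := by
  intro W
  induction W with
  | nil =>
    intro _ u hu hv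
    rw [D.nW_nil, inv_one, one_mul, mul_one] at hv
    rw [U_inter_V R M hu hv]; exact one_mem _
  | cons k W ih =>
    rintro ⟨hk, hW⟩ u hu hv
    obtain ⟨a, ha, c, hc, rfl⟩ := D.U_decomp k hu
    have h1 : (D.nW (k :: W))⁻¹ * c * D.nW (k :: W) ∈ V R := by
      have := mul_mem (inv_mem (D.nW_cons_inv_conj_Uk hk ha)) hv
      simpa [mul_assoc] using this
    have h2 := ih hW _ (D.Uo_le_U k (D.nJ_inv_conj_Uo k hc)) (by simpa [mul_assoc] using h1)
    have h3 : c ∈ Sg R (D.Inv (k :: W)) := by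
      have := (D.nJ_coset k).conj_Sg R (T' := D.Inv (k :: W)) ?_ h2
      · simpa [mul_assoc] using this
      · intro r hr
        have hnot : r ∉ D.cls k := fun h => S.not_pos_neg _ (hk r h) hr.2
        refine ⟨(D.wd_other k r hr.1 hnot).1.1, ?_⟩
        rw [D.actw_aw_cons_rev, S.actw_reverse']
        exact hr.2
    refine mul_mem ?_ h3
    exact Sg_mono R (fun r hr => ⟨D.cls_pos k r hr, D.back_flip hk r hr⟩) ha

theorem Sg_Inv_le_Uo {k : K} {W : List K} (h : D.Back k W) :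
    Sg R (D.Inv W) ≤ D.Uo k :=
  Sg_mono R fun r hr => ⟨hr.1, fun hc => S.not_pos_neg _ (h r hc) hr.2⟩

include M in
theorem fixed_mem_of_red : ∀ (W : List K), D.Red W → ∀ u ∈ R.U, D.σ u = u →
    (D.nW W)⁻¹ * u * D.nW W ∈ V R → u ∈ G₁ := by
  intro W
  induction W with
  | nil =>
    intro _ u hu _ hv
    rw [D.nW_nil, inv_one, one_mul, mul_one] at hv
    rw [U_inter_V R M hu hv]; exact one_mem _
  | cons k W ih =>
    rintro ⟨hk, hW⟩ u hu hfix hv
    obtain ⟨a, ha, c, hc, rfl, ha', hc'⟩ := D.fixed_decomp M k hu hfix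
    have h1 : (D.nW (k :: W))⁻¹ * c * D.nW (k :: W) ∈ V R := by
      have := mul_mem (inv_mem (D.nW_cons_inv_conj_Uk hk ha)) hv
      simpa [mul_assoc] using this
    have h2 := ih hW _ (D.Uo_le_U k (D.nJ_inv_conj_Uo k hc))
      (by simp [D.fixed _ (D.nJ_mem k), hc']) (by simpa [mul_assoc] using h1)
    refine mul_mem (D.full k a ha ha') ?_
    simpa [mul_assoc] using mul_mem (mul_mem (D.nJ_mem k) h2) (inv_mem (D.nJ_mem k))

/-- the part of `U ∩ G₁` sent into `V` by the inverse of the word -/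
def P (W : List K) : Set G := {u | u ∈ D.U1 ∧ (D.nW W)⁻¹ * u * D.nW W ∈ V R}

include M in
theorem card_P : ∀ (W : List K), D.Red W →
    Nat.card (D.P W) = (W.map fun k => Nat.card (D.X k)).prod := by
  intro W
  induction W with
  | nil =>
    intro _
    have : D.P [] = {1} := by
      ext u
      simp only [P, Set.mem_setOf_eq, D.nW_nil, inv_one, one_mul, mul_one, Set.mem_singleton_iff]
      refine ⟨fun h => U_inter_V R M h.1.2 h.2, ?_⟩
      rintro rfl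
      exact ⟨one_mem _, one_mem _⟩
    simp [this]
  | cons k W ih =>
    rintro ⟨hk, hW⟩
    rw [List.map_cons, List.prod_cons, ← ih hW, ← Nat.card_prod]
    symm
    have hmem : ∀ c' ∈ D.P W, D.nJ k * c' * (D.nJ k)⁻¹ ∈ D.Uo k := fun c' hc' =>
      D.nJ_conj_Uo k (D.Sg_Inv_le_Uo hk (D.mem_Inv M W hW c' hc'.1.2 hc'.2))
    refine Nat.card_congr (Equiv.ofBijective
      (fun p : D.X k × D.P W => (⟨p.1.1 * (D.nJ k * p.2.1 * (D.nJ k)⁻¹), ?_, ?_⟩ : D.P (k :: W)))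
      ⟨?_, ?_⟩)
    · exact Subgroup.mem_inf.2 ⟨mul_mem p.1.2.1 (mul_mem (mul_mem (D.nJ_mem k) p.2.2.1.1) (inv_mem (D.nJ_mem k))),
        mul_mem (D.Uk_le_U k p.1.2.2) (D.Uo_le_U k (hmem _ p.2.2))⟩
    · have h1 := D.nW_cons_inv_conj_Uk hk p.1.2.2
      have := mul_mem h1 p.2.2.2
      simpa [mul_assoc] using this
    · rintro ⟨⟨a, ha⟩, c, hc⟩ ⟨⟨a', ha'⟩, c', hc'⟩ e
      have e := congrArg Subtype.val e
      obtain ⟨e1, e2⟩ := D.decomp_unique M k ha.2 ha'.2 (hmem c hc) (hmem c' hc') e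
      simp only [mul_left_inj, mul_right_inj] at e2
      simp [e1, e2]
    · rintro ⟨u, hu, hv⟩
      obtain ⟨a, ha, c, hc, rfl, ha', hc'⟩ := D.fixed_decomp M k hu.2 (D.fixed u hu.1)
      have haX := D.X_mem ha ha'
      have hc1 : c ∈ G₁ := by
        have := mul_mem (inv_mem (Subgroup.mem_inf.1 haX).1) (Subgroup.mem_inf.1 hu).1
        simpa using this
      have h1 : (D.nW (k :: W))⁻¹ * c * D.nW (k :: W) ∈ V R := by
        have := mul_mem (inv_mem (D.nW_cons_inv_conj_Uk hk ha)) hv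
        simpa [mul_assoc] using this
      refine ⟨⟨⟨a, haX⟩, ⟨(D.nJ k)⁻¹ * c * D.nJ k,
        Subgroup.mem_inf.2 ⟨mul_mem (mul_mem (inv_mem (D.nJ_mem k)) hc1) (D.nJ_mem k),
          D.Uo_le_U k (D.nJ_inv_conj_Uo k hc)⟩, by simpa [mul_assoc] using h1⟩⟩, ?_⟩
      exact Subtype.ext (by simp [mul_assoc])

/-- The word is the longest element. -/
def Longest (W : List K) : Prop :=
  D.Red W ∧ ∀ r, S.pos r → S.pos (S.neg (S.actw (D.aw W).reverse r))

variable {W0 : List K} (h0 : D.Longest W0)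

include M h0 in
theorem mem_U1_of_fixed {u : G} (hu : u ∈ R.U) (h : D.σ u = u) : u ∈ D.U1 :=
  Subgroup.mem_inf.2
    ⟨D.fixed_mem_of_red M W0 h0.1 u hu h ((D.nW_coset W0).inv_conj_Sg R h0.2 hu), hu⟩

include M h0 in
theorem card_U1 : Nat.card D.U1 = (W0.map fun k => Nat.card (D.X k)).prod := by
  rw [← D.card_P M W0 h0.1]
  exact Nat.card_congr (Equiv.subtypeEquivRight fun u =>
    ⟨fun h => ⟨h, (D.nW_coset W0).inv_conj_Sg R h0.2 h.2⟩, fun h => h.1⟩)

include M h0 in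
theorem exists_U1_H1 {b : G} (hb : b ∈ D.B1) : ∃ u ∈ D.U1, ∃ h ∈ D.H1, u * h = b := by
  obtain ⟨u, hu, h, hh, e⟩ := R.mem_B_iff.1 hb.2
  have hfix := D.fixed b hb.1
  rw [← e, map_mul] at hfix
  have e1 : u⁻¹ * D.σ u = h * (D.σ h)⁻¹ := by
    rw [eq_mul_inv_iff_mul_eq, mul_assoc, hfix, inv_mul_cancel_left]
  have e2 := M.U_inter_H (mul_mem (inv_mem hu) (D.σ_U hu))
    (e1 ▸ mul_mem hh (inv_mem (D.map_H h hh)))
  have hu' : D.σ u = u := (inv_mul_eq_one.1 e2).symm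
  rw [hu'] at hfix
  exact ⟨u, D.mem_U1_of_fixed M h0 hu hu', h, ⟨D.full_H h hh (mul_left_cancel hfix), hh⟩, e⟩

include M h0 in
theorem card_B1 : Nat.card D.B1 = Nat.card D.U1 * Nat.card D.H1 := by
  rw [← Nat.card_prod]
  refine (Nat.card_congr (Equiv.ofBijective
    (fun p : D.U1 × D.H1 => (⟨p.1.1 * p.2.1, mul_mem (D.U1_le_B1 p.1.2) (D.H1_le_B1 p.2.2)⟩ : D.B1))
    ⟨?_, ?_⟩)).symm
  · rintro ⟨⟨u, hu⟩, ⟨h, hh⟩⟩ ⟨⟨u', hu'⟩, ⟨h', hh'⟩⟩ e
    simp only [Subtype.mk.injEq] at e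
    have e1 : u'⁻¹ * u = h' * h⁻¹ := by
      rw [eq_mul_inv_iff_mul_eq, mul_assoc, e, inv_mul_cancel_left]
    have e2 := M.U_inter_H (mul_mem (inv_mem hu'.2) hu.2) (e1 ▸ mul_mem hh'.2 (inv_mem hh.2))
    have e3 := inv_mul_eq_one.1 e2
    subst e3
    simp only [Prod.mk.injEq, Subtype.mk.injEq, true_and]
    exact mul_left_cancel e
  · rintro ⟨b, hb⟩
    obtain ⟨u, hu, h, hh, e⟩ := D.exists_U1_H1 M h0 hb
    exact ⟨⟨⟨u, hu⟩, ⟨h, hh⟩⟩, Subtype.ext e⟩

theorem nJ_conj_H1 (k : K) {h : G} (hh : h ∈ D.H1) : D.nJ k * h * (D.nJ k)⁻¹ ∈ D.H1 := by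
  refine Subgroup.mem_inf.2 ⟨mul_mem (mul_mem (D.nJ_mem k) hh.1) (inv_mem (D.nJ_mem k)), ?_⟩
  obtain ⟨h', hh', e⟩ := D.nJ_coset k
  rw [e]
  have := mul_mem (mul_mem hh' (nw_conj_mem_H R (D.wd k) hh.2)) (inv_mem hh')
  simpa [mul_assoc] using this

theorem nJ_inv_conj_H1 (k : K) {h : G} (hh : h ∈ D.H1) : (D.nJ k)⁻¹ * h * D.nJ k ∈ D.H1 := by
  refine Subgroup.mem_inf.2 ⟨mul_mem (mul_mem (inv_mem (D.nJ_mem k)) hh.1) (D.nJ_mem k), ?_⟩
  obtain ⟨h', hh', e⟩ := D.nJ_coset k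
  rw [e]
  have := R.nw_inv_conj_mem_H (D.wd k) (mul_mem (mul_mem (inv_mem hh') hh.2) hh')
  simpa [mul_assoc] using this

theorem mem_H1_of_perm {A B : List K} (h : ∀ r, S.actw (D.aw A) r = S.actw (D.aw B) r) :
    (D.nW B)⁻¹ * D.nW A ∈ D.H1 := by
  refine Subgroup.mem_inf.2 ⟨mul_mem (inv_mem (D.nW_mem B)) (D.nW_mem A), ?_⟩
  obtain ⟨t, ht, e⟩ := ((D.nW_coset B).inv R).mul R (D.nW_coset A)
  rw [e]
  refine mul_mem ht (nw_mem_H_of_pos R (fun r hr => ?_) D.x_ne D.x_sep)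
  rw [S.actw_append, h, S.actw_reverse']
  exact hr

theorem nJ_sq_mem (k : K) (h : ∀ r, S.actw (D.wd k) (S.actw (D.wd k) r) = r) :
    D.nJ k * D.nJ k ∈ D.H1 := by
  have := D.mem_H1_of_perm (A := [k, k]) (B := []) fun r => by simp [S.actw_append, h]
  simpa using this

end Data

end Cfsg.Agent.Twisted
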