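import Cfsg.Agent.ChevGroup.Mat.Inst
import Cfsg.Agent.Lib.ChevCore.CommAll
import Cfsg.Agent.ChevIsogeny.Check

/-!
The relations and the commutator formula of a certified datum in the form the twisted groups use.
-/

set_option autoImplicit false

namespace Cfsg.Agent.Twisted

open Cfsg.Lie ChevGroup ChevIsogeny

variable {D : ChevalleyDatum} (hD : ChevCore.CommGood D) (F : Type*) [Field F]

include hD in
theorem commFormula : CommFormula D F := by
  intro r s hr hs hrs hneg t u
  have h := congrArg (fun g : GL D.Idx F => (g : Matrix D.Idx D.Idx F))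
    (hD.xg_comm hr hs hrs hneg t u)
  simpa [hD.toGood.val_xg, hD.toGood.val_wordG] using h

/-- the signs agree with a table -/
def etaTabB (D : ChevalleyDatum) (P : ChevCore.Packed) (η : ℕ → ℕ → ℤ) : Prop :=
  ∀ i < D.rank, ∀ r < D.nroots, ChevCore.etaW D (ChevCore.fast D P) i r = η i r

theorem eta_link {P : ChevCore.Packed} (hl : ChevCore.chkLink D P = true) {η : ℕ → ℕ → ℤ}
    (h : etaTabB D P η) :
    ∀ i r, i < D.rank → r < D.nroots → (relsOfCommGood hD F).eta i r = (η i r : F) := by
  intro i r hi hr
  show ((ChevCore.eta D i r : ℤ) : F) = _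
  rw [ChevCore.eta, ← (ChevCore.fast_eq_std hl).1, h i hi r hr]

end Cfsg.Agent.Twisted
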