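import Cfsg.Agent.Twisted.Gens

/-!
From the subgroup of the Chevalley group generated by words to the subgroup of the general linear group named
in the statements.
-/

set_option autoImplicit false

namespace Cfsg.Agent.Twisted

open ChevGroup ChevIsogeny Cfsg.Lie

/-- A (B, N)-pair moved along an isomorphism. -/
theorem exists_bnPair_map {G H : Type*} [Group G] [Group H] (e : G ≃* H) (P : Cfsg.BNPair G) :
    ∃ Q : Cfsg.BNPair H, Q.B = P.B.map e.toMonoidHom ∧ Q.N = P.N.map e.toMonoidHom := by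
  have hmem : ∀ (A : Subgroup G) (g : G), e g ∈ A.map e.toMonoidHom ↔ g ∈ A := fun A g =>
    Subgroup.mem_map_iff_mem e.injective
  refine ⟨{ B := P.B.map e.toMonoidHom, N := P.N.map e.toMonoidHom, S := e '' P.S, sup_eq_top := ?_,
            conj_mem := ?_, subset := ?_, sq_mem := ?_, inj := ?_, closure_sup := ?_,
            mul_mem_union := ?_, conj_ne := ?_ }, rfl, rfl⟩
  · rw [← Subgroup.map_sup, P.sup_eq_top, Subgroup.map_top_of_surjective _ e.surjective]
  · intro n hn t ht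
    obtain ⟨n', rfl⟩ := e.surjective n
    obtain ⟨t', rfl⟩ := e.surjective t
    rw [Subgroup.mem_inf, hmem, hmem] at ht
    rw [hmem] at hn
    rw [← map_inv, ← map_mul, ← map_mul, hmem]
    exact P.conj_mem n' hn t' (Subgroup.mem_inf.2 ht)
  · rintro _ ⟨s, hs, rfl⟩
    exact (hmem _ _).2 (P.subset hs)
  · rintro _ ⟨s, hs, rfl⟩
    rw [← map_mul, hmem]
    exact P.sq_mem s hs
  · rintro _ ⟨s, hs, rfl⟩ _ ⟨s', hs', rfl⟩ h
    rw [← map_inv, ← map_mul, hmem] at h
    rw [P.inj s hs s' hs' h]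
  · rw [← Subgroup.map_inf _ _ _ e.injective]
    conv_rhs => rw [← P.closure_sup]
    rw [Subgroup.map_sup, MonoidHom.map_closure]
    rfl
  · rintro _ ⟨s, hs, rfl⟩ n hn b hb
    obtain ⟨n', rfl⟩ := e.surjective n
    obtain ⟨b', rfl⟩ := e.surjective b
    rw [hmem] at hn hb
    have key : ∀ (x y : G), x ∈ DoubleCoset.doubleCoset y (P.B : Set G) P.B →
        e x ∈ DoubleCoset.doubleCoset (e y) (P.B.map e.toMonoidHom : Set H) (P.B.map e.toMonoidHom) := by
      intro x y hx
      obtain ⟨a, ha, c, hc, rfl⟩ := DoubleCoset.mem_doubleCoset.1 hx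
      exact DoubleCoset.mem_doubleCoset.2 ⟨e a, (hmem _ _).2 ha, e c, (hmem _ _).2 hc, by simp⟩
    rw [← map_mul, ← map_mul, ← map_mul]
    rcases P.mul_mem_union s hs n' hn b' hb with h | h
    · exact Or.inl (key _ _ h)
    · exact Or.inr (key _ _ h)
  · rintro _ ⟨s, hs, rfl⟩ heq
    refine P.conj_ne s hs (Set.ext fun g => ?_)
    have := Set.ext_iff.1 heq (e g)
    constructor
    · rintro ⟨b, hb, rfl⟩
      exact (hmem _ _).1 (this.1 ⟨e b, (hmem _ _).2 hb, by simp⟩)
    · intro hg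
      obtain ⟨b, hb, hbe⟩ := this.2 ((hmem _ _).2 hg)
      obtain ⟨b', rfl⟩ := e.surjective b
      exact ⟨b', (hmem _ _).1 hb, e.injective (by simpa using hbe)⟩

variable {D : ChevalleyDatum} {T : Model D} {F : Type*} [Field F] [Finite F] {K : Rels D F}
  {κ : ℕ} {P : IsoData} {e : ℕ} {A : FrameData T (κ := κ)} (Z : Frame K P e A)
  (W : Set (List (ℕ × F)))

variable (T K) in
/-- the isomorphism onto the subgroup of the general linear group -/
noncomputable def genEquiv : ↥(genG T K W) ≃* ↥(D.genSubgroup F W) :=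
  ((genG T K W).equivMapOfInjective _ Subtype.coe_injective).trans
    (MulEquiv.subgroupCongr (genG_map W))

theorem genEquiv_val (g : ↥(genG T K W)) :
    ((genEquiv T K W g : ↥(D.genSubgroup F W)) : GL D.Idx F) = ((g : ↥(D.group F)) : GL D.Idx F) :=
  rfl

include Z in
theorem mono_map : (mono (T.rel K)).map (D.group F).subtype = D.monomialSubgroup F := by
  refine le_antisymm ?_ ?_
  · rw [mono, Subgroup.map_sup, T.H_map, MonoidHom.map_closure]
    refine sup_le le_sup_left ((Subgroup.closure_le _).2 ?_)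
    rintro _ ⟨_, ⟨i, rfl⟩, rfl⟩
    refine (le_sup_right (a := D.diagonalSubgroup F) : _ ≤ D.monomialSubgroup F)
      (Subgroup.subset_closure ⟨(T.S.simple i).val, T.lt _, ?_⟩)
    exact T.mat_nOf K _ 1
  · refine sup_le ?_ ((Subgroup.closure_le _).2 ?_)
    · rw [← T.H_map K]; exact Subgroup.map_mono le_sup_left
    · rintro g ⟨r, hr, he⟩
      let r' : Fin T.tab.n := ⟨r, lt_of_lt_of_eq hr T.n_eq.symm⟩
      exact ⟨(T.rel K).nr r' 1, (Z.nr_coset r').mem_mono, Units.ext (by rw [he]; exact T.mat_nOf K r' 1)⟩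

/-- Cardinality of an intersection with the generated subgroup. -/
theorem card_inf {A₀ : Subgroup ↥(D.group F)} {A' : Subgroup (GL D.Idx F)}
    (h : A₀.map (D.group F).subtype = A') :
    Nat.card ↥(A' ⊓ D.genSubgroup F W) = Nat.card ↥(genG T K W ⊓ A₀) := by
  rw [← h, ← genG_map (T := T) (K := K) W, ← Subgroup.map_inf _ _ _ Subtype.coe_injective, inf_comm]
  exact Subgroup.card_map_of_injective Subtype.coe_injective

theorem subgroupOf_map {A₀ : Subgroup ↥(D.group F)} {A' : Subgroup (GL D.Idx F)}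
    (h : A₀.map (D.group F).subtype = A') :
    (A' ⊓ D.genSubgroup F W).subgroupOf (D.genSubgroup F W) =
      ((A₀ ⊓ genG T K W).subgroupOf (genG T K W)).map (genEquiv T K W).toMonoidHom := by
  ext y
  obtain ⟨x, rfl⟩ := (genEquiv T K W).surjective y
  rw [show (genEquiv T K W) x = (genEquiv T K W).toMonoidHom x from rfl,
    Subgroup.mem_map_iff_mem (genEquiv T K W).injective, Subgroup.mem_subgroupOf,
    Subgroup.mem_subgroupOf, Subgroup.mem_inf, Subgroup.mem_inf, ← h]
  show ((x : ↥(D.group F)) : GL D.Idx F) ∈ _ ∧ _ ↔ _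
  rw [← Subgroup.coe_subtype, Subgroup.mem_map_iff_mem Subtype.coe_injective]
  exact ⟨fun h1 => ⟨h1.1, x.2⟩, fun h1 => ⟨h1.1, ((genEquiv T K W) x).2⟩⟩

theorem commutator_transfer (h : commutator ↥(genG T K W) = ⊤) :
    commutator ↥(D.genSubgroup F W) = ⊤ := by
  rw [commutator_def] at h ⊢
  rw [← Subgroup.map_top_of_surjective (genEquiv T K W).toMonoidHom (genEquiv T K W).surjective,
    ← Subgroup.map_commutator, h]

theorem simple_transfer (h : IsSimpleGroup ↥(genG T K W) ∧ ¬ IsMulCommutative ↥(genG T K W)) :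
    IsSimpleGroup ↥(D.genSubgroup F W) ∧ ¬ IsMulCommutative ↥(D.genSubgroup F W) := by
  refine ⟨?_, fun hc => h.2 ⟨⟨fun a b => (genEquiv T K W).injective ?_⟩⟩⟩
  · haveI := h.1
    exact (genEquiv T K W).symm.isSimpleGroup
  · rw [map_mul, map_mul]
    exact hc.is_comm.comm _ _

theorem core_transfer {A₀ : Subgroup ↥(D.group F)} {A' : Subgroup (GL D.Idx F)}
    (h : A₀.map (D.group F).subtype = A')
    (hcore : ((A₀ ⊓ genG T K W).subgroupOf (genG T K W)).normalCore = ⊥) :
    ((A' ⊓ D.genSubgroup F W).subgroupOf (D.genSubgroup F W)).normalCore = ⊥ := by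
  rw [subgroupOf_map (T := T) (K := K) W h, eq_bot_iff]
  intro y hy
  obtain ⟨x, rfl⟩ := (genEquiv T K W).surjective y
  have hx : x ∈ ((A₀ ⊓ genG T K W).subgroupOf (genG T K W)).normalCore := by
    intro a
    have := hy (genEquiv T K W a)
    rw [← map_inv, ← map_mul, ← map_mul] at this
    exact (Subgroup.mem_map_iff_mem (genEquiv T K W).injective).1 this
  rw [hcore, Subgroup.mem_bot] at hx
  simp [hx]

variable {nj : Fin κ → ↥(D.group F)} (X : Gens Z (genG T K W) nj) {W0 : List (Fin κ)} (h0 : A.O.longB T.S W0 = true)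

include X h0 in
theorem card_U_twisted :
    Nat.card ↥(D.posUnipotent F ⊓ D.genSubgroup F W) =
      (W0.map fun k => Nat.card (X.data.X k)).prod := by
  rw [card_inf (T := T) (K := K) W (T.U_map K)]
  exact X.data.card_U1 (T.shapeR K) (X.longest h0)

include X in
theorem card_H_twisted :
    Nat.card ↥(D.diagonalSubgroup F ⊓ D.genSubgroup F W) = Nat.card ↥X.data.H1 := by
  rw [card_inf (T := T) (K := K) W (T.H_map K)]
  rfl

include X h0 in
theorem card_twisted {J : List (Fin κ)} (hJ : ∀ k, k ∈ J) :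
    Nat.card ↥(D.genSubgroup F W) = Nat.card ↥(X.data.par1 J) := by
  have := h0
  rw [X.data.par1_eq_top X.split hJ]
  exact (Nat.card_congr (genEquiv T K W).toEquiv).symm

variable (hd : A.O.distinctB T.S = true)
  (hnt : ∀ k, ∃ L : List (Fin T.tab.n), L.Sublist T.posList ∧ A.orth k = L ∧ L ≠ [])

include X h0 hd hnt in
theorem bnPair_twisted :
    ∃ Q : Cfsg.BNPair ↥(D.genSubgroup F W),
      Q.B = (D.borelSubgroup F ⊓ D.genSubgroup F W).subgroupOf (D.genSubgroup F W) ∧
      Q.N = (D.monomialSubgroup F ⊓ D.genSubgroup F W).subgroupOf (D.genSubgroup F W) := by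
  obtain ⟨P₀, hB, hN, -⟩ :=
    X.data.exists_bnPair (T.shapeR K) (X.longest h0) X.split Z.pres (X.proper hd hnt)
  obtain ⟨Q, hQB, hQN⟩ := exists_bnPair_map (genEquiv T K W) P₀
  exact ⟨Q, by rw [hQB, hB, subgroupOf_map W (T.B_map K)],
    by rw [hQN, hN, subgroupOf_map W (mono_map Z)]⟩

include X h0 in
theorem core_twisted
    (hfaith : ∀ h ∈ X.data.H1, (∀ k, ∀ a ∈ X.data.X k, Commute h a) → h = 1) :
    ((D.borelSubgroup F ⊓ D.genSubgroup F W).subgroupOf (D.genSubgroup F W)).normalCore = ⊥ :=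
  core_transfer W (T.B_map K) (X.data.normalCore_B1 (T.shapeR K) (X.longest h0) X.split hfaith)

include X in
theorem perfect_twisted
    (hX : ∀ k, ∀ a ∈ X.data.X k, a ∈ (commutator ↥(genG T K W)).map (genG T K W).subtype) :
    commutator ↥(D.genSubgroup F W) = ⊤ :=
  commutator_transfer W (X.data.commutator_eq_top X.split hX)

include X h0 hd hnt in
theorem simple_twisted [NeZero κ] (hirr : A.O.irrB T.S = true)
    (hX : ∀ k, ∀ a ∈ X.data.X k, a ∈ (commutator ↥(genG T K W)).map (genG T K W).subtype)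
    (hfaith : ∀ h ∈ X.data.H1, (∀ k, ∀ a ∈ X.data.X k, Commute h a) → h = 1) :
    IsSimpleGroup ↥(D.genSubgroup F W) ∧ ¬ IsMulCommutative ↥(D.genSubgroup F W) :=
  simple_transfer W (X.data.isSimple (T.shapeR K) (X.longest h0) X.split Z.pres (X.proper hd hnt) hX
    hfaith (irr_of_irrB (D := X.data) (O := A.O) rfl hirr))

include X h0 in
theorem weyl_twisted {Wg : Type*} [Group Wg] (ψ : Wg →* Equiv.Perm (Fin T.tab.n))
    (hψ : Function.Injective ψ) (w : Fin κ → Wg) (hw : ∀ k r, ψ (w k) r = T.S.actw (A.O.wd k) r)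
    (hgen : Subgroup.closure (Set.range w) = ⊤) :
    ∃ φ : ↥(D.monomialSubgroup F ⊓ D.genSubgroup F W) →* Wg, Function.Surjective φ ∧
      φ.ker = (D.diagonalSubgroup F ⊓ D.genSubgroup F W).subgroupOf
        (D.monomialSubgroup F ⊓ D.genSubgroup F W) := by
  obtain ⟨φ, hs, hk⟩ :=
    X.data.exists_weylHom (T.shapeR K) (X.longest h0) X.split Z.pres ψ hψ w hw hgen
  have eN : X.data.N1.map (D.group F).subtype = D.monomialSubgroup F ⊓ D.genSubgroup F W := by
    rw [Data.N1, Subgroup.map_inf _ _ _ Subtype.coe_injective, mono_map Z, genG_map, inf_comm]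
  let f : ↥X.data.N1 ≃* ↥(D.monomialSubgroup F ⊓ D.genSubgroup F W) :=
    (X.data.N1.equivMapOfInjective _ Subtype.coe_injective).trans (MulEquiv.subgroupCongr eN)
  refine ⟨φ.comp f.symm.toMonoidHom, hs.comp f.symm.surjective, ?_⟩
  ext y
  obtain ⟨x, rfl⟩ := f.surjective y
  rw [MonoidHom.mem_ker, MonoidHom.comp_apply, MulEquiv.coe_toMonoidHom, f.symm_apply_apply,
    ← MonoidHom.mem_ker, hk, Subgroup.mem_subgroupOf, Subgroup.mem_subgroupOf]
  show _ ↔ (D.group F).subtype (x : ↥(D.group F)) ∈ _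
  rw [← T.H_map K, ← genG_map (T := T) (K := K) W, ← Subgroup.map_inf _ _ _ Subtype.coe_injective,
    Subgroup.mem_map_iff_mem Subtype.coe_injective, inf_comm]
  rfl

end Cfsg.Agent.Twisted
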