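import Cfsg.Agent.Twisted.Basic

/-!
The double coset decomposition of a twisted group and its counting along a chain of parabolic subgroups.
-/

set_option autoImplicit false

namespace Cfsg.Agent.Twisted

open ChevGroup

variable {Φ I : Type*} {G : Type*} [Group G] {F : Type*} [Field F] {S : RootIdx Φ I}
  {R : RootRel G F S} {G₁ : Subgroup G} {K : Type*}

namespace Data

variable (D : Data R G₁ K)

/-- the negative root groups of the orbit `k` -/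
def Vk (k : K) : Subgroup G := Sg R (fun r => S.neg r ∈ D.cls k)

/-- What is needed for the Bruhat decomposition of `G₁`. -/
structure Split (D : Data R G₁ K) : Prop where
  gen : ∀ g ∈ G₁, g ∈ Subgroup.closure {y | ∃ k, y ∈ G₁ ∧ (y ∈ D.Uk k ∨ y ∈ D.Vk k)}
  rank : ∀ k, ∀ a ∈ D.X k, a ≠ 1 → ∃ b₁ ∈ D.B1, ∃ b₂ ∈ D.B1,
    D.nJ k * a * (D.nJ k)⁻¹ = b₁ * D.nJ k * b₂
  invol : ∀ k r, S.actw (D.wd k) (S.actw (D.wd k) r) = r
  dich : ∀ k W, D.Back k W ∨ ∀ r ∈ D.cls k, S.pos (S.neg (S.actw (D.aw W).reverse r))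

/-- `B₁` with the `nJ k`, `k` in `J` -/
def par1 (J : List K) : Subgroup G := D.B1 ⊔ Subgroup.closure (D.nJ '' {k | k ∈ J})

theorem B1_le_par1 (J : List K) : D.B1 ≤ D.par1 J := le_sup_left

theorem nJ_mem_par1 {J : List K} {k : K} (h : k ∈ J) : D.nJ k ∈ D.par1 J :=
  (le_sup_right (a := D.B1) : _ ≤ D.par1 J) (Subgroup.subset_closure ⟨k, h, rfl⟩)

theorem par1_nil : D.par1 [] = D.B1 := by simp [par1]

theorem par1_mono {J J' : List K} (h : ∀ k ∈ J, k ∈ J') : D.par1 J ≤ D.par1 J' :=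
  sup_le (D.B1_le_par1 J')
    ((Subgroup.closure_le _).2 fun _ ⟨k, hk, e⟩ => e ▸ D.nJ_mem_par1 (h k hk))

theorem nW_mem_par1 {J W : List K} (h : ∀ k ∈ W, k ∈ J) : D.nW W ∈ D.par1 J := by
  induction W with
  | nil => simp
  | cons k W ih =>
    rw [D.nW_cons]
    exact mul_mem (D.nJ_mem_par1 (h k (List.mem_cons_self ..)))
      (ih fun j hj => h j (List.mem_cons_of_mem _ hj))

theorem par1_le (J : List K) : D.par1 J ≤ G₁ :=
  sup_le inf_le_left ((Subgroup.closure_le _).2 fun _ ⟨k, _, e⟩ => e ▸ D.nJ_mem k)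

theorem nJ_conj_U1Uo (k : K) {c : G} (hc : c ∈ D.Uo k) (hc1 : c ∈ G₁) :
    D.nJ k * c * (D.nJ k)⁻¹ ∈ D.U1 :=
  Subgroup.mem_inf.2 ⟨mul_mem (mul_mem (D.nJ_mem k) hc1) (inv_mem (D.nJ_mem k)),
    D.Uo_le_U k (D.nJ_conj_Uo k hc)⟩

theorem nJ_inv_conj_U1Uo (k : K) {c : G} (hc : c ∈ D.Uo k) (hc1 : c ∈ G₁) :
    (D.nJ k)⁻¹ * c * D.nJ k ∈ D.U1 :=
  Subgroup.mem_inf.2 ⟨mul_mem (mul_mem (inv_mem (D.nJ_mem k)) hc1) (D.nJ_mem k),
    D.Uo_le_U k (D.nJ_inv_conj_Uo k hc)⟩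

variable {ι : Type*} [Fintype ι] [DecidableEq ι] (M : Shape R ι) {W0 : List K} (h0 : D.Longest W0)

include M h0 in
theorem B1_decomp (k : K) {b : G} (hb : b ∈ D.B1) :
    ∃ a ∈ D.X k, ∃ c ∈ D.Uo k, c ∈ G₁ ∧ ∃ h ∈ D.H1, b = a * c * h := by
  obtain ⟨u, hu, h, hh, rfl⟩ := D.exists_U1_H1 M h0 hb
  obtain ⟨a, ha, c, hc, rfl, ha', -⟩ := D.fixed_decomp M k hu.2 (D.fixed u hu.1)
  have haX := D.X_mem ha ha'
  refine ⟨a, haX, c, hc, ?_, h, hh, rfl⟩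
  have := mul_mem (inv_mem (Subgroup.mem_inf.1 haX).1) (Subgroup.mem_inf.1 hu).1
  simpa using this

include M h0 in
theorem B1_decomp' (k : K) {b : G} (hb : b ∈ D.B1) :
    ∃ h ∈ D.H1, ∃ c ∈ D.Uo k, c ∈ G₁ ∧ ∃ a ∈ D.X k, b = h * c * a := by
  obtain ⟨a, ha, c, hc, hc1, h, hh, e⟩ := D.B1_decomp M h0 k (inv_mem hb)
  exact ⟨h⁻¹, inv_mem hh, c⁻¹, inv_mem hc, inv_mem hc1, a⁻¹, inv_mem ha,
    by rw [← inv_inv b, e]; group⟩

theorem up_of_fix (k : K) {P : Subgroup G} (hBP : D.B1 ≤ P) {g : G}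
    (hg : ∀ a ∈ D.X k, g⁻¹ * a * g ∈ P)
    (hdec : ∀ b ∈ D.B1, ∃ h ∈ D.H1, ∃ c ∈ D.Uo k, c ∈ G₁ ∧ ∃ a ∈ D.X k, b = h * c * a) :
    Up D.B1 P (D.nJ k) g (D.nJ k * g) := by
  intro z hz
  obtain ⟨b, hb, rfl⟩ := mem_cell.1 hz
  obtain ⟨h, hh, c, hc, hc1, a, ha, rfl⟩ := hdec b hb
  refine mem_cell.2 ⟨(D.nJ k * h * (D.nJ k)⁻¹) * (D.nJ k * c * (D.nJ k)⁻¹),
    mul_mem (D.H1_le_B1 (D.nJ_conj_H1 k hh)) (D.U1_le_B1 (D.nJ_conj_U1Uo k hc hc1)), ?_⟩
  show _ = ((D.nJ k * (h * c * a * g) : G) : G ⧸ P)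
  refine QuotientGroup.eq.2 ?_
  simpa [mul_assoc] using hg a ha

theorem X_conj_mem_U1 {k : K} {W : List K} (h : D.Back k W) {a : G} (ha : a ∈ D.X k) :
    (D.nW W)⁻¹ * a * D.nW W ∈ D.U1 :=
  Subgroup.mem_inf.2 ⟨mul_mem (mul_mem (inv_mem (D.nW_mem W)) (Subgroup.mem_inf.1 ha).1) (D.nW_mem W),
    D.nW_inv_conj_Uk h (Subgroup.mem_inf.1 ha).2⟩

include M h0 in
theorem up_of_back {k : K} {W : List K} (h : D.Back k W) {P : Subgroup G} (hBP : D.B1 ≤ P) :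
    Up D.B1 P (D.nJ k) (D.nW W) (D.nW (k :: W)) := by
  rw [D.nW_cons]
  exact D.up_of_fix k hBP (fun a ha => hBP (D.U1_le_B1 (D.X_conj_mem_U1 h ha)))
    fun b hb => D.B1_decomp' M h0 k hb

variable (hS : D.Split)

include hS in
theorem nJ_sq (k : K) : D.nJ k * D.nJ k ∈ D.B1 :=
  D.H1_le_B1 (D.nJ_sq_mem k (hS.invol k))

include M h0 hS in
theorem rankOne (k : K) : RankOne D.B1 (D.nJ k) := by
  intro b hb
  obtain ⟨a, ha, c, hc, hc1, h, hh, rfl⟩ := D.B1_decomp M h0 k hb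
  set n := D.nJ k with hn
  have e : n * (a * c * h) * n =
      (n * a * n⁻¹) * ((n * c * n⁻¹) * (n * h * n⁻¹) * (n * n)) := by group
  have hm : (n * c * n⁻¹) * (n * h * n⁻¹) * (n * n) ∈ D.B1 :=
    mul_mem (mul_mem (D.U1_le_B1 (D.nJ_conj_U1Uo k hc hc1)) (D.H1_le_B1 (D.nJ_conj_H1 k hh)))
      (D.nJ_sq hS k)
  by_cases ha1 : a = 1
  · left
    rw [e, ha1]
    simpa using hm
  · right
    obtain ⟨b₁, hb₁, b₂, hb₂, e'⟩ := hS.rank k a ha ha1
    exact ⟨b₁, hb₁, _, mul_mem hb₂ hm, by rw [e, hn, e']; group⟩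

include M h0 in
theorem B1_mul_n (k : K) {b : G} (hb : b ∈ D.B1) :
    ∃ a : D.X k, ∃ b' ∈ D.B1, b * D.nJ k = (a : G) * D.nJ k * b' := by
  obtain ⟨a, ha, c, hc, hc1, h, hh, rfl⟩ := D.B1_decomp M h0 k hb
  exact ⟨⟨a, ha⟩, _, mul_mem (D.U1_le_B1 (D.nJ_inv_conj_U1Uo k hc hc1))
    (D.H1_le_B1 (D.nJ_inv_conj_H1 k hh)), by group⟩

include hS in
theorem x_n_sep (k : K) (s t : D.X k) (hst : s ≠ t) :
    ∃ b₁ ∈ D.B1, ∃ b₂ ∈ D.B1,
      ((s : G) * D.nJ k)⁻¹ * ((t : G) * D.nJ k) = b₁ * D.nJ k * b₂ := by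
  obtain ⟨b₁, hb₁, b₂, hb₂, e⟩ := hS.rank k _ (mul_mem (inv_mem s.2) t.2)
    (fun h => hst (Subtype.ext (inv_mul_eq_one.1 h)))
  set n := D.nJ k with hn
  refine ⟨(n * n)⁻¹ * b₁, mul_mem (inv_mem (D.nJ_sq hS k)) hb₁, b₂ * (n * n),
    mul_mem hb₂ (D.nJ_sq hS k), ?_⟩
  have e' : ((s : G) * n)⁻¹ * ((t : G) * n) =
      (n * n)⁻¹ * (n * ((s : G)⁻¹ * t) * n⁻¹) * (n * n) := by group
  rw [e', e]; group

include hS in
theorem le_par1_of_forall {J : List K} (hJ : ∀ k, k ∈ J) : G₁ ≤ D.par1 J := by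
  intro g hg
  refine (Subgroup.closure_le _).2 ?_ (hS.gen g hg)
  rintro y ⟨k, hy, h | h⟩
  · exact D.B1_le_par1 J (Subgroup.mem_inf.2 ⟨hy, R.U_le_B (D.Uk_le_U k h)⟩)
  · have h1 : (D.nJ k)⁻¹ * y * D.nJ k ∈ D.Uk k :=
      (D.nJ_coset k).inv_conj_Sg R (T' := (· ∈ D.cls k)) (fun r hr => by
        have := (D.wd_cls k _ hr).2
        rwa [S.actw_neg, S.neg_neg] at this) h
    have h2 : (D.nJ k)⁻¹ * y * D.nJ k ∈ D.B1 :=
      Subgroup.mem_inf.2 ⟨mul_mem (mul_mem (inv_mem (D.nJ_mem k)) hy) (D.nJ_mem k),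
        R.U_le_B (D.Uk_le_U k h1)⟩
    have h3 := mul_mem (mul_mem (D.nJ_mem_par1 (hJ k)) (D.B1_le_par1 J h2))
      (inv_mem (D.nJ_mem_par1 (hJ k)))
    simpa [mul_assoc] using h3

include hS in
theorem par1_eq_top {J : List K} (hJ : ∀ k, k ∈ J) : D.par1 J = G₁ :=
  le_antisymm (D.par1_le J) (D.le_par1_of_forall hS hJ)

theorem cell_nW_congr {P : Subgroup G} (hBP : D.B1 ≤ P) {A B : List K}
    (h : ∀ r, S.actw (D.aw A) r = S.actw (D.aw B) r) :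
    (D.nW A : G ⧸ P) = (D.nW B : G ⧸ P) := by
  refine (QuotientGroup.eq.2 ?_).symm
  exact hBP (D.H1_le_B1 (D.mem_H1_of_perm h))

include M h0 hS in
/-- The Bruhat decomposition of `G₁`. -/
theorem exists_bruhat [Fintype K] {g : G} (hg : g ∈ G₁) :
    ∃ W : List K, (g : G ⧸ D.B1) ∈ cell D.B1 D.B1 (D.nW W) := by
  classical
  have hg' : g ∈ D.B1 ⊔ Subgroup.closure (Set.range D.nJ) := by
    have := D.le_par1_of_forall hS (J := (Finset.univ : Finset K).toList) (by simp) hg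
    have hr : D.nJ '' {k | k ∈ (Finset.univ : Finset K).toList} = Set.range D.nJ := by ext; simp
    rwa [par1, hr] at this
  refine Set.mem_iUnion.1 (smul_one_mem_iUnion D.B1 D.B1 D.nJ D.nW le_rfl ([] : List K) (by simp)
    (D.nJ_sq hS) (D.rankOne M h0 hS) ?_ hg')
  intro k W
  rcases hS.dich k W with h | h
  · exact Or.inl ⟨_, D.up_of_back M h0 h le_rfl⟩
  · refine Or.inr ⟨k :: W, ?_⟩
    have h2 := D.up_of_back M h0 (D.back_cons h) le_rfl (P := D.B1)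
    have hc : cell D.B1 D.B1 (D.nW (k :: k :: W)) = cell D.B1 D.B1 (D.nW W) := by
      refine cell_eq_of_mem (mem_cell.2 ⟨D.nJ k * D.nJ k, D.nJ_sq hS k, ?_⟩)
      rw [D.nW_cons, D.nW_cons, mul_assoc]
    intro c hc'
    rw [← hc]
    exact h2 c hc'

/-- A certificate for one step of the chain of parabolic subgroups. -/
structure TStep (Φ K : Type*) where
  m : ℕ
  KS : List K
  JS : List K
  rep : Fin m → List K
  tgt : K → Fin m → Fin m
  v : K → Fin m → List K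
  T : Φ → Prop

/-- The certificate is correct. -/
structure Valid (C : TStep Φ K) : Prop where
  pos : 0 < C.m
  base : C.rep ⟨0, pos⟩ = []
  sub : ∀ j ∈ C.JS, j ∈ C.KS
  rep_mem : ∀ c, ∀ k ∈ C.rep c, k ∈ C.KS
  edge : ∀ k ∈ C.KS, ∀ c, (∀ j ∈ C.v k c, j ∈ C.JS) ∧
    (∀ r, S.actw (D.aw (k :: C.rep c)) r = S.actw (D.aw (C.rep (C.tgt k c) ++ C.v k c)) r) ∧
    (D.Back k (C.rep c) ∨ (C.tgt k c = c ∧ D.Back k (k :: C.rep c)) ∨
      (D.Back k (C.rep (C.tgt k c)) ∧ C.tgt k (C.tgt k c) = c))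
  chain : ∀ c : Fin C.m, c.val ≠ 0 → ∃ k ∈ C.KS, ∃ d, d < c ∧ C.rep c = k :: C.rep d ∧ D.Back k (C.rep d)
  disj : ∀ c d : Fin C.m,
    (∀ r, C.T r → ∃ s, C.T s ∧ S.actw (D.aw (C.rep c)) r = S.actw (D.aw (C.rep d)) s) → c = d
  T_inv : ∀ j ∈ C.JS, ∀ i ∈ D.wd j, ∀ r, C.T r → C.T (S.refl i r)

variable {C : TStep Φ K} (hC : D.Valid C)

include hC in
theorem edge_eq {k : K} (hk : k ∈ C.KS) (c : Fin C.m) :
    ((D.nJ k * D.nW (C.rep c) : G) : G ⧸ D.par1 C.JS) = (D.nW (C.rep (C.tgt k c)) : G ⧸ D.par1 C.JS) := by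
  rw [← D.nW_cons, D.cell_nW_congr (D.B1_le_par1 C.JS) (hC.edge k hk c).2.1]
  refine QuotientGroup.eq.2 ?_
  rw [D.nW_append]
  have := inv_mem (D.nW_mem_par1 (hC.edge k hk c).1)
  simpa [mul_assoc] using this

include M h0 hC in
theorem edge_up {k : K} (hk : k ∈ C.KS) (c : Fin C.m)
    (h : D.Back k (C.rep c) ∨ (C.tgt k c = c ∧ D.Back k (k :: C.rep c))) :
    Up D.B1 (D.par1 C.JS) (D.nJ k) (D.nW (C.rep c)) (D.nW (C.rep (C.tgt k c))) := by
  have hc : cell D.B1 (D.par1 C.JS) (D.nJ k * D.nW (C.rep c)) =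
      cell D.B1 (D.par1 C.JS) (D.nW (C.rep (C.tgt k c))) := by
    refine cell_eq_of_mem ?_
    rw [D.edge_eq hC hk c]
    exact self_mem_cell _ _ _
  have key : Up D.B1 (D.par1 C.JS) (D.nJ k) (D.nW (C.rep c)) (D.nJ k * D.nW (C.rep c)) := by
    rcases h with h | ⟨he, h⟩
    · rw [← D.nW_cons]; exact D.up_of_back M h0 h (D.B1_le_par1 _)
    · refine D.up_of_fix k (D.B1_le_par1 _) (fun a ha => ?_) fun b hb => D.B1_decomp' M h0 k hb
      have h1 := D.edge_eq hC hk c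
      rw [he, QuotientGroup.eq] at h1
      have h2 := D.B1_le_par1 C.JS (D.U1_le_B1 (D.X_conj_mem_U1 h ha))
      rw [D.nW_cons] at h2
      have := mul_mem (mul_mem (inv_mem h1) h2) h1
      simpa [mul_assoc] using this
  intro z hz
  rw [← hc]
  exact key z hz

include M h0 hS hC in
theorem step_cover {g : G} (hg : g ∈ D.par1 C.KS) :
    (g : G ⧸ D.par1 C.JS) ∈ ⋃ c, cell D.B1 (D.par1 C.JS) (D.nW (C.rep c)) := by
  refine smul_one_mem_iUnion D.B1 (D.par1 C.JS) (fun k : {k // k ∈ C.KS} => D.nJ k.1)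
    (fun c : Fin C.m => D.nW (C.rep c)) (D.B1_le_par1 _) ⟨0, hC.pos⟩ (by simp [hC.base])
    (fun k => D.nJ_sq hS k.1) (fun k => D.rankOne M h0 hS k.1) ?_ ?_
  · rintro ⟨k, hk⟩ c
    rcases (hC.edge k hk c).2.2 with h | h | ⟨h, he⟩
    · exact Or.inl ⟨_, D.edge_up M h0 hC hk c (Or.inl h)⟩
    · exact Or.inl ⟨_, D.edge_up M h0 hC hk c (Or.inr h)⟩
    · refine Or.inr ⟨C.tgt k c, ?_⟩
      have := D.edge_up M h0 hC hk (C.tgt k c) (Or.inl h)
      rwa [he] at this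
  · have : Set.range (fun k : {k // k ∈ C.KS} => D.nJ k.1) = D.nJ '' {k | k ∈ C.KS} := by
      ext; simp
    rw [this]; exact hg

include hC in
theorem step_disjoint (hT : ∀ r t, S.pos r → M.Pres C.T (R.x r t)) (c d : Fin C.m)
    (h : cell D.B1 (D.par1 C.JS) (D.nW (C.rep c)) = cell D.B1 (D.par1 C.JS) (D.nW (C.rep d))) :
    c = d := by
  set J : List I := C.JS.flatMap D.wd with hJ
  have hP : D.par1 C.JS ≤ R.par J := by
    refine sup_le (inf_le_right.trans (R.B_le_par J)) ((Subgroup.closure_le _).2 ?_)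
    rintro _ ⟨j, hj, rfl⟩
    obtain ⟨t, ht, e⟩ := D.nJ_coset j
    rw [e]
    exact mul_mem (R.B_le_par J (R.H_le_B ht))
      (R.nw_mem_par fun i hi => List.mem_flatMap.2 ⟨j, hj, hi⟩)
  refine hC.disj c d (M.image_of_cell_eq (P := R.par J) (fun p hp => M.pres_par hT ?_ hp) ?_)
  · intro i hi r hr
    obtain ⟨j, hj, hij⟩ := List.mem_flatMap.1 hi
    exact hC.T_inv j hj i hij r hr
  · refine cell_eq_of_mem ?_
    have hm := self_mem_cell D.B1 (D.par1 C.JS) (D.nW (C.rep c))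
    rw [h, mem_cell] at hm
    obtain ⟨b, hb, hbe⟩ := hm
    rw [QuotientGroup.eq] at hbe
    obtain ⟨tc, htc, ec⟩ := D.nW_coset (C.rep c)
    obtain ⟨td, htd, ed⟩ := D.nW_coset (C.rep d)
    rw [ec, ed] at hbe
    refine mem_cell.2 ⟨tc⁻¹ * b * td,
      mul_mem (mul_mem (R.H_le_B (inv_mem htc)) (Subgroup.mem_inf.1 hb).2) (R.H_le_B htd), ?_⟩
    refine QuotientGroup.eq.2 ?_
    simpa [mul_assoc] using hP hbe

include M h0 hS hC in
theorem step_card_cell (hT : ∀ r t, S.pos r → M.Pres C.T (R.x r t)) (hfin : ∀ k, Finite (D.X k)) :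
    ∀ c, (cell D.B1 (D.par1 C.JS) (D.nW (C.rep c))).Finite ∧
      Nat.card (cell D.B1 (D.par1 C.JS) (D.nW (C.rep c))) =
        ((C.rep c).map fun k => Nat.card (D.X k)).prod := by
  intro c
  obtain ⟨c, hc⟩ := c
  induction c using Nat.strong_induction_on with
  | _ c IH =>
    by_cases h : c = 0
    · subst h
      rw [hC.base, D.nW_nil, cell_one (D.B1_le_par1 _) (one_mem _)]
      simp
    · obtain ⟨k, hk, ⟨d, hd⟩, hdc, hrep, hback⟩ := hC.chain ⟨c, hc⟩ h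
      obtain ⟨hfind, hcard⟩ := IH d hdc hd
      have hup := D.up_of_back M h0 hback (D.B1_le_par1 C.JS)
      rw [← hrep] at hup
      have hne : cell D.B1 (D.par1 C.JS) (D.nW (C.rep ⟨d, hd⟩)) ≠
          cell D.B1 (D.par1 C.JS) (D.nW (C.rep ⟨c, hc⟩)) := fun e => by
        have := D.step_disjoint M hC hT _ _ e
        exact absurd (congrArg Fin.val this) (Nat.ne_of_lt hdc)
      have := hfin k
      have hx : ∀ t : D.X k, (t : G) ∈ D.B1 := fun t => D.U1_le_B1 (D.X_le_U1 k t.2)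
      have hbij := cell_bijective (F := D.X k) Subtype.val hx
        (fun b hb => D.B1_mul_n M h0 k hb) (fun s t hst => D.x_n_sep hS k s t hst) hup hne
      refine ⟨hbij.image_eq ▸ ((Set.finite_univ.prod hfind).image _), ?_⟩
      rw [card_cell_up (F := D.X k) Subtype.val hx
        (fun b hb => D.B1_mul_n M h0 k hb) (fun s t hst => D.x_n_sep hS k s t hst) hup hne, hcard,
        hrep, List.map_cons, List.prod_cons]

include M h0 hS hC in
/-- The number of cosets of one parabolic subgroup in the next. -/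
theorem relIndex_par1 (hT : ∀ r t, S.pos r → M.Pres C.T (R.x r t)) (hfin : ∀ k, Finite (D.X k)) :
    (D.par1 C.JS).relIndex (D.par1 C.KS) =
      ∑ c : Fin C.m, ((C.rep c).map fun k => Nat.card (D.X k)).prod := by
  rw [relIndex_eq_sum D.B1 (D.par1 C.JS) (D.par1 C.KS) (fun c : Fin C.m => D.nW (C.rep c))
    (D.B1_le_par1 _)]
  · exact Finset.sum_congr rfl fun c _ => (D.step_card_cell M h0 hS hC hT hfin c).2
  · exact fun c => D.nW_mem_par1 (hC.rep_mem c)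
  · exact fun g hg => D.step_cover M h0 hS hC hg
  · exact fun c d h => D.step_disjoint M hC hT c d h
  · exact fun c => (D.step_card_cell M h0 hS hC hT hfin c).1

/-- multiply the orders along one step of the chain -/
theorem card_par1_succ {J J' : List K} (hJ : ∀ k ∈ J, k ∈ J') :
    Nat.card (D.par1 J') = Nat.card (D.par1 J) * (D.par1 J).relIndex (D.par1 J') := by
  have hle := D.par1_mono hJ
  have h1 := Subgroup.relIndex_mul_relIndex ⊥ (D.par1 J) (D.par1 J') bot_le hle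
  rw [Subgroup.relIndex_bot_left, Subgroup.relIndex_bot_left] at h1
  exact h1.symm

end Data

end Cfsg.Agent.Twisted
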