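import Cfsg.Agent.Twisted.Gens

/-!
Every element fixed by `σ` lies in `G₁`: the canonical form `p n u` with `p` inverted by the word.
-/

set_option autoImplicit false

namespace Cfsg.Agent.Twisted

open ChevGroup

variable {Φ I : Type*} {G : Type*} [Group G] {F : Type*} [Field F] {S : RootIdx Φ I}
  {R : RootRel G F S} {G₁ : Subgroup G} {K : Type*}

namespace Data

variable (D : Data R G₁ K) {ι : Type*} [Fintype ι] [DecidableEq ι] (M : Shape R ι)

include M in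
/-- `U = (U ∩ n V n⁻¹) (U ∩ n U n⁻¹)` along a reduced word. -/
theorem U_split : ∀ W : List K, D.Red W → ∀ u ∈ R.U, ∃ p ∈ R.U, ∃ q ∈ R.U,
    (D.nW W)⁻¹ * p * D.nW W ∈ V R ∧ (D.nW W)⁻¹ * q * D.nW W ∈ R.U ∧ u = p * q := by
  intro W
  induction W with
  | nil => exact fun _ u hu => ⟨1, one_mem _, u, hu, by simp, by simpa using hu, (one_mul u).symm⟩
  | cons k W ih =>
    rintro ⟨hk, hW⟩ u hu
    obtain ⟨a, ha, c, hc, rfl⟩ := D.U_decomp k hu
    obtain ⟨p, hp, q, hq, hpv, hqu, e⟩ := ih hW _ (D.Uo_le_U k (D.nJ_inv_conj_Uo k hc))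
    have hpc : D.nJ k * p * (D.nJ k)⁻¹ ∈ D.Uo k :=
      D.nJ_conj_Uo k (D.Sg_Inv_le_Uo hk (D.mem_Inv M W hW p hp hpv))
    have ec : c = D.nJ k * p * (D.nJ k)⁻¹ * (D.nJ k * q * (D.nJ k)⁻¹) := by
      rw [show D.nJ k * p * (D.nJ k)⁻¹ * (D.nJ k * q * (D.nJ k)⁻¹) = D.nJ k * (p * q) * (D.nJ k)⁻¹ by group,
        ← e]
      group
    have hqc : D.nJ k * q * (D.nJ k)⁻¹ ∈ D.Uo k := by
      have := mul_mem (inv_mem hpc) hc
      rwa [ec, inv_mul_cancel_left] at this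
    refine ⟨a * (D.nJ k * p * (D.nJ k)⁻¹), mul_mem (D.Uk_le_U k ha) (D.Uo_le_U k hpc), _,
      D.Uo_le_U k hqc, ?_, ?_, ?_⟩
    · have := mul_mem (D.nW_cons_inv_conj_Uk hk ha) hpv
      simpa [mul_assoc] using this
    · simpa [mul_assoc] using hqu
    · rw [mul_assoc a, ← ec]

variable {W0 : List K} (h0 : D.Longest W0)
  (hneg : ∀ r, S.pos (S.neg r) → S.pos (S.neg (D.ρ r)))

include M h0 in
theorem B_fixed_mem {b : G} (hb : b ∈ R.B) (hfix : D.σ b = b) : b ∈ G₁ := by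
  obtain ⟨u, hu, h, hh, rfl⟩ := R.mem_B_iff.1 hb
  rw [map_mul] at hfix
  have e : u⁻¹ * D.σ u = h * (D.σ h)⁻¹ := by
    rw [eq_mul_inv_iff_mul_eq, mul_assoc, hfix, inv_mul_cancel_left]
  have h1 := M.U_inter_H (mul_mem (inv_mem hu) (D.σ_U hu)) (e ▸ mul_mem hh (inv_mem (D.map_H h hh)))
  have hu' : D.σ u = u := (inv_mul_eq_one.1 h1).symm
  rw [hu', mul_right_inj] at hfix
  exact mul_mem (Subgroup.mem_inf.1 (D.mem_U1_of_fixed M h0 hu hu')).1 (D.full_H h hh hfix)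

include M h0 hneg in
theorem cell_fixed_mem (W : List K) (hW : D.Red W) {b b' : G} (hb : b ∈ R.B) (hb' : b' ∈ R.B)
    (hfix : D.σ (b * D.nW W * b') = b * D.nW W * b') : b * D.nW W * b' ∈ G₁ := by
  obtain ⟨u, hu, h, hh, rfl⟩ := R.mem_B_iff.1 hb
  obtain ⟨p, hp, q, hq, hpv, hqu, rfl⟩ := D.U_split M W hW u hu
  set c := (D.nW W)⁻¹ * q * D.nW W * ((D.nW W)⁻¹ * h * D.nW W) * b' with hc
  have hcB : c ∈ R.B := by
    refine mul_mem (mul_mem (R.U_le_B hqu) (R.H_le_B ?_)) hb'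
    have := mono_conj_H R (inv_mem (D.nW_coset W).mem_mono) hh
    rwa [inv_inv] at this
  have e : p * q * h * D.nW W * b' = p * D.nW W * c := by rw [hc]; group
  rw [e] at hfix ⊢
  rw [map_mul, map_mul, D.fixed _ (D.nW_mem W)] at hfix
  have e2 : (D.nW W)⁻¹ * (p⁻¹ * D.σ p) * D.nW W = c * (D.σ c)⁻¹ := by
    rw [eq_mul_inv_iff_mul_eq]
    calc (D.nW W)⁻¹ * (p⁻¹ * D.σ p) * D.nW W * D.σ c
        = (D.nW W)⁻¹ * p⁻¹ * (D.σ p * D.nW W * D.σ c) := by group
      _ = c := by rw [hfix]; group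
  have hv : (D.nW W)⁻¹ * (p⁻¹ * D.σ p) * D.nW W ∈ V R := by
    have hσv : (D.nW W)⁻¹ * D.σ p * D.nW W ∈ V R := by
      have := D.σ_Sg (T := fun r => S.pos (S.neg r)) (T' := fun r => S.pos (S.neg r)) hneg hpv
      rwa [map_mul, map_mul, map_inv, D.fixed _ (D.nW_mem W)] at this
    have := mul_mem (inv_mem hpv) hσv
    simpa [mul_assoc] using this
  have h1 := Data.one_of_B_of_V M (e2 ▸ mul_mem hcB (inv_mem (D.σ_B hcB))) hv
  have hp' : D.σ p = p := by
    have := conj_eq_one_iff.1 (show (D.nW W)⁻¹ * (p⁻¹ * D.σ p) * ((D.nW W)⁻¹)⁻¹ = 1 by rwa [inv_inv])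
    exact (inv_mul_eq_one.1 this).symm
  have hc' : D.σ c = c := by rwa [hp', mul_right_inj] at hfix
  exact mul_mem (mul_mem (D.fixed_mem_of_red M W hW p hp hp' hpv) (D.nW_mem W)) (D.B_fixed_mem M h0 hcB hc')

variable (hinvol : ∀ k r, S.actw (D.wd k) (S.actw (D.wd k) r) = r)
  (hcomm : ∀ k r, D.ρ (S.actw (D.wd k) r) = S.actw (D.wd k) (D.ρ r))
  (hcov : ∀ i, ∃ k, S.simple i ∈ D.cls k)
  (horb : ∀ k, ∀ r ∈ D.cls k, ∀ s ∈ D.cls k, s = r ∨ s = D.ρ r ∨ s = D.ρ (D.ρ r))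

include D in
theorem perm_id_of_pos {u : List I} (h : ∀ r, S.pos r → S.pos (S.actw u r)) (r : Φ) : S.actw u r = r := by
  have hH := nw_mem_H_of_pos R h D.x_ne D.x_sep
  simpa using D.perm_eq_of_coset (a := R.nw u) (v := u) (w := []) ⟨1, one_mem _, (one_mul _).symm⟩
    ⟨R.nw u, hH, by simp⟩ r

include hneg hinvol hcomm hcov horb in
theorem exists_red_word [Finite Φ] (u : List I) (hu : ∀ r, D.ρ (S.actw u r) = S.actw u (D.ρ r)) :
    ∃ W, D.Red W ∧ ∀ r, S.actw (D.aw W).reverse r = S.actw u r := by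
  induction hN : Nat.card {r // S.pos r ∧ ¬ S.pos (S.actw u r)} using Nat.strong_induction_on
    generalizing u with
  | _ N IH =>
    subst hN
    by_cases h0 : ∀ r, S.pos r → S.pos (S.actw u r)
    · exact ⟨[], trivial, fun r => by simpa using (D.perm_id_of_pos h0 r).symm⟩
    obtain ⟨v, hv, -, -, t, ht, e⟩ := R.exists_red u.reverse
    have huv : ∀ r, S.actw u.reverse r = S.actw v r :=
      D.perm_eq_of_coset (a := R.nw u.reverse) ⟨1, one_mem _, (one_mul _).symm⟩ ⟨t, ht, e⟩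
    have hu' : ∀ r, S.actw u r = S.actw v.reverse r := fun r => by
      conv_lhs => rw [← S.actw_reverse v r, ← huv]
      rw [S.actw_reverse]
    cases v with
    | nil => exact absurd (fun r hr => by rw [hu']; simpa using hr) h0
    | cons i w =>
      obtain ⟨k, hk⟩ := hcov i
      have hsi : S.pos (S.neg (S.actw u (S.simple i))) := by
        rw [hu', List.reverse_cons, S.actw_append, S.actw_cons, S.actw_nil, S.refl_simple, S.actw_neg,
          S.neg_neg]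
        exact hv.1
      have hcls : ∀ r ∈ D.cls k, S.pos (S.neg (S.actw u r)) := by
        intro r hr
        rcases horb k _ hk r hr with rfl | rfl | rfl
        · exact hsi
        · rw [← hu]; exact hneg _ hsi
        · rw [← hu, ← hu]; exact hneg _ (hneg _ hsi)
      have hlt : Nat.card {r // S.pos r ∧ ¬ S.pos (S.actw (u ++ D.wd k) r)} <
          Nat.card {r // S.pos r ∧ ¬ S.pos (S.actw u r)} := by
        have hout : ∀ r, S.pos r → ¬ S.pos (S.actw (u ++ D.wd k) r) → r ∉ D.cls k := by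
          intro r _ hr hc
          apply hr
          rw [S.actw_append]
          have h1 := hcls _ (D.wd_cls k r hc).1
          rwa [S.actw_neg, S.neg_neg] at h1
        let f : {r // S.pos r ∧ ¬ S.pos (S.actw (u ++ D.wd k) r)} → {r // S.pos r ∧ ¬ S.pos (S.actw u r)} :=
          fun r => ⟨S.actw (D.wd k) r.1, (D.wd_other k r.1 r.2.1 (hout r.1 r.2.1 r.2.2)).1.1,
            by have := r.2.2; rwa [S.actw_append] at this⟩
        have hf : Function.Injective f := fun a b h => Subtype.ext (by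
          have h' : S.actw (D.wd k) (S.actw (D.wd k) a.1) = S.actw (D.wd k) (S.actw (D.wd k) b.1) :=
            congrArg (S.actw (D.wd k)) (congrArg Subtype.val h :)
          rwa [hinvol, hinvol] at h')
        refine lt_of_le_of_ne (Nat.card_le_card_of_injective f hf) fun heq => ?_
        obtain ⟨r, hr⟩ := ((Nat.bijective_iff_injective_and_card f).2 ⟨hf, heq⟩).surjective
          ⟨S.simple i, S.simple_pos i, fun h => S.not_pos_neg _ h hsi⟩
        have e1 : S.actw (D.wd k) r.1 = S.simple i := congrArg Subtype.val hr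
        exact (D.wd_other k r.1 r.2.1 (hout r.1 r.2.1 r.2.2)).1.2 (e1 ▸ hk)
      have hu2 : ∀ r, D.ρ (S.actw (u ++ D.wd k) r) = S.actw (u ++ D.wd k) (D.ρ r) := fun r => by
        rw [S.actw_append, S.actw_append, hu, hcomm]
      obtain ⟨W, hW, hWu⟩ := IH _ hlt _ hu2 rfl
      refine ⟨k :: W, ⟨fun r hr => ?_, hW⟩, fun r => ?_⟩
      · rw [hWu, S.actw_append]
        have h1 := hcls _ (D.wd_cls k r hr).1
        rwa [S.actw_neg, S.neg_neg] at h1
      · rw [D.actw_aw_cons_rev, hWu, S.actw_append, S.actw_reverse]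

variable (hT : ∀ r t, S.pos r → M.Pres S.pos (R.x r t))
  (hσn : ∀ w, ∃ w', InCoset R (D.σ (R.nw w)) w' ∧ ∀ r, S.actw w' (D.ρ r) = D.ρ (S.actw w r))
  (htop : R.B ⊔ Subgroup.closure (Set.range R.n) = ⊤)

include M h0 hneg hinvol hcomm hcov horb hT hσn htop in
theorem mem_of_fixed [Finite Φ] {g : G} (hfix : D.σ g = g) : g ∈ G₁ := by
  obtain ⟨b, hb, w, -, b', hb', e⟩ := R.exists_bruhat (g := g) (htop ▸ Subgroup.mem_top g)
  obtain ⟨w', ⟨t, ht, ew⟩, hw'⟩ := hσn w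
  have hcell : cell R.B R.B (R.nw w) = cell R.B R.B (R.nw w') := by
    refine cell_eq_of_mem (mem_cell.2 ⟨b⁻¹ * D.σ b * t,
      mul_mem (mul_mem (inv_mem hb) (D.σ_B hb)) (R.H_le_B ht), QuotientGroup.eq.2 ?_⟩)
    have e2 : D.σ b * (t * R.nw w') * D.σ b' = b * R.nw w * b' := by
      rw [← ew, ← map_mul, ← map_mul, ← e, hfix]
    have e3 : (b⁻¹ * D.σ b * t * R.nw w')⁻¹ * R.nw w = D.σ b' * b'⁻¹ :=
      calc (b⁻¹ * D.σ b * t * R.nw w')⁻¹ * R.nw w
          = (D.σ b * (t * R.nw w'))⁻¹ * (b * R.nw w * b') * b'⁻¹ := by group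
        _ = D.σ b' * b'⁻¹ := by rw [← e2]; group
    rw [e3]
    exact mul_mem (D.σ_B hb') (inv_mem hb')
  have hperm : ∀ r, S.actw w r = S.actw w' r := by
    intro r
    have hH := D.mem_H_of_cell_eq M hT hcell
    have := D.perm_eq_of_coset (a := R.nw (w'.reverse ++ w)) (v := w'.reverse ++ w) (w := [])
      ⟨1, one_mem _, (one_mul _).symm⟩
      ⟨_, hH, by simp⟩ r
    rw [S.actw_append, S.actw_nil] at this
    conv_rhs => rw [← this]
    rw [S.actw_reverse]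
  have hu : ∀ r, D.ρ (S.actw w.reverse r) = S.actw w.reverse (D.ρ r) := by
    intro r
    have h1 : S.actw w (D.ρ (S.actw w.reverse r)) = D.ρ r := by
      rw [hperm, hw', S.actw_reverse]
    rw [← h1, S.actw_reverse']
  obtain ⟨W, hW, hWu⟩ := D.exists_red_word hneg hinvol hcomm hcov horb w.reverse hu
  have hmem : (D.nW W)⁻¹ * R.nw w ∈ R.H := by
    obtain ⟨s, hs, eW⟩ := D.nW_coset W
    have hid : ∀ r, S.actw ((D.aw W).reverse ++ w) r = r := fun r => by
      rw [S.actw_append, hWu, S.actw_reverse']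
    have h1 := nw_mem_H_of_pos R (w := (D.aw W).reverse ++ w) (fun r hr => by rwa [hid r]) D.x_ne D.x_sep
    rw [R.nw_append] at h1
    have h2 := nw_reverse_mul R (D.aw W)
    have h3 := mono_conj_H R (inv_mem (D.nW_coset W).mem_mono) hs
    rw [inv_inv] at h3
    have h4 : (D.nW W)⁻¹ * R.nw w = ((D.nW W)⁻¹ * s * D.nW W)⁻¹ *
        ((R.nw (D.aw W).reverse * R.nw (D.aw W))⁻¹ * (R.nw (D.aw W).reverse * R.nw w)) := by
      rw [eW]; group
    rw [h4]
    exact mul_mem (inv_mem h3) (mul_mem (inv_mem h2) h1)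
  have e' : g = b * D.nW W * (((D.nW W)⁻¹ * R.nw w) * b') := by rw [e]; group
  rw [e'] at hfix ⊢
  exact D.cell_fixed_mem M h0 hneg W hW hb (mul_mem (R.H_le_B hmem) hb') hfix

end Data

end Cfsg.Agent.Twisted

namespace Cfsg.Agent.Twisted.Gens

open ChevGroup ChevIsogeny Cfsg.Lie

variable {D : ChevalleyDatum} {T : Model D} {F : Type*} [Field F] [Finite F] {K : Rels D F}
  {κ : ℕ} {P : IsoData} {e : ℕ} {A : FrameData T (κ := κ)} {Z : Frame K P e A}
  {G₁ : Subgroup ↥(D.group F)} {nj : Fin κ → ↥(D.group F)} (X : Gens Z G₁ nj)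

include X

/-- The fixed points of `σ` are `G₁`. -/
theorem mem_of_fixed {W0 : List (Fin κ)} (h0 : A.O.longB T.S W0 = true)
    (hcov : ∀ j, ∃ k, T.S.simple j ∈ A.O.cls k)
    (horb : ∀ k, ∀ r ∈ A.O.cls k, ∀ s ∈ A.O.cls k, s = r ∨ s = A.O.rho r ∨ s = A.O.rho (A.O.rho r))
    {g : ↥(D.group F)} (hfix : Z.σ g = g) : g ∈ G₁ :=
  X.data.mem_of_fixed (T.shapeR K) (X.longest h0)
    (fun r hr => by
      have := (OrbitData.root_of Z.O_ok (T.S.neg r)).1 hr
      rwa [(OrbitData.root_of Z.O_ok r).2.1] at this)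
    (OrbitData.invol Z.O_ok) (fun k r => (OrbitData.cls_root Z.O_ok k r).2.1) hcov horb Z.pres
    (fun w => ⟨w.map Z.iso.ρIF, ⟨1, one_mem _, (Z.σ_nw w).trans (one_mul _).symm⟩,
      fun r => Z.rho_actw w r⟩)
    (T.group_top K Z.witness_ok) hfix

end Cfsg.Agent.Twisted.Gens
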