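import Cfsg.Agent.Twisted.Torus

/-!
Fixed points of `σ` in the group generated by pairwise commuting root groups permuted by `ρ`.
-/

set_option autoImplicit false

namespace Cfsg.Agent.Twisted

open ChevGroup ChevIsogeny Cfsg.Lie

variable {D : ChevalleyDatum} {T : Model D} {F : Type*} [Field F] {K : Rels D F} {κ : ℕ}
  {P : IsoData} {e : ℕ} {A : FrameData T (κ := κ)}

/-- a list of roots, stable under `ρ`, with pairwise commuting root groups -/
def commListB (P : IsoData) (A : FrameData T (κ := κ)) (L : List (Fin T.tab.n)) : Bool :=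
  decide L.Nodup && (L.all fun r => decide (A.O.rho r ∈ L)) && decide ((L.map A.O.rho).Nodup) &&
  L.all fun r => L.all fun s => P.commuteB D r.val s.val

variable [Finite F] (Z : Frame K P e A)

namespace Frame

include Z

theorem commList_commute {L : List (Fin T.tab.n)} (hL : commListB P A L = true) {r s : Fin T.tab.n}
    (hr : r ∈ L) (hs : s ∈ L) (t u : F) : Commute ((T.rel K).x r t) ((T.rel K).x s u) := by
  simp only [commListB, Bool.and_eq_true, List.all_eq_true] at hL
  exact Z.commute_x (hL.2 r hr s hs) t u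

theorem prodX_mul {L : List (Fin T.tab.n)} (hL : ∀ r ∈ L, ∀ s ∈ L, ∀ t u : F,
      Commute ((T.rel K).x r t) ((T.rel K).x s u)) (v w : Fin T.tab.n → F) :
    prodX T K L v * prodX T K L w = prodX T K L (v + w) := by
  induction L with
  | nil => simp [prodX]
  | cons r L ih =>
    have h1 : Commute (prodX T K L v) ((T.rel K).x r (w r)) :=
      Commute.list_prod_left _ _ fun y hy => by
        obtain ⟨s, hs, rfl⟩ := List.mem_map.1 hy
        exact hL s (List.mem_cons_of_mem _ hs) r (List.mem_cons_self ..) _ _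
    have ih' := ih fun a ha b hb => hL a (List.mem_cons_of_mem _ ha) b (List.mem_cons_of_mem _ hb)
    simp only [prodX, List.map_cons, List.prod_cons, Pi.add_apply] at ih' h1 ⊢
    rw [(T.rel K).x_add, ← ih', mul_assoc ((T.rel K).x r (v r)), ← mul_assoc (List.prod _), h1.eq]
    group

theorem exists_prodX {L : List (Fin T.tab.n)} (hL : commListB P A L = true) {g : ↥(D.group F)}
    (hg : g ∈ Sg (T.rel K) (· ∈ L)) : ∃ v, g = prodX T K L v := by
  have hc : ∀ r ∈ L, ∀ s ∈ L, ∀ t u : F, Commute ((T.rel K).x r t) ((T.rel K).x s u) :=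
    fun r hr s hs => Z.commList_commute hL hr hs
  induction hg using Subgroup.closure_induction with
  | mem y hy =>
    obtain ⟨r, t, hr, rfl⟩ := hy
    classical
    refine ⟨fun u => if u = r then t else 0, ?_⟩
    simp only [commListB, Bool.and_eq_true, decide_eq_true_eq] at hL
    obtain ⟨⟨⟨hnd, -⟩, -⟩, -⟩ := hL
    clear hc
    induction L with
    | nil => simp at hr
    | cons a L ih =>
      rw [List.nodup_cons] at hnd
      rcases List.mem_cons.1 hr with rfl | hr'
      · have h1 : (L.map fun u => (T.rel K).x u (if u = r then t else 0)).prod = 1 :=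
          List.prod_eq_one fun y hy => by
            obtain ⟨s, hs, rfl⟩ := List.mem_map.1 hy
            rw [if_neg (fun e1 : s = r => hnd.1 (e1 ▸ hs))]; exact (T.rel K).x_zero s
        simp only [prodX, List.map_cons, List.prod_cons, h1, if_pos, mul_one]
      · have ha : a ≠ r := fun e => hnd.1 (e ▸ hr')
        simp only [prodX, List.map_cons, List.prod_cons, if_neg ha, (T.rel K).x_zero, one_mul]
        exact ih hr' hnd.2
  | one => exact ⟨0, (List.prod_eq_one fun y hy => by
      obtain ⟨s, -, rfl⟩ := List.mem_map.1 hy; exact (T.rel K).x_zero s).symm⟩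
  | mul a b _ _ ha hb =>
    obtain ⟨v, rfl⟩ := ha; obtain ⟨w, rfl⟩ := hb
    exact ⟨v + w, Z.prodX_mul hc v w⟩
  | inv a _ ha =>
    obtain ⟨v, rfl⟩ := ha
    refine ⟨-v, inv_eq_of_mul_eq_one_right ?_⟩
    rw [Z.prodX_mul hc, add_neg_cancel]
    exact List.prod_eq_one fun y hy => by
      obtain ⟨s, -, rfl⟩ := List.mem_map.1 hy; exact (T.rel K).x_zero s

/-- `σ` on a product of commuting root elements -/
theorem σ_prodX {L : List (Fin T.tab.n)} (hL : commListB P A L = true) (v w : Fin T.tab.n → F)
    (h : ∀ r ∈ L, w (A.O.rho r) = (P.ef r.val : F) * v r ^ IsoHyp.lam P e r.val) :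
    Z.σ (prodX T K L v) = prodX T K L w := by
  have hL' := hL
  simp only [commListB, Bool.and_eq_true, decide_eq_true_eq, List.all_eq_true] at hL'
  obtain ⟨⟨⟨hnd, hmem⟩, hnd'⟩, -⟩ := hL'
  have e1 : Z.σ (prodX T K L v) = ((L.map A.O.rho).map fun r => (T.rel K).x r (w r)).prod := by
    rw [prodX, map_list_prod, List.map_map, List.map_map]
    refine congrArg List.prod (List.map_congr_left fun r hr => ?_)
    simp only [Function.comp_apply, Z.σ_x, h r hr]
  have hsub : L.map A.O.rho ⊆ L := fun y hy => by
    obtain ⟨r, hr, rfl⟩ := List.mem_map.1 hy; exact hmem r hr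
  have hperm : (L.map A.O.rho).Perm L :=
    (List.subperm_of_subset hnd' hsub).perm_of_length_le (by simp)
  rw [e1, prodX]
  refine List.Perm.prod_eq' (hperm.map _) ?_
  have key : ∀ a ∈ (L.map A.O.rho).map fun r => (T.rel K).x r (w r),
      ∀ b ∈ (L.map A.O.rho).map fun r => (T.rel K).x r (w r), Commute a b := by
    intro a ha b hb
    obtain ⟨r, hr, rfl⟩ := List.mem_map.1 ha
    obtain ⟨s, hs, rfl⟩ := List.mem_map.1 hb
    exact Z.commList_commute hL (hsub hr) (hsub hs) _ _
  exact (List.Pairwise.imp_of_mem (fun {x y} hx hy _ => key x hx y hy)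
    (List.pairwise_of_forall (R := fun _ _ => True) fun _ _ => trivial))

/-- A product of commuting root elements whose parameters are permuted by `σ` is fixed. -/
theorem prodX_fixed {L : List (Fin T.tab.n)} (hL : commListB P A L = true) (v : Fin T.tab.n → F)
    (h : ∀ r ∈ L, v (A.O.rho r) = (P.ef r.val : F) * v r ^ IsoHyp.lam P e r.val) :
    Z.σ (prodX T K L v) = prodX T K L v := Z.σ_prodX hL v v h

/-- The fixed points in commuting positive root groups. -/
theorem fixed_commuting {L : List (Fin T.tab.n)} (hL : commListB P A L = true)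
    (hsub : L.Sublist T.posList) {g : ↥(D.group F)} (hg : g ∈ Sg (T.rel K) (· ∈ L))
    (hfix : Z.σ g = g) :
    ∃ v, g = prodX T K L v ∧
      ∀ r ∈ L, v (A.O.rho r) = (P.ef r.val : F) * v r ^ IsoHyp.lam P e r.val := by
  classical
  obtain ⟨v, rfl⟩ := Z.exists_prodX hL hg
  refine ⟨v, rfl, fun r hr => ?_⟩
  let inv : Fin T.tab.n → Fin T.tab.n := Function.surjInv Z.rho_surj
  have hinj : Function.Injective A.O.rho := Finite.injective_iff_surjective.2 Z.rho_surj
  let w : Fin T.tab.n → F := fun u => (P.ef (inv u).val : F) * v (inv u) ^ IsoHyp.lam P e (inv u).val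
  have hinv : ∀ u, inv (A.O.rho u) = u := fun u => hinj (Function.surjInv_eq Z.rho_surj _)
  have hw : ∀ u ∈ L, w (A.O.rho u) = (P.ef u.val : F) * v u ^ IsoHyp.lam P e u.val := fun u _ => by
    simp only [w, hinv]
  rw [Z.σ_prodX hL v w hw] at hfix
  have hmem : A.O.rho r ∈ L := by
    simp only [commListB, Bool.and_eq_true, decide_eq_true_eq, List.all_eq_true] at hL
    exact hL.1.1.2 r hr
  rw [← Z.prodX_inj hsub hfix _ hmem, hw r hr]

end Frame

end Cfsg.Agent.Twisted
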