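import Cfsg.Agent.Twisted.Cells
import Cfsg.Agent.Lib.BNPair.Simple
import Cfsg.Prelude.Def_LieExceptional

/-!
The (B, N)-pair of a twisted group, its Weyl group, perfectness, the core of `B₁` and simplicity.
-/

set_option autoImplicit false

open scoped commutatorElement

namespace Cfsg.Agent.Twisted

open ChevGroup

variable {Φ I : Type*} {G : Type*} [Group G] {F : Type*} [Field F] {S : RootIdx Φ I}

/-- the monomial subgroup -/
def mono (R : RootRel G F S) : Subgroup G := R.H ⊔ Subgroup.closure (Set.range R.n)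

theorem exists_coset_of_mem_mono (R : RootRel G F S) {g : G} (hg : g ∈ mono R) :
    ∃ w, InCoset R g w := by
  have key : ∀ y ∈ (R.H : Set G) ∪ Set.range R.n, ∃ w, InCoset R y w := by
    rintro y (hy | ⟨i, rfl⟩)
    · exact ⟨[], y, hy, by simp⟩
    · exact ⟨[i], 1, one_mem _, by simp⟩
  rw [mono, ← Subgroup.closure_eq R.H, ← Subgroup.closure_union] at hg
  induction hg using Subgroup.closure_induction with
  | mem y hy => exact key y hy
  | one => exact ⟨[], InCoset.one R⟩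
  | mul a b _ _ ha hb =>
    obtain ⟨v, hv⟩ := ha; obtain ⟨w, hw⟩ := hb; exact ⟨_, hv.mul R hw⟩
  | inv a _ ha => obtain ⟨v, hv⟩ := ha; exact ⟨_, hv.inv R⟩

theorem InCoset.mem_mono {R : RootRel G F S} {g : G} {w : List I} (h : InCoset R g w) :
    g ∈ mono R := by
  obtain ⟨t, ht, rfl⟩ := h
  refine mul_mem (le_sup_left (b := Subgroup.closure (Set.range R.n)) ht) ?_
  refine (le_sup_right (a := R.H) : _ ≤ mono R) ?_
  exact list_prod_mem fun y hy => by
    obtain ⟨i, -, rfl⟩ := List.mem_map.1 hy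
    exact Subgroup.subset_closure ⟨i, rfl⟩

theorem mono_conj_H (R : RootRel G F S) {g h : G} (hg : g ∈ mono R) (hh : h ∈ R.H) :
    g * h * g⁻¹ ∈ R.H := by
  obtain ⟨w, t, ht, rfl⟩ := exists_coset_of_mem_mono R hg
  have := mul_mem (mul_mem ht (nw_conj_mem_H R w hh)) (inv_mem ht)
  simpa [mul_assoc] using this

variable {R : RootRel G F S} {G₁ : Subgroup G} {K : Type*}

namespace Data

variable (D : Data R G₁ K)

/-- the monomial elements of `G₁` -/
def N1 (_ : Data R G₁ K) : Subgroup G := G₁ ⊓ mono R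

theorem nJ_mem_N1 (k : K) : D.nJ k ∈ D.N1 :=
  Subgroup.mem_inf.2 ⟨D.nJ_mem k, (D.nJ_coset k).mem_mono⟩

theorem H1_le_N1 : D.H1 ≤ D.N1 := inf_le_inf_left _ le_sup_left

theorem nW_mem_N1 (W : List K) : D.nW W ∈ D.N1 :=
  Subgroup.mem_inf.2 ⟨D.nW_mem W, (D.nW_coset W).mem_mono⟩

include D in
theorem perm_eq_of_coset {a : G} {v w : List I} (hv : InCoset R a v) (hw : InCoset R a w) (r : Φ) :
    S.actw v r = S.actw w r := by
  obtain ⟨e, he, h1⟩ := R.nw_conj v r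
  obtain ⟨t, ht, rfl⟩ := hv
  obtain ⟨b, -, h2⟩ := R.H_scales ht (S.actw v r)
  have h3 := hw.conj_Sg R (T := fun s => s = r) (T' := fun s => s = S.actw w r)
    (fun s hs => by rw [hs]) (x_mem_Sg R (T := fun s => s = r) (r := r) rfl (e * b⁻¹))
  by_cases hb : b = 0
  · exfalso
    apply D.x_ne (S.actw v r)
    have e1 := h2 1
    rw [hb, zero_mul, R.x_zero, mul_inv_eq_one, mul_eq_left] at e1
    exact e1
  · have h4 : t * R.nw v * R.x r (e * b⁻¹) * (t * R.nw v)⁻¹ = R.x (S.actw v r) 1 := by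
      have h5 : R.nw v * R.x r (e * b⁻¹) * (R.nw v)⁻¹ = R.x (S.actw v r) b⁻¹ := by
        rw [h1, ← mul_assoc, he, one_mul]
      have h6 := h2 b⁻¹
      rw [mul_inv_cancel₀ hb, ← h5] at h6
      rw [← h6]; group
    rw [h4] at h3
    exact D.x_sep _ _ h3

variable {ι : Type*} [Fintype ι] [DecidableEq ι] (M : Shape R ι) {W0 : List K} (h0 : D.Longest W0)
  (hS : D.Split) (hT : ∀ r t, S.pos r → M.Pres S.pos (R.x r t))

include D M hT in
theorem pres_B {b : G} (hb : b ∈ R.B) : M.Pres S.pos b :=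
  M.pres_par (J := []) hT (fun j hj => by simp at hj) (R.B_le_par _ hb)

include D M hT in
theorem mem_H_of_cell_eq {w v : List I} (h : cell R.B R.B (R.nw w) = cell R.B R.B (R.nw v)) :
    R.nw (v.reverse ++ w) ∈ R.H := by
  refine nw_mem_H_of_pos R (fun r hr => ?_) D.x_ne D.x_sep
  obtain ⟨s, hs, e⟩ := M.image_of_cell_eq (fun p hp => D.pres_B M hT hp) h r hr
  rw [S.actw_append, e, S.actw_reverse']
  exact hs

include D M hT in
theorem B1_inf_N1 {g : G} (hB : g ∈ R.B) (hN : g ∈ mono R) : g ∈ R.H := by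
  obtain ⟨w, t, ht, rfl⟩ := exists_coset_of_mem_mono R hN
  have hw : R.nw w ∈ R.B := by
    have := mul_mem (R.H_le_B (inv_mem ht)) hB
    simpa using this
  have h := D.mem_H_of_cell_eq M hT (w := w) (v := [])
    (by rw [cell_one le_rfl hw, R.nw_nil, cell_one le_rfl (one_mem _)])
  exact mul_mem ht (by simpa using h)

include M h0 hS hT in
theorem exists_nW_of_mem_N1 [Fintype K] {g : G} (hg : g ∈ D.N1) :
    ∃ W, (D.nW W)⁻¹ * g ∈ D.H1 := by
  obtain ⟨hg1, hgN⟩ := Subgroup.mem_inf.1 hg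
  obtain ⟨W, hW⟩ := D.exists_bruhat M h0 hS hg1
  obtain ⟨b, hb, e⟩ := mem_cell.1 hW
  rw [QuotientGroup.eq] at e
  obtain ⟨w, hw⟩ := exists_coset_of_mem_mono R hgN
  obtain ⟨t, ht, eg⟩ := id hw
  obtain ⟨s, hs, eW⟩ := D.nW_coset W
  have hc : cell R.B R.B (R.nw w) = cell R.B R.B (R.nw (D.aw W)) := by
    refine cell_eq_of_mem (mem_cell.2 ⟨t⁻¹ * b * s, ?_, QuotientGroup.eq.2 ?_⟩)
    · exact mul_mem (mul_mem (R.H_le_B (inv_mem ht)) (Subgroup.mem_inf.1 hb).2) (R.H_le_B hs)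
    · have := (Subgroup.mem_inf.1 e).2
      rw [eW, eg] at this
      simpa [mul_assoc] using this
  refine ⟨W, Subgroup.mem_inf.2 ⟨mul_mem (inv_mem (D.nW_mem W)) hg1, ?_⟩⟩
  obtain ⟨u, hu, eu⟩ := ((D.nW_coset W).inv R).mul R hw
  rw [eu]
  exact mul_mem hu (D.mem_H_of_cell_eq M hT hc)

/-- Hypotheses for the (B, N)-pair. -/
structure Proper (D : Data R G₁ K) : Prop where
  distinct : ∀ k k', k ≠ k' → ∃ r, S.pos r ∧ ¬ S.pos (S.actw (D.wd k) (S.actw (D.wd k') r))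
  nontriv : ∀ k, ∃ a ∈ D.X k, a ≠ 1

variable (hP : D.Proper)

include M h0 hS hT hP in
/-- The (B, N)-pair of `G₁`. -/
theorem exists_bnPair [Fintype K] :
    ∃ P : Cfsg.BNPair ↥G₁, P.B = (R.B ⊓ G₁).subgroupOf G₁ ∧
      P.N = (mono R ⊓ G₁).subgroupOf G₁ ∧
      P.S = Set.range (fun k => (⟨D.nJ k, D.nJ_mem k⟩ : ↥G₁)) := by
  classical
  have hB : ∀ g : ↥G₁, g ∈ (R.B ⊓ G₁).subgroupOf G₁ ↔ (g : G) ∈ D.B1 := fun g => by
    rw [Subgroup.mem_subgroupOf, B1, inf_comm]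
  have hN : ∀ g : ↥G₁, g ∈ (mono R ⊓ G₁).subgroupOf G₁ ↔ (g : G) ∈ D.N1 := fun g => by
    rw [Subgroup.mem_subgroupOf, N1, inf_comm]
  set B := (R.B ⊓ G₁).subgroupOf G₁
  set N := (mono R ⊓ G₁).subgroupOf G₁
  set s : K → ↥G₁ := fun k => ⟨D.nJ k, D.nJ_mem k⟩
  refine ⟨{ B := B, N := N, S := Set.range s, sup_eq_top := ?_, conj_mem := ?_, subset := ?_,
            sq_mem := ?_, inj := ?_, closure_sup := ?_, mul_mem_union := ?_, conj_ne := ?_ },
          rfl, rfl, rfl⟩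
  · rw [eq_top_iff]
    rintro g -
    obtain ⟨W, hW⟩ := D.exists_bruhat M h0 hS g.2
    obtain ⟨b, hb, e⟩ := mem_cell.1 hW
    rw [QuotientGroup.eq] at e
    have hbG := (Subgroup.mem_inf.1 hb).1
    have h1 : (⟨b, hbG⟩ : ↥G₁) ∈ B := (hB _).2 hb
    have h2 : (⟨D.nW W, D.nW_mem W⟩ : ↥G₁) ∈ N := (hN _).2 (D.nW_mem_N1 W)
    have h3 : (⟨b * D.nW W, mul_mem hbG (D.nW_mem W)⟩ : ↥G₁)⁻¹ * g ∈ B := (hB _).2 e
    have := mul_mem (mul_mem (Subgroup.mem_sup_left (T := N) h1) (Subgroup.mem_sup_right h2))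
      (Subgroup.mem_sup_left h3)
    convert this using 1
    exact Subtype.ext (by simp [mul_assoc])
  · intro n hn t ht
    obtain ⟨htB, htN⟩ := Subgroup.mem_inf.1 ht
    have h1 := D.B1_inf_N1 M hT (Subgroup.mem_inf.1 ((hB t).1 htB)).2
      (Subgroup.mem_inf.1 ((hN t).1 htN)).2
    refine (hB _).2 (D.H1_le_B1 (Subgroup.mem_inf.2 ⟨(n * t * n⁻¹).2, ?_⟩))
    exact mono_conj_H R (Subgroup.mem_inf.1 ((hN n).1 hn)).2 h1
  · rintro _ ⟨k, rfl⟩
    exact (hN _).2 (D.nJ_mem_N1 k)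
  · rintro _ ⟨k, rfl⟩
    exact (hB _).2 (D.nJ_sq hS k)
  · rintro _ ⟨k, rfl⟩ _ ⟨k', rfl⟩ h
    by_contra hne
    obtain ⟨r, hr, hnr⟩ := hP.distinct k k' (fun e => hne (e ▸ rfl))
    apply hnr
    have hg : (D.nJ k)⁻¹ * D.nJ k' ∈ R.B := (Subgroup.mem_inf.1 ((hB _).1 h)).2
    obtain ⟨t, ht, e⟩ := ((D.nJ_coset k).inv R).mul R (D.nJ_coset k')
    rw [e] at hg
    have hw : R.nw ((D.wd k).reverse ++ D.wd k') ∈ R.B := by
      have := mul_mem (R.H_le_B (inv_mem ht)) hg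
      simpa using this
    have hH := D.mem_H_of_cell_eq M hT (w := (D.wd k).reverse ++ D.wd k') (v := [])
      (by rw [cell_one le_rfl hw, R.nw_nil, cell_one le_rfl (one_mem _)])
    simp only [List.reverse_nil, List.nil_append] at hH
    have hp := D.perm_eq_of_coset (a := R.nw ((D.wd k).reverse ++ D.wd k'))
      (v := (D.wd k).reverse ++ D.wd k') (w := []) ⟨1, one_mem _, by simp⟩
      ⟨_, hH, by simp⟩ r
    have hrev : ∀ u, S.actw (D.wd k).reverse u = S.actw (D.wd k) u := fun u => by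
      conv_lhs => rw [← hS.invol k u]
      rw [S.actw_reverse']
    rw [S.actw_append, hrev, S.actw_nil] at hp
    rw [hp]; exact hr
  · refine le_antisymm (sup_le ((Subgroup.closure_le _).2 ?_) inf_le_right) ?_
    · rintro _ ⟨k, rfl⟩; exact (hN _).2 (D.nJ_mem_N1 k)
    · intro g hg
      obtain ⟨W, hW⟩ := D.exists_nW_of_mem_N1 M h0 hS hT ((hN g).1 hg)
      have h1 : (⟨D.nW W, D.nW_mem W⟩ : ↥G₁) ∈ Subgroup.closure (Set.range s) := by
        clear hW
        induction W with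
        | nil => exact one_mem _
        | cons k W ih =>
          have := mul_mem (Subgroup.subset_closure (k := Set.range s) ⟨k, rfl⟩) ih
          convert this using 1
          exact Subtype.ext (by simp [s])
      have h2 : (⟨D.nW W, D.nW_mem W⟩ : ↥G₁)⁻¹ * g ∈ B ⊓ N :=
        Subgroup.mem_inf.2 ⟨(hB _).2 (D.H1_le_B1 hW), (hN _).2 (D.H1_le_N1 hW)⟩
      simpa using mul_mem (Subgroup.mem_sup_left (T := B ⊓ N) h1) (Subgroup.mem_sup_right h2)
  · rintro _ ⟨k, rfl⟩ n hn b hb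
    obtain ⟨W, hW⟩ := D.exists_nW_of_mem_N1 M h0 hS hT ((hN n).1 hn)
    set t := (D.nW W)⁻¹ * (n : G) with ht
    have hnW : (n : G) = D.nW W * t := by rw [ht]; group
    have hc : (((b : G) * D.nW W : G) : G ⧸ D.B1) ∈ cell D.B1 D.B1 (D.nW W) :=
      mem_cell.2 ⟨b, (hB b).1 hb, rfl⟩
    have hconv : ∀ V : List K, D.nJ k • (((b : G) * D.nW W : G) : G ⧸ D.B1) ∈
          cell D.B1 D.B1 (D.nW V) →
        ∀ (g : ↥G₁) (h : G), h ∈ D.B1 → (g : G) = D.nW V * h →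
          s k * b * n ∈ DoubleCoset.doubleCoset g (B : Set ↥G₁) B := by
      intro V hV g h hh hg
      obtain ⟨b₁, hb₁, e⟩ := mem_cell.1 hV
      have e' : (D.nJ k * ((b : G) * D.nW W) : G ⧸ D.B1) = ((b₁ * D.nW V : G) : G ⧸ D.B1) := e.symm
      rw [QuotientGroup.eq] at e'
      have hb₁G := (Subgroup.mem_inf.1 hb₁).1
      set q := h⁻¹ * ((b₁ * D.nW V)⁻¹ * (D.nJ k * ((b : G) * D.nW W))) * t with hq
      have hqB : q ∈ D.B1 := by
        refine mul_mem (mul_mem (inv_mem hh) ?_) (D.H1_le_B1 hW)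
        have := inv_mem e'
        simpa [mul_assoc] using this
      refine DoubleCoset.mem_doubleCoset.2 ⟨⟨b₁, hb₁G⟩, (hB _).2 hb₁,
        ⟨q, (Subgroup.mem_inf.1 hqB).1⟩, (hB _).2 hqB, Subtype.ext ?_⟩
      simp only [Subgroup.coe_mul, hg, hq, hnW, s]
      group
    rcases hS.dich k W with hd | hd
    · refine Or.inl (hconv (k :: W) (D.up_of_back M h0 hd le_rfl _ hc) _ t (D.H1_le_B1 hW) ?_)
      simp [s, hnW, mul_assoc]
    · have h2 := D.up_of_back M h0 (D.back_cons hd) le_rfl (P := D.B1)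
      have hcell : cell D.B1 D.B1 (D.nW (k :: k :: W)) = cell D.B1 D.B1 (D.nW W) := by
        refine cell_eq_of_mem (mem_cell.2 ⟨D.nJ k * D.nJ k, D.nJ_sq hS k, ?_⟩)
        rw [D.nW_cons, D.nW_cons, mul_assoc]
      rcases down_of_up h2 (D.rankOne M h0 hS k) (hcell ▸ hc) with h | h
      · refine Or.inl (hconv (k :: W) h _ t (D.H1_le_B1 hW) ?_)
        simp [s, hnW, mul_assoc]
      · rw [hcell] at h
        exact Or.inr (hconv W h _ t (D.H1_le_B1 hW) hnW)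
  · rintro _ ⟨k, rfl⟩ heq
    obtain ⟨a, ha, ha1⟩ := hP.nontriv k
    have haG := (Subgroup.mem_inf.1 ha).1
    have haB : (⟨a, haG⟩ : ↥G₁) ∈ B := (hB _).2 (D.U1_le_B1 (D.X_le_U1 k ha))
    have h1 : s k * ⟨a, haG⟩ * s k ∈ (B : Set ↥G₁) := heq ▸ ⟨_, haB, rfl⟩
    have h2 : D.nJ k * a * D.nJ k ∈ D.B1 := (hB _).1 h1
    have h3 : D.nJ k * a * (D.nJ k)⁻¹ ∈ R.B := by
      have := mul_mem h2 (inv_mem (D.nJ_sq hS k))
      simpa [mul_assoc] using (Subgroup.mem_inf.1 this).2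
    have hV := low_of_V R M (D.nJ_conj_Uk k (Subgroup.mem_inf.1 ha).2)
    have ht := M.tri_of_B h3
    obtain ⟨u, hu, t, htH, e⟩ := R.mem_B_iff.1 h3
    have h4 : D.nJ k * a * (D.nJ k)⁻¹ = 1 := by
      refine M.eq_one ?_
      ext i j
      rcases eq_or_ne i j with rfl | hij
      · rw [hV i i le_rfl]; simp
      · rcases le_total (M.key i) (M.key j) with hk | hk
        · rw [ht.1 i j hij hk]; simp [hij]
        · rw [hV i j (neg_le_neg hk)]; simp [hij]
    exact ha1 (conj_eq_one_iff.1 h4)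

include M h0 hS hT in
/-- The Weyl group of `G₁`: a group `W` faithfully realised by the permutations of the roots. -/
theorem exists_weylHom [Fintype K] {W : Type*} [Group W] (ψ : W →* Equiv.Perm Φ)
    (hψ : Function.Injective ψ) (w : K → W) (hw : ∀ k r, ψ (w k) r = S.actw (D.wd k) r)
    (hgen : Subgroup.closure (Set.range w) = ⊤) :
    ∃ φ : ↥D.N1 →* W, Function.Surjective φ ∧ φ.ker = D.H1.subgroupOf D.N1 := by
  classical
  have hwd : ∀ V : List K, ∀ r, ψ (V.map w).prod r = S.actw (D.aw V) r := by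
    intro V
    induction V with
    | nil => simp
    | cons k V ih => intro r; simp [S.actw_append, ih, hw]
  have hex : ∀ g : ↥D.N1, ∃ x : W, ∀ v, InCoset R (g : G) v → ∀ r, ψ x r = S.actw v r := by
    intro g
    obtain ⟨V, hV⟩ := D.exists_nW_of_mem_N1 M h0 hS hT g.2
    refine ⟨(V.map w).prod, fun v hv r => ?_⟩
    rw [hwd]
    have h1 : InCoset R (g : G) (D.aw V) := by
      have h3 := (D.nW_coset V).mul R (b := (D.nW V)⁻¹ * (g : G)) (w := ([] : List I))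
        ⟨(D.nW V)⁻¹ * g, (Subgroup.mem_inf.1 hV).2, by simp⟩
      simpa using h3
    exact D.perm_eq_of_coset h1 hv r
  choose φ hφ using hex
  have hcos : ∀ g : ↥D.N1, ∃ v, InCoset R (g : G) v := fun g =>
    exists_coset_of_mem_mono R (Subgroup.mem_inf.1 g.2).2
  have hmul : ∀ g g', φ (g * g') = φ g * φ g' := by
    intro g g'
    refine hψ (Equiv.ext fun r => ?_)
    obtain ⟨v, hv⟩ := hcos g
    obtain ⟨v', hv'⟩ := hcos g'
    rw [map_mul, Equiv.Perm.mul_apply, hφ _ (v ++ v') (hv.mul R hv'), S.actw_append,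
      hφ _ _ hv', hφ _ _ hv]
  refine ⟨MonoidHom.mk' φ hmul, ?_, ?_⟩
  · intro x
    suffices x ∈ (MonoidHom.mk' φ hmul).range from this
    have : ⊤ ≤ (MonoidHom.mk' φ hmul).range := by
      rw [← hgen, Subgroup.closure_le]
      rintro _ ⟨k, rfl⟩
      refine ⟨⟨D.nJ k, D.nJ_mem_N1 k⟩, hψ (Equiv.ext fun r => ?_)⟩
      rw [hw]
      exact hφ _ _ (D.nJ_coset k) r
    exact this trivial
  · ext g
    rw [MonoidHom.mem_ker, Subgroup.mem_subgroupOf, MonoidHom.mk'_apply]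
    obtain ⟨v, hv⟩ := hcos g
    constructor
    · intro h
      refine Subgroup.mem_inf.2 ⟨(Subgroup.mem_inf.1 g.2).1, ?_⟩
      obtain ⟨t, ht, e⟩ := id hv
      rw [e]
      refine mul_mem ht (nw_mem_H_of_pos R (fun r hr => ?_) D.x_ne D.x_sep)
      rw [← hφ g v hv r, h]
      simpa using hr
    · intro h
      refine hψ (Equiv.ext fun r => ?_)
      rw [hφ g [] ⟨g, (Subgroup.mem_inf.1 h).2, by simp⟩ r]
      simp

include hS in
/-- Perfectness from the root groups of the orbits. -/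
theorem commutator_eq_top
    (hX : ∀ k, ∀ a ∈ D.X k, a ∈ (commutator ↥G₁).map G₁.subtype) : commutator ↥G₁ = ⊤ := by
  rw [eq_top_iff]
  rintro ⟨g, hg⟩ -
  suffices g ∈ (commutator ↥G₁).map G₁.subtype by
    obtain ⟨y, hy, e⟩ := this
    obtain rfl : y = ⟨g, hg⟩ := Subtype.ext e
    exact hy
  refine (Subgroup.closure_le _).2 ?_ (hS.gen g hg)
  rintro y ⟨k, hy, h | h⟩
  · exact hX k y (Subgroup.mem_inf.2 ⟨hy, h⟩)
  · have h1 : (D.nJ k)⁻¹ * y * D.nJ k ∈ D.X k := by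
      refine Subgroup.mem_inf.2 ⟨mul_mem (mul_mem (inv_mem (D.nJ_mem k)) hy) (D.nJ_mem k), ?_⟩
      refine (D.nJ_coset k).inv_conj_Sg R (T' := (· ∈ D.cls k)) (fun r hr => ?_) h
      have := (D.wd_cls k _ hr).2
      rwa [S.actw_neg, S.neg_neg] at this
    obtain ⟨a, ha, e⟩ := hX k _ h1
    refine ⟨⟨D.nJ k, D.nJ_mem k⟩ * a * ⟨D.nJ k, D.nJ_mem k⟩⁻¹,
      Subgroup.Normal.conj_mem inferInstance _ ha _, ?_⟩
    change a.val = _ at e
    change D.nJ k * a.val * (D.nJ k)⁻¹ = y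
    rw [e]; group

include M h0 hS in
/-- The normal core of `B₁` is trivial. -/
theorem normalCore_B1
    (hfaith : ∀ h ∈ D.H1, (∀ k, ∀ a ∈ D.X k, Commute h a) → h = 1) :
    ((R.B ⊓ G₁).subgroupOf G₁).normalCore = ⊥ := by
  classical
  rw [eq_bot_iff]
  intro g hg
  have hcore := fun x : ↥G₁ => hg x
  have hH : ∀ y ∈ ((R.B ⊓ G₁).subgroupOf G₁).normalCore, (y : G) ∈ D.H1 := by
    intro y hy
    have hyB : (y : G) ∈ D.B1 := by
      have := hy 1
      simp only [one_mul, inv_one, mul_one, Subgroup.mem_subgroupOf] at this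
      rwa [inf_comm] at this
    obtain ⟨u, hu, h, hh, e⟩ := D.exists_U1_H1 M h0 hyB
    have h1 := hy ⟨D.nW W0, D.nW_mem W0⟩⁻¹
    rw [Subgroup.mem_subgroupOf] at h1
    simp only [inv_inv, Subgroup.coe_mul, Subgroup.coe_inv] at h1
    have h2 := (Subgroup.mem_inf.1 h1).1
    rw [← e] at h2
    obtain ⟨t, ht, eW⟩ := D.nW_coset W0
    have h3 : (D.nW W0)⁻¹ * h * D.nW W0 ∈ R.H := by
      rw [eW]
      have := R.nw_inv_conj_mem_H (D.aw W0) (mul_mem (mul_mem (inv_mem ht) (Subgroup.mem_inf.1 hh).2) ht)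
      simpa [mul_assoc] using this
    have h4 : (D.nW W0)⁻¹ * u * D.nW W0 ∈ R.B := by
      have := mul_mem h2 (R.H_le_B (inv_mem h3))
      simpa [mul_assoc] using this
    have hl := low_of_V R M ((D.nW_coset W0).inv_conj_Sg R (T' := fun r => S.pos (S.neg r)) h0.2
      (Subgroup.mem_inf.1 hu).2)
    have htri := M.tri_of_B h4
    have h5 : (D.nW W0)⁻¹ * u * D.nW W0 = 1 := by
      refine M.eq_one ?_
      ext i j
      rcases eq_or_ne i j with rfl | hij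
      · rw [hl i i le_rfl]; simp
      · rcases le_total (M.key i) (M.key j) with hk | hk
        · rw [htri.1 i j hij hk]; simp [hij]
        · rw [hl i j (neg_le_neg hk)]; simp [hij]
    have h6 : u = 1 := by
      have := congrArg (fun x => D.nW W0 * x * (D.nW W0)⁻¹) h5
      simpa [mul_assoc] using this
    rw [← e, h6, one_mul]; exact hh
  rw [Subgroup.mem_bot]
  refine Subtype.ext (hfaith _ (hH g hg) fun k a ha => ?_)
  have haG := (Subgroup.mem_inf.1 ha).1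
  set A : ↥G₁ := ⟨a, haG⟩
  have hn : ((R.B ⊓ G₁).subgroupOf G₁).normalCore.Normal := inferInstance
  have h1 := hH _ (mul_mem hg (hn.conj_mem _ (inv_mem hg) A))
  have h2 : (g : G) * (a * (g : G)⁻¹ * a⁻¹) ∈ R.H := (Subgroup.mem_inf.1 h1).2
  have hgH := (Subgroup.mem_inf.1 (hH g hg)).2
  have h3 : (g : G) * (a * (g : G)⁻¹ * a⁻¹) ∈ R.U := by
    have ha' := (Subgroup.mem_inf.1 (D.X_le_U1 k ha)).2
    have := mul_mem (H_conj_Sg R (T := S.pos) hgH ha') (inv_mem ha')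
    rw [Sg_pos] at this
    simpa [mul_assoc] using this
  have h4 := M.U_inter_H h3 h2
  have h5 : (g : G) * a * (g : G)⁻¹ * a⁻¹ = 1 := by rw [← h4]; group
  exact mul_inv_eq_one.1 h5 |> fun e => mul_inv_eq_iff_eq_mul.1 e

include D M in
/-- `B₁` is solvable. -/
theorem isSolvable_B1 : Group.IsSolvable ↥((R.B ⊓ G₁).subgroupOf G₁) := by
  have hUH : R.U ⊓ R.H = ⊥ := by
    rw [eq_bot_iff]
    intro g hg
    exact Subgroup.mem_bot.2 (M.U_inter_H (Subgroup.mem_inf.1 hg).1 (Subgroup.mem_inf.1 hg).2)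
  have hcomm : ∀ a ∈ R.H, ∀ b ∈ R.H, a * b = b * a := by
    intro a ha b hb
    refine M.mat_inj ?_
    ext i j
    rw [M.mat_mul, M.mat_mul, Matrix.mul_apply, Matrix.mul_apply,
      Finset.sum_eq_single i (fun c _ hc => by rw [M.diag_of_H ha i c hc.symm, zero_mul]) (by simp),
      Finset.sum_eq_single i (fun c _ hc => by rw [M.diag_of_H hb i c hc.symm, zero_mul]) (by simp)]
    rcases eq_or_ne i j with rfl | hij
    · exact mul_comm _ _
    · rw [M.diag_of_H hb i j hij, M.diag_of_H ha i j hij, mul_zero, mul_zero]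
  have hUsol := M.isSolvable_U
  -- the derived group of `B` lies in `U`
  have hB : Group.IsSolvable ↥R.B := by
    have hn : (R.U.subgroupOf R.B).Normal := by
      constructor
      rintro ⟨u, _⟩ hu ⟨b, hb⟩
      obtain ⟨v, hv, t, ht, rfl⟩ := R.mem_B_iff.1 hb
      rw [Subgroup.mem_subgroupOf] at hu ⊢
      have h1 : t * u * t⁻¹ ∈ R.U := H_conj_Sg R (T := S.pos) ht hu
      have := mul_mem (mul_mem hv h1) (inv_mem hv)
      simpa [mul_assoc] using this
    have hq : ∀ a b : ↥R.B ⧸ R.U.subgroupOf R.B, a * b = b * a := by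
      intro a b
      have key : ∀ x : ↥R.B ⧸ R.U.subgroupOf R.B, ∃ t : ↥R.B, (t : G) ∈ R.H ∧ x = (t : ↥R.B ⧸ _) := by
        intro x
        obtain ⟨⟨y, hy⟩, rfl⟩ := QuotientGroup.mk_surjective x
        obtain ⟨v, hv, t, ht, rfl⟩ := R.mem_B_iff.1 hy
        refine ⟨⟨t, R.H_le_B ht⟩, ht, QuotientGroup.eq.2 ?_⟩
        rw [Subgroup.mem_subgroupOf]
        have h1 : t⁻¹ * v⁻¹ * t⁻¹⁻¹ ∈ R.U := H_conj_Sg R (T := S.pos) (inv_mem ht) (inv_mem hv)
        simpa [mul_assoc] using h1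
      obtain ⟨s, hs, rfl⟩ := key a
      obtain ⟨t, ht, rfl⟩ := key b
      rw [← QuotientGroup.mk_mul, ← QuotientGroup.mk_mul]
      exact congrArg _ (Subtype.ext (hcomm _ hs _ ht))
    have h1 : Group.IsSolvable (↥R.B ⧸ R.U.subgroupOf R.B) := Group.isSolvable_of_comm hq
    have h2 : Group.IsSolvable ↥(R.U.subgroupOf R.B) :=
      Group.isSolvable_of_isSolvable_injective
        (f := (Subgroup.subgroupOfEquivOfLe R.U_le_B).toMonoidHom)
        (Subgroup.subgroupOfEquivOfLe R.U_le_B).injective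
    exact Group.isSolvable_of_ker_le_range (R.U.subgroupOf R.B).subtype
      (QuotientGroup.mk' (R.U.subgroupOf R.B)) (by simp)
  let f : ↥((R.B ⊓ G₁).subgroupOf G₁) →* ↥R.B :=
    { toFun := fun x => ⟨(x.1 : G), (Subgroup.mem_inf.1 (Subgroup.mem_subgroupOf.1 x.2)).1⟩
      map_one' := rfl
      map_mul' := fun _ _ => rfl }
  exact Group.isSolvable_of_isSolvable_injective (f := f) fun x y e =>
    Subtype.ext (Subtype.ext (congrArg (Subtype.val : ↥R.B → G) e))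

include M h0 hS hT hP in
/-- Simplicity. -/
theorem isSimple [Fintype K] [Nonempty K]
    (hX : ∀ k, ∀ a ∈ D.X k, a ∈ (commutator ↥G₁).map G₁.subtype)
    (hfaith : ∀ h ∈ D.H1, (∀ k, ∀ a ∈ D.X k, Commute h a) → h = 1)
    (hirr : ∀ A : K → Prop, (∃ k, A k) → (∃ k, ¬ A k) → ∃ k k', A k ∧ ¬ A k' ∧ ∃ r, S.pos r ∧
      ¬ S.pos (S.actw (D.wd k ++ D.wd k' ++ D.wd k ++ D.wd k') r)) :
    IsSimpleGroup ↥G₁ ∧ ¬ IsMulCommutative ↥G₁ := by
  obtain ⟨P, hB, hN, hSS⟩ := D.exists_bnPair M h0 hS hT hP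
  have hperf := D.commutator_eq_top hS hX
  obtain ⟨k₀⟩ := ‹Nonempty K›
  obtain ⟨a, ha, ha1⟩ := hP.nontriv k₀
  have hnt : Nontrivial ↥G₁ := ⟨⟨a, (Subgroup.mem_inf.1 ha).1⟩, 1, fun h => ha1 (congrArg Subtype.val h)⟩
  refine ⟨?_, fun hc => ?_⟩
  swap
  · have hbot : commutator ↥G₁ = ⊥ := by
      rw [commutator_def, Subgroup.commutator_eq_bot_iff_le_centralizer]
      intro x _
      rw [Subgroup.mem_centralizer_iff]
      intro y _
      exact hc.is_comm.comm y x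
    exact top_ne_bot (hperf.symm.trans hbot)
  refine BN.isSimpleGroup_of_bnPair P ?_ (hB ▸ D.isSolvable_B1 M) hperf
    (hB ▸ D.normalCore_B1 M h0 hS hfaith)
  intro J hJ ⟨x, hx⟩ ⟨y, hy⟩
  set s : K → ↥G₁ := fun k => ⟨D.nJ k, D.nJ_mem k⟩ with hs
  have hxS := hJ hx
  have hyS := hy.1
  rw [hSS] at hxS hyS
  obtain ⟨kx, rfl⟩ := hxS
  obtain ⟨ky, rfl⟩ := hyS
  obtain ⟨k, k', hk, hk', r, hr, hnr⟩ := hirr (fun k => s k ∈ J) ⟨kx, hx⟩ ⟨ky, hy.2⟩
  refine ⟨s k, hk, s k', ⟨hSS ▸ ⟨k', rfl⟩, hk'⟩, fun hb => hnr ?_⟩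
  rw [hB, Subgroup.mem_subgroupOf] at hb
  have hb' := (Subgroup.mem_inf.1 hb).1
  simp only [hs, Subgroup.coe_mul, Subgroup.coe_inv] at hb'
  have hc := (((D.nJ_coset k).mul R (D.nJ_coset k')).mul R ((D.nJ_coset k).inv R)).mul R
    ((D.nJ_coset k').inv R)
  have hH := D.B1_inf_N1 M hT hb' hc.mem_mono
  have hp := D.perm_eq_of_coset hc (w := ([] : List I)) ⟨_, hH, by simp⟩ r
  have hrev : ∀ (j : K) u, S.actw (D.wd j).reverse u = S.actw (D.wd j) u := fun j u => by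
    conv_lhs => rw [← hS.invol j u]
    rw [S.actw_reverse']
  simp only [S.actw_append, hrev, S.actw_nil] at hp
  simp only [S.actw_append, hp]
  exact hr

end Data

end Cfsg.Agent.Twisted
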