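import Cfsg.Agent.Twisted.Orbits
import Cfsg.Agent.Twisted.BN

/-!
Boolean certificates over the orbit data: the longest word, properness, connectedness and the steps of the
chain of parabolic subgroups.
-/

set_option autoImplicit false

namespace Cfsg.Agent.Twisted

open ChevGroup

/-- Data of one step of the chain. -/
structure TStepData (n κ : ℕ) where
  m : ℕ
  KS : List (Fin κ)
  JS : List (Fin κ)
  rep : List (List (Fin κ))
  tgt : List (List ℕ)
  v : List (List (List (Fin κ)))
  span : List (Fin n)

namespace TStepData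

variable {n κ : ℕ} (d : TStepData n κ)

/-- the representative of a coset -/
def repF (c : Fin d.m) : List (Fin κ) := d.rep.getD c.val []

/-- the target of an edge -/
def tgtF (k : Fin κ) (c : Fin d.m) : Fin d.m :=
  haveI : NeZero d.m := ⟨(Nat.lt_of_le_of_lt (Nat.zero_le _) c.isLt).ne'⟩
  Fin.ofNat d.m ((d.tgt.getD k.val []).getD c.val 0)

/-- the tail of an edge -/
def vF (k : Fin κ) (c : Fin d.m) : List (Fin κ) := (d.v.getD k.val []).getD c.val []

/-- the abstract certificate -/
def toStep : Data.TStep (Fin n) (Fin κ) where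
  m := d.m
  KS := d.KS
  JS := d.JS
  rep := d.repF
  tgt := d.tgtF
  v := d.vF
  T r := r ∈ d.span

end TStepData

namespace OrbitData

variable {n l κ : ℕ} (S : RootIdx (Fin n) (Fin l)) (O : OrbitData n l κ) [DecidablePred S.pos]

/-- the root groups of the orbit stay positive -/
def backB (k : Fin κ) (W : List (Fin κ)) : Bool :=
  (O.cls k).all fun r => decide (S.pos (S.actw (O.word W).reverse r))

/-- every step of the word lengthens it -/
def redB : List (Fin κ) → Bool
  | [] => true
  | k :: W => O.backB S k W && redB W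

/-- the longest word -/
def longB (W : List (Fin κ)) : Bool :=
  O.redB S W &&
  (List.finRange n).all fun r =>
    !decide (S.pos r) || decide (S.pos (S.neg (S.actw (O.word W).reverse r)))

/-- different orbits give different reflections -/
def distinctB : Bool :=
  (List.finRange κ).all fun k => (List.finRange κ).all fun k' => decide (k = k') ||
    (List.finRange n).any fun r =>
      decide (S.pos r) && !decide (S.pos (S.actw (O.wd k) (S.actw (O.wd k') r)))

/-- the orbits are connected -/
def irrB : Bool :=
  (List.finRange κ).sublists.all fun A => decide (A = []) || ((List.finRange κ).all fun k => decide (k ∈ A)) ||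
    A.any fun k => (List.finRange κ).any fun k' => decide (k' ∉ A) && (List.finRange n).any fun r =>
      decide (S.pos r) && !decide (S.pos (S.actw (O.wd k ++ O.wd k' ++ O.wd k ++ O.wd k') r))

/-- a correct step -/
def stepB (d : TStepData n κ) : Bool :=
  decide (0 < d.m) && decide (d.rep.getD 0 [] = []) && (d.JS.all fun j => decide (j ∈ d.KS)) &&
  ((List.finRange d.m).all fun c => (d.repF c).all fun k => decide (k ∈ d.KS)) &&
  (d.KS.all fun k => (List.finRange d.m).all fun c =>
    (d.vF k c).all (fun j => decide (j ∈ d.JS)) &&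
    sameB S (O.word (k :: d.repF c)) (O.word (d.repF (d.tgtF k c) ++ d.vF k c)) &&
    (O.backB S k (d.repF c) || (decide (d.tgtF k c = c) && O.backB S k (k :: d.repF c)) ||
      (O.backB S k (d.repF (d.tgtF k c)) && decide (d.tgtF k (d.tgtF k c) = c)))) &&
  ((List.finRange d.m).all fun c => decide (c.val = 0) ||
    d.KS.any fun k => (List.finRange d.m).any fun e =>
      decide (e < c) && decide (d.repF c = k :: d.repF e) && O.backB S k (d.repF e)) &&
  ((List.finRange d.m).all fun c => (List.finRange d.m).all fun e => decide (c = e) ||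
    d.span.any fun r => d.span.all fun s =>
      decide (S.actw (O.word (d.repF c)) r ≠ S.actw (O.word (d.repF e)) s)) &&
  (d.JS.all fun j => (O.wd j).all fun i => d.span.all fun r => decide (S.refl i r ∈ d.span))

end OrbitData

open OrbitData

variable {n l κ : ℕ} {S : RootIdx (Fin n) (Fin l)} [DecidablePred S.pos] {O : OrbitData n l κ}
  {G : Type*} [Group G] {F : Type*} [Field F] {R : RootRel G F S} {G₁ : Subgroup G}
  {D : Data R G₁ (Fin κ)} (hc : D.cls = O.cls) (hw : D.wd = O.wd)

include hw in
theorem aw_eq (W : List (Fin κ)) : D.aw W = O.word W := by rw [Data.aw, hw]; rfl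

include hc hw in
theorem back_of_backB {k : Fin κ} {W : List (Fin κ)} (h : O.backB S k W = true) : D.Back k W := by
  simp only [backB, List.all_eq_true, decide_eq_true_eq] at h
  intro r hr
  rw [aw_eq hw]
  exact h r (hc ▸ hr)

include hc hw in
theorem longest_of_longB {W : List (Fin κ)} (h : O.longB S W = true) : D.Longest W := by
  simp only [longB, Bool.and_eq_true, List.all_eq_true, Bool.or_eq_true, Bool.not_eq_true',
    decide_eq_false_iff_not, decide_eq_true_eq] at h
  refine ⟨?_, fun r hr => ?_⟩
  · have h1 := h.1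
    clear h
    induction W with
    | nil => trivial
    | cons k W ih =>
      simp only [redB, Bool.and_eq_true] at h1
      exact ⟨back_of_backB hc hw h1.1, ih h1.2⟩
  · rw [aw_eq hw]
    exact (h.2 r (List.mem_finRange r)).resolve_left (not_not.2 hr)

include hw in
theorem distinct_of_distinctB (h : O.distinctB S = true) (k k' : Fin κ) (hne : k ≠ k') :
    ∃ r, S.pos r ∧ ¬ S.pos (S.actw (D.wd k) (S.actw (D.wd k') r)) := by
  simp only [distinctB, List.all_eq_true, Bool.or_eq_true, decide_eq_true_eq, List.any_eq_true,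
    Bool.and_eq_true, Bool.not_eq_true', decide_eq_false_iff_not] at h
  obtain ⟨r, -, hr⟩ := (h k (List.mem_finRange k) k' (List.mem_finRange k')).resolve_left hne
  exact ⟨r, by rw [hw]; exact hr⟩

include hw in
theorem irr_of_irrB (h : O.irrB S = true) (A : Fin κ → Prop) (hA : ∃ k, A k) (hA' : ∃ k, ¬ A k) :
    ∃ k k', A k ∧ ¬ A k' ∧ ∃ r, S.pos r ∧
      ¬ S.pos (S.actw (D.wd k ++ D.wd k' ++ D.wd k ++ D.wd k') r) := by
  classical
  simp only [irrB, List.all_eq_true, Bool.or_eq_true, decide_eq_true_eq, List.any_eq_true,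
    Bool.and_eq_true, Bool.not_eq_true', decide_eq_false_iff_not, List.mem_sublists] at h
  rcases h ((List.finRange κ).filter fun k => decide (A k)) (List.filter_sublist ..) with (e | e) |
    ⟨k, hk, k', -, hk', r, -, hr⟩
  · obtain ⟨k, hk⟩ := hA
    have : k ∈ (List.finRange κ).filter fun k => decide (A k) :=
      List.mem_filter.2 ⟨List.mem_finRange k, decide_eq_true hk⟩
    rw [e] at this
    exact absurd this (List.not_mem_nil)
  · obtain ⟨k, hk⟩ := hA'
    exact absurd (of_decide_eq_true (List.mem_filter.1 (e k (List.mem_finRange k))).2) hk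
  · refine ⟨k, k', of_decide_eq_true (List.mem_filter.1 hk).2, fun ha => hk' ?_, r, by rw [hw]; exact hr⟩
    exact List.mem_filter.2 ⟨List.mem_finRange k', decide_eq_true ha⟩

include hc hw in
theorem valid_of_stepB {d : TStepData n κ} (h : O.stepB S d = true) : D.Valid d.toStep := by
  simp only [stepB, Bool.and_eq_true, List.all_eq_true, decide_eq_true_eq, Bool.or_eq_true,
    List.any_eq_true] at h
  obtain ⟨⟨⟨⟨⟨⟨⟨hm, h0⟩, hsub⟩, hrep⟩, hedge⟩, hchain⟩, hdisj⟩, hT⟩ := h
  have heq : ∀ W, D.aw W = O.word W := aw_eq hw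
  refine ⟨hm, h0, hsub, fun c => hrep c (List.mem_finRange c), fun k hk c => ?_, fun c hc0 => ?_,
    fun c e hce => ?_, fun j hj i hi r hr => ?_⟩
  · obtain ⟨⟨h1, h2⟩, h3⟩ := hedge k hk c (List.mem_finRange c)
    refine ⟨h1, fun r => ?_, ?_⟩
    · rw [heq, heq]; exact same_of_sameB h2 r
    · rcases h3 with (h3 | h3) | h3
      · exact Or.inl (back_of_backB hc hw h3)
      · exact Or.inr (Or.inl ⟨h3.1, back_of_backB hc hw h3.2⟩)
      · exact Or.inr (Or.inr ⟨back_of_backB hc hw h3.1, h3.2⟩)
  · obtain ⟨k, hk, e, -, ⟨h1, h2⟩, h3⟩ := (hchain c (List.mem_finRange c)).resolve_left hc0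
    exact ⟨k, hk, e, h1, h2, back_of_backB hc hw h3⟩
  · rcases hdisj c (List.mem_finRange c) e (List.mem_finRange e) with h' | ⟨r, hr, h'⟩
    · exact h'
    · obtain ⟨s, hs, hrs⟩ := hce r hr
      rw [heq, heq] at hrs
      exact absurd hrs (h' s hs)
  · refine hT j hj i ?_ r hr
    rwa [hw] at hi

end Cfsg.Agent.Twisted
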