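import Cfsg.Agent.Twisted.Pieces
import Cfsg.Agent.Twisted.Transfer
import Cfsg.Agent.Twisted.Cert
import Mathlib.GroupTheory.Coxeter.Basic

/-!
Counting tools for the twisted groups: fixed parameters of the torus, parameters of `X k`, the steps of the chain,
commutators, and groups generated by two involutions.
-/

set_option autoImplicit false

open scoped commutatorElement

namespace Cfsg.Agent.Twisted

open ChevGroup ChevIsogeny Cfsg.Lie

/-- In a cyclic group the solutions of `x ^ n = 1`, `n` dividing the order, number `n`. -/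
theorem card_units_pow_eq_one {F : Type*} [Field F] [Fintype F] {n : ℕ}
    (h : n ∣ Fintype.card F - 1) : Nat.card {u : Fˣ // u ^ n = 1} = n := by
  have h1 := IsCyclic.card_powMonoidHom_ker (G := Fˣ) n
  rw [Nat.card_units, Nat.card_eq_fintype_card (α := F), Nat.gcd_eq_right h] at h1
  conv_rhs => rw [← h1]
  exact Nat.card_congr (Equiv.subtypeEquivRight fun u => by simp [MonoidHom.mem_ker])

/-- The solutions of `t ^ q = t` number `q`. -/
theorem card_fixed_pow {F : Type*} [Field F] [Fintype F] {q d : ℕ} (hq : 1 < q)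
    (hK : Fintype.card F = q ^ d) : Nat.card {t : F // t ^ q = t} = q := by
  classical
  have hdvd : q - 1 ∣ Fintype.card F - 1 := hK ▸ Nat.sub_one_dvd_pow_sub_one q d
  have h1 := card_units_pow_eq_one hdvd
  let f : Option {u : Fˣ // u ^ (q - 1) = 1} → {t : F // t ^ q = t}
    | none => ⟨0, zero_pow (Nat.ne_of_gt (Nat.lt_trans Nat.one_pos hq))⟩
    | some u => ⟨((u.1 : Fˣ) : F), by
        rw [← Units.val_pow_eq_pow_val]
        have := u.2
        rw [← pow_sub_mul_pow (u.1 : Fˣ) hq.le, this, one_mul, pow_one]⟩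
  have hf : Function.Bijective f := by
    constructor
    · rintro (_ | ⟨a, ha⟩) (_ | ⟨b, hb⟩) h
      · rfl
      · exact absurd (congrArg Subtype.val h).symm b.ne_zero
      · exact absurd (congrArg Subtype.val h) a.ne_zero
      · exact congrArg _ (Subtype.ext (Units.ext (congrArg Subtype.val h :)))
    · rintro ⟨t, ht⟩
      rcases eq_or_ne t 0 with rfl | h0
      · exact ⟨none, rfl⟩
      · refine ⟨some ⟨Units.mk0 t h0, Units.ext ?_⟩, rfl⟩
        have h2 : t ^ (q - 1) * t = t := by rw [← pow_succ, show q - 1 + 1 = q by omega, ht]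
        simpa using (mul_eq_right₀ h0).1 h2
  rw [← Nat.card_congr (Equiv.ofBijective f hf), Finite.card_option, h1]
  omega

/-- A group generated by two involutions `a`, `b`: every element is `(ab)^i a^e`. -/
theorem eq_dihedral {G : Type*} [Group G] {a b : G} (ha : a * a = 1) (hb : b * b = 1) {m : ℕ}
    (hm : 0 < m) (hab : (a * b) ^ m = 1) {g : G} (hg : g ∈ Subgroup.closure {a, b}) :
    ∃ i < m, g = (a * b) ^ i ∨ g = (a * b) ^ i * a := by
  have ea : a⁻¹ = a := inv_eq_of_mul_eq_one_right ha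
  have eb : b⁻¹ = b := inv_eq_of_mul_eq_one_right hb
  have key : ∀ i : ℤ, a * (a * b) ^ i = (a * b) ^ (-i) * a := by
    intro i
    have h := conj_zpow (i := i) (a := a) (b := a * b)
    rw [ea, ← mul_assoc a a b, ha, one_mul] at h
    rw [show a * (a * b) ^ i = (a * (a * b) ^ i * a) * a by simp [mul_assoc, ha], ← h]
    congr 1
    rw [zpow_neg, ← inv_zpow, mul_inv_rev, ea, eb]
  have hstep : ∀ x ∈ ({a, b} : Set G), ∀ y : G,
      (∃ i : ℤ, y = (a * b) ^ i ∨ y = (a * b) ^ i * a) →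
      ∃ i : ℤ, x * y = (a * b) ^ i ∨ x * y = (a * b) ^ i * a := by
    rintro x (rfl | rfl) y ⟨i, rfl | rfl⟩
    · exact ⟨-i, Or.inr (key i)⟩
    · exact ⟨-i, Or.inl (by rw [← mul_assoc, key, mul_assoc, ha, mul_one])⟩
    all_goals
      have hbq : x = (a * x)⁻¹ * a := by rw [mul_inv_rev, eb, ea, mul_assoc, ha, mul_one]
      refine ⟨-1 + -i, ?_⟩
    · refine Or.inr ?_
      conv_lhs => arg 1; rw [hbq]
      rw [mul_assoc, key, ← mul_assoc, zpow_add, zpow_neg_one]
    · refine Or.inl ?_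
      conv_lhs => arg 1; rw [hbq]
      rw [mul_assoc, ← mul_assoc a, key, mul_assoc ((a * x) ^ (-i)), ha, mul_one, zpow_add, zpow_neg_one]
  obtain ⟨i, hi⟩ : ∃ i : ℤ, g = (a * b) ^ i ∨ g = (a * b) ^ i * a := by
    induction hg using Subgroup.closure_induction_left with
    | one => exact ⟨0, Or.inl (zpow_zero _).symm⟩
    | mul_left x hx y _ ih => exact hstep x hx y ih
    | inv_mul_cancel x hx y _ ih =>
      have : x⁻¹ = x := by rcases hx with rfl | rfl <;> assumption
      rw [this]; exact hstep x hx y ih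
  have hi' : (a * b) ^ i = (a * b) ^ (i % (m : ℤ)).toNat := by
    conv_lhs => rw [← Int.emod_add_mul_ediv i m]
    rw [zpow_add, zpow_mul, zpow_natCast, hab, one_zpow, mul_one,
      ← zpow_natCast (a * b) (Int.toNat _), Int.toNat_of_nonneg (Int.emod_nonneg i (by omega))]
  exact ⟨(i % (m : ℤ)).toNat,
    (Int.toNat_lt (Int.emod_nonneg i (by omega))).2 (Int.emod_lt_of_pos i (by omega)), hi' ▸ hi⟩

/-- Conjugation by an element of a coset of the torus moves a root group to a root group. -/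
theorem InCoset.conj_x {Φ I G : Type*} [Group G] {F : Type*} [Field F] {S : RootIdx Φ I}
    {R : RootRel G F S} {g : G} {w : List I} (hg : InCoset R g w) (r : Φ) :
    ∃ k : F, k ≠ 0 ∧ ∀ t, g * R.x r t * g⁻¹ = R.x (S.actw w r) (k * t) := by
  obtain ⟨h, hh, rfl⟩ := hg
  obtain ⟨c, hc, hcw⟩ := R.nw_conj w r
  obtain ⟨a, ha, hah⟩ := R.H_scales hh (S.actw w r)
  refine ⟨a * c, mul_ne_zero ha (left_ne_zero_of_mul_eq_one hc), fun t => ?_⟩
  rw [mul_assoc a c t, ← hah, ← hcw]
  group

/-- The derived subgroup is normalised. -/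
theorem conj_mem_derived {G : Type*} [Group G] {G₁ : Subgroup G} {g z : G} (hg : g ∈ G₁)
    (hz : z ∈ ⁅G₁, G₁⁆) : g * z * g⁻¹ ∈ ⁅G₁, G₁⁆ := by
  have hz1 : z ∈ G₁ := by
    refine (Subgroup.commutator_le.2 fun a ha b hb => ?_ : ⁅G₁, G₁⁆ ≤ G₁) hz
    exact mul_mem (mul_mem (mul_mem ha hb) (inv_mem ha)) (inv_mem hb)
  have := mul_mem (Subgroup.commutator_mem_commutator hg hz1) hz
  simpa [commutatorElement_def, mul_assoc] using this

variable {D : ChevalleyDatum} {T : Model D} {F : Type*} [Field F] {K : Rels D F} {κ : ℕ}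
  {P : IsoData} {e : ℕ} {A : FrameData T (κ := κ)}

section
variable [Finite F]

namespace Frame

variable (Z : Frame K P e A)
include Z

/-- a root element as a commutator of two others -/
theorem x_mem_derived {G₁ : Subgroup ↥(D.group F)} {r s a : Fin T.tab.n} {c : ℤ}
    (h : D.commTerms r.val s.val = [(a.val, c, 1, 1)]) (h1 : s.val ≠ r.val)
    (h2 : s.val ≠ D.neg r.val) (hc : P.commuteB D s.val a.val = true) {t u : F}
    (ht : (T.rel K).x r t ∈ G₁) (hu : (T.rel K).x s u ∈ G₁) :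
    (T.rel K).x a ((c : F) * t * u) ∈ ⁅G₁, G₁⁆ := by
  have h3 := IsoHyp.conj_eq (T := T) (K := K) Z.iso.comm (T.lt r) (T.lt s) h1 h2 t u
  simp only [IsoHyp.xN_val, h, List.map_cons, List.map_nil, List.prod_cons, List.prod_nil, mul_one,
    IsoHyp.val, pow_one] at h3
  have h4 : ⁅(T.rel K).x r t, (T.rel K).x s u⁆ = (T.rel K).x a ((c : F) * t * u) := by
    rw [commutatorElement_def, ← (T.rel K).x_neg r, h3, (Z.commute_x hc _ _).eq,
      mul_inv_cancel_right]
  exact h4 ▸ Subgroup.commutator_mem_commutator ht hu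

theorem tor_prodX_conj (c : Fin T.tab.l → Fˣ) (L : List (Fin T.tab.n)) (v : Fin T.tab.n → F) :
    tor T K c * prodX T K L v * (tor T K c)⁻¹ = prodX T K L fun r => (chi T c r : F) * v r := by
  show MulAut.conj (tor T K c) (prodX T K L v) = _
  rw [prodX, map_list_prod, List.map_map]
  exact congrArg List.prod (List.map_congr_left fun r _ => Z.tor_conj c r (v r))

/-- products of commuting root elements as commutators with torus elements -/
theorem prodX_mem_derived {G₁ : Subgroup ↥(D.group F)} {L : List (Fin T.tab.n)}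
    (hL : commListB P A L = true) {c : Fin T.tab.l → Fˣ} {v w : Fin T.tab.n → F}
    (hc : tor T K c ∈ G₁) (hw : prodX T K L w ∈ G₁) (h : ∀ r ∈ L, ((chi T c r : F) - 1) * w r = v r) :
    prodX T K L v ∈ ⁅G₁, G₁⁆ := by
  have hcm := fun r (hr : r ∈ L) s (hs : s ∈ L) => Z.commList_commute hL hr hs
  have h4 : ⁅tor T K c, prodX T K L w⁆ = prodX T K L v := by
    rw [commutatorElement_def, Z.tor_prodX_conj, mul_inv_eq_iff_eq_mul, Z.prodX_mul hcm]
    refine Z.prodX_congr fun r hr => ?_
    rw [Pi.add_apply, ← h r hr]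
    ring
  exact h4 ▸ Subgroup.commutator_mem_commutator hc hw

/-- A torus element commuting with an ordered product is trivial on its roots. -/
theorem chi_eq_one_of_commute {L : List (Fin T.tab.n)} (hL : L.Sublist T.posList)
    (c : Fin T.tab.l → Fˣ) (v : Fin T.tab.n → F) (h : Commute (tor T K c) (prodX T K L v))
    (r : Fin T.tab.n) (hr : r ∈ L) (hv : v r ≠ 0) : chi T c r = 1 := by
  have h1 := Z.tor_prodX_conj c L v
  rw [h.eq, mul_inv_cancel_right] at h1
  have h2 := Z.prodX_inj hL h1 r hr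
  exact Units.ext (mul_right_cancel₀ hv (by rw [Units.val_one, one_mul]; exact h2.symm))

/-- the fixed parameter vectors -/
def fixedPar (pre : Fin T.tab.l → Fin T.tab.l) : Subgroup (Fin T.tab.l → Fˣ) :=
  (Z.sig pre).eqLocus (MonoidHom.id _)

theorem mem_fixedPar {pre : Fin T.tab.l → Fin T.tab.l} {c : Fin T.tab.l → Fˣ} :
    c ∈ Z.fixedPar pre ↔ Z.sig pre c = c := Iff.rfl

end Frame

namespace Gens

variable {Z : Frame K P e A} {G₁ : Subgroup ↥(D.group F)} {nj : Fin κ → ↥(D.group F)}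
  (X : Gens Z G₁ nj)
include X

theorem derived_eq : (commutator ↥G₁).map G₁.subtype = ⁅G₁, G₁⁆ := Subgroup.map_subtype_commutator _

/-- The fixed points of the torus are the images of the fixed parameter vectors. -/
theorem H1_eq (hA : TorOk A) {pre : Fin T.tab.l → Fin T.tab.l}
    (hpre : ∀ j, Z.iso.ρIF (pre j) = j) {k m : ℕ} {M : Fin T.tab.l → Fin T.tab.l → ℤ}
    (hM : A.invB k M = true) (hkm : Nat.Coprime k m)
    (hper : ∀ c : Fin T.tab.l → Fˣ, (⇑(Z.sig pre))^[m] c = c) :
    X.data.H1 = (Z.fixedPar pre).map Z.torHom := by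
  refine le_antisymm (fun h hh => ?_) ?_
  · exact Z.full_H_of hA hpre hM hkm hper (G₁ := (Z.fixedPar pre).map Z.torHom)
      (fun c hc => Subgroup.mem_map_of_mem Z.torHom hc) hh.2 (X.fixed h hh.1)
  · rintro _ ⟨c, hc, rfl⟩
    refine Subgroup.mem_inf.2 ⟨X.full_H _ (Z.tor_mem_H c) ?_, Z.tor_mem_H c⟩
    rw [Z.torHom_apply, Z.σ_tor hpre, (Z.mem_fixedPar).1 hc]

/-- The order of `H₁` from the fixed parameters and the ones acting trivially. -/
theorem card_H1_mul (hA : TorOk A) {pre : Fin T.tab.l → Fin T.tab.l}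
    (hpre : ∀ j, Z.iso.ρIF (pre j) = j) {k m : ℕ} {M : Fin T.tab.l → Fin T.tab.l → ℤ}
    (hM : A.invB k M = true) (hkm : Nat.Coprime k m)
    (hper : ∀ c : Fin T.tab.l → Fˣ, (⇑(Z.sig pre))^[m] c = c) :
    Nat.card {c : Fin T.tab.l → Fˣ // Z.sig pre c = c ∧ tor T K c = 1} * Nat.card ↥X.data.H1 =
      Nat.card ↥(Z.fixedPar pre) := by
  set f := Z.torHom.comp (Z.fixedPar pre).subtype with hf
  have h1 : f.range = X.data.H1 := by
    rw [X.H1_eq hA hpre hM hkm hper, hf, MonoidHom.range_comp, Subgroup.range_subtype]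
  have h2 := f.ker.card_mul_index
  rw [Subgroup.index_ker] at h2
  rw [← h1, ← h2]
  congr 1
  exact Nat.card_congr
    { toFun := fun c => ⟨⟨c.1, c.2.1⟩, c.2.2⟩
      invFun := fun c => ⟨c.1.1, c.1.2, c.2⟩
      left_inv := fun _ => rfl
      right_inv := fun _ => rfl }

/-- The order of `X k` from a parametrisation. -/
theorem card_X_of {k : Fin κ} {α : Type*} {L : List (Fin T.tab.n)} (hL : L.Sublist T.posList)
    (f : α → Fin T.tab.n → F) (hf : ∀ a b, (∀ r ∈ L, f a r = f b r) → a = b)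
    (hmem : ∀ a, prodX T K L (f a) ∈ X.data.X k)
    (hsurj : ∀ g ∈ X.data.X k, ∃ a, g = prodX T K L (f a)) :
    Nat.card ↥(X.data.X k) = Nat.card α := by
  refine (Nat.card_congr (Equiv.ofBijective (fun a => (⟨_, hmem a⟩ : ↥(X.data.X k))) ⟨?_, ?_⟩)).symm
  · intro a b hab
    exact hf a b fun r hr => Z.prodX_inj hL (congrArg Subtype.val hab :) r hr
  · rintro ⟨g, hg⟩
    obtain ⟨a, rfl⟩ := hsurj g hg
    exact ⟨a, rfl⟩

/-- one step of the chain of parabolic subgroups -/
theorem card_step {W0 : List (Fin κ)} (h0 : A.O.longB T.S W0 = true) {d : TStepData T.tab.n κ}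
    (hd : A.O.stepB T.S d = true) (hspan : Mat.spanB D (d.span.map Fin.val) = true) :
    Nat.card ↥(X.data.par1 d.KS) = Nat.card ↥(X.data.par1 d.JS) *
      ∑ c : Fin d.m, ((d.repF c).map fun k => Nat.card (X.data.X k)).prod := by
  have hV := X.valid hd
  rw [X.data.card_par1_succ (J := d.JS) (J' := d.KS) hV.sub]
  have hP : ∀ r t, T.S.pos r → (T.shapeR K).Pres d.toStep.T ((T.rel K).x r t) :=
    fun r t hr => T.pres_of_spanB K hspan r t hr
  have hF : ∀ k, Finite (X.data.X k) := fun k => inferInstance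
  have h1 := X.data.relIndex_par1 (T.shapeR K) (X.longest h0) X.split hV hP hF
  exact congrArg _ h1

/-- the order of `B₁` -/
theorem card_par1_nil {W0 : List (Fin κ)} (h0 : A.O.longB T.S W0 = true) :
    Nat.card ↥(X.data.par1 []) =
      (W0.map fun k => Nat.card (X.data.X k)).prod * Nat.card ↥X.data.H1 := by
  rw [X.data.par1_nil, X.data.card_B1 (T.shapeR K) (X.longest h0),
    X.data.card_U1 (T.shapeR K) (X.longest h0)]

/-- Only `1` in `H₁` centralises all `X k`. -/
theorem faith (hA : TorOk A)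
    (hsimple : ∀ j, ∃ k, T.S.simple j ∈ A.orth k ∧ (A.orth k).Sublist T.posList) :
    ∀ h ∈ X.data.H1, (∀ k, ∀ a ∈ X.data.X k, Commute h a) → h = 1 := by
  intro h hh hcom
  obtain ⟨c, rfl⟩ := Z.exists_tor hA hh.2
  refine Z.tor_eq_one hA fun j => ?_
  obtain ⟨k, hj, hL⟩ := hsimple j
  refine Z.chi_eq_one_of_commute hL c (fun _ => 1) ?_ _ hj one_ne_zero
  refine hcom k _ (Subgroup.mem_inf.2 ⟨X.og_mem k, ?_⟩)
  exact Subgroup.list_prod_mem _ fun y hy => by
    obtain ⟨r, hr, rfl⟩ := List.mem_map.1 hy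
    exact x_mem_Sg _ (T := fun r => r ∈ A.O.cls k) (Z.orth_cls k r hr) 1

end Gens

end

end Cfsg.Agent.Twisted
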