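import Cfsg.Agent.Twisted.Cert

/-!
The rank one property of an orbit: a non-trivial fixed element of the negative root groups of the orbit lies in
`B₁ nJ B₁`, by the uniqueness of the decomposition `b n u` in the parabolic subgroup of the orbit.
-/

set_option autoImplicit false

namespace Cfsg.Agent.Twisted

open ChevGroup

variable {Φ I : Type*} {G : Type*} [Group G] {F : Type*} [Field F] {S : RootIdx Φ I}
  {R : RootRel G F S}

/-- The parabolic subgroup of a set of letters is covered by the cells of their words. -/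
theorem exists_word_of_par {J : List I} {g : G} (hg : g ∈ R.par J) :
    ∃ w : List I, (∀ i ∈ w, i ∈ J) ∧ ∃ b ∈ R.B, ∃ b' ∈ R.B, g = b * R.nw w * b' := by
  have h := smul_one_mem_iUnion R.B R.B (fun i : {i // i ∈ J} => R.n i.1)
    (fun w : {w : List I // ∀ i ∈ w, i ∈ J} => R.nw w.1) le_rfl ⟨[], by simp⟩ (by simp)
    (fun i => R.H_le_B (R.n_sq_mem_H i.1)) (fun i => R.rankOne i.1) ?_
    (g := g) (by
      have : Set.range (fun i : {i // i ∈ J} => R.n i.1) = R.n '' {j | j ∈ J} := by ext; simp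
      rw [this]; exact hg)
  · obtain ⟨⟨w, hw⟩, hc⟩ := Set.mem_iUnion.1 h
    obtain ⟨b, hb, he⟩ := mem_cell.1 hc
    rw [QuotientGroup.eq] at he
    exact ⟨w, hw, b, hb, _, he, by group⟩
  · rintro ⟨i, hi⟩ ⟨u, hu⟩
    have hiu : ∀ j ∈ i :: u, j ∈ J := fun j hj => by
      rcases List.mem_cons.1 hj with rfl | hj
      · exact hi
      · exact hu j hj
    by_cases hp : S.pos (S.actw u.reverse (S.simple i))
    · exact Or.inl ⟨⟨i :: u, hiu⟩, R.up_of_pos hp⟩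
    · refine Or.inr ⟨⟨i :: u, hiu⟩, ?_⟩
      have hp' : S.pos (S.actw (i :: u).reverse (S.simple i)) := by
        rw [List.reverse_cons, S.actw_append, S.actw_cons, S.actw_nil, S.refl_simple, S.actw_neg]
        exact (S.pos_or_neg _).resolve_left hp
      have h := R.up_of_pos hp'
      have hc : cell R.B R.B (R.nw (i :: i :: u)) = cell R.B R.B (R.nw u) := by
        refine cell_eq_of_mem (mem_cell.2 ⟨R.n i * R.n i, R.H_le_B (R.n_sq_mem_H i), ?_⟩)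
        rw [R.nw_cons, R.nw_cons, mul_assoc]
      intro c hc'
      show R.n i • c ∈ cell R.B R.B (R.nw u)
      rw [← hc]
      exact h c hc'

variable {G₁ : Subgroup G} {K : Type*} (D : Data R G₁ K) {ι : Type*} [Fintype ι] [DecidableEq ι]
  (M : Shape R ι)

namespace Data

include M in
theorem one_of_B_of_V {g : G} (hB : g ∈ R.B) (hV : g ∈ V R) : g = 1 := by
  have hl := low_of_V R M hV
  have ht := M.tri_of_B hB
  refine M.eq_one ?_
  ext i j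
  rcases eq_or_ne i j with rfl | hij
  · rw [hl i i le_rfl]; simp
  · rcases le_total (M.key i) (M.key j) with hk | hk
    · rw [ht.1 i j hij hk]; simp [hij]
    · rw [hl i j (neg_le_neg hk)]; simp [hij]

theorem σ_B {b : G} (hb : b ∈ R.B) : D.σ b ∈ R.B := by
  obtain ⟨u, hu, h, hh, rfl⟩ := R.mem_B_iff.1 hb
  rw [map_mul]
  exact mul_mem (R.U_le_B (D.σ_U hu)) (R.H_le_B (D.map_H h hh))

include M in
/-- The rank one property of the orbit `k`. -/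
theorem rank_of (hT : ∀ r t, S.pos r → M.Pres S.pos (R.x r t)) (k : K)
    (hσn : ∀ w : List I, (∀ i ∈ w, i ∈ D.wd k) → ∃ w', InCoset R (D.σ (R.nw w)) w' ∧
      ∀ r, S.actw w' (D.ρ r) = D.ρ (S.actw w r))
    (hfix : ∀ w : List I, (∀ i ∈ w, i ∈ D.wd k) →
      (∀ r, D.ρ (S.actw w r) = S.actw w (D.ρ r)) →
        (∀ r, S.actw w r = r) ∨ ∀ r, S.actw w r = S.actw (D.wd k) r)
    (hρ : Function.Surjective D.ρ) (a : G) (ha : a ∈ D.X k)
    (ha1 : a ≠ 1) :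
    ∃ b₁ ∈ D.B1, ∃ b₂ ∈ D.B1, D.nJ k * a * (D.nJ k)⁻¹ = b₁ * D.nJ k * b₂ := by
  obtain ⟨haG, haU⟩ := Subgroup.mem_inf.1 ha
  set v := D.nJ k * a * (D.nJ k)⁻¹ with hv
  have hvG : v ∈ G₁ := mul_mem (mul_mem (D.nJ_mem k) haG) (inv_mem (D.nJ_mem k))
  have hvV : v ∈ V R := D.nJ_conj_Uk k haU
  obtain ⟨t, ht, en⟩ := D.nJ_coset k
  have hnpar : D.nJ k ∈ R.par (D.wd k) := by
    rw [en]
    exact mul_mem (R.B_le_par _ (R.H_le_B ht)) (R.nw_mem_par fun i hi => hi)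
  have hvpar : v ∈ R.par (D.wd k) :=
    mul_mem (mul_mem hnpar (R.B_le_par _ (R.U_le_B (D.Uk_le_U k haU)))) (inv_mem hnpar)
  obtain ⟨w, hw, b, hb, b', hb', e⟩ := exists_word_of_par hvpar
  -- the cell of `v` is stable under the symmetry
  obtain ⟨w', hw', hperm⟩ := hσn w hw
  obtain ⟨s, hs, es⟩ := id hw'
  have hcell : cell R.B R.B (R.nw w') = cell R.B R.B (R.nw w) := by
    have e2 : b * R.nw w * b' = D.σ b * (s * R.nw w') * D.σ b' := by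
      rw [← es, ← map_mul, ← map_mul, ← e, D.fixed v hvG]
    refine cell_eq_of_mem (mem_cell.2 ⟨s⁻¹ * (D.σ b)⁻¹ * b,
      mul_mem (mul_mem (R.H_le_B (inv_mem hs)) (inv_mem (D.σ_B hb))) hb, QuotientGroup.eq.2 ?_⟩)
    have e3 : (s⁻¹ * (D.σ b)⁻¹ * b * R.nw w)⁻¹ * R.nw w' = b' * (D.σ b')⁻¹ := by
      have e4 : R.nw w' = s⁻¹ * (D.σ b)⁻¹ * (b * R.nw w * b') * (D.σ b')⁻¹ := by rw [e2]; group
      rw [e4]; group
    rw [e3]
    exact mul_mem hb' (inv_mem (D.σ_B hb'))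
  have hH := D.mem_H_of_cell_eq M hT hcell
  have hsame : ∀ r, S.actw w' r = S.actw w r := by
    intro r
    have h1 := D.perm_eq_of_coset (a := R.nw (w.reverse ++ w')) (v := w.reverse ++ w') (w := [])
      ⟨1, one_mem _, by simp⟩ ⟨_, hH, by simp⟩ r
    rw [S.actw_append, S.actw_nil] at h1
    have h2 := congrArg (S.actw w) h1
    rwa [S.actw_reverse] at h2
  have hcomm : ∀ r, D.ρ (S.actw w r) = S.actw w (D.ρ r) := fun r => by rw [← hperm, hsame]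
  rcases hfix w hw hcomm with h1 | h1
  · exfalso
    have hwH : R.nw w ∈ R.H :=
      nw_mem_H_of_pos R (fun r hr => by rw [h1]; exact hr) D.x_ne D.x_sep
    have hvB : v ∈ R.B := e ▸ mul_mem (mul_mem hb (R.H_le_B hwH)) hb'
    exact ha1 (conj_eq_one_iff.1 (one_of_B_of_V M hvB hvV))
  -- `v` lies in `B n₀ Uk`
  set n₀ := R.nw (D.wd k) with hn₀
  have hwn : R.nw w * n₀⁻¹ ∈ R.H := by
    obtain ⟨t', ht', e'⟩ := (show InCoset R (R.nw w) w from ⟨1, one_mem _, by simp⟩).mul R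
      ((show InCoset R n₀ (D.wd k) from ⟨1, one_mem _, by simp [hn₀]⟩).inv R)
    rw [e']
    refine mul_mem ht' (nw_mem_H_of_pos R (fun r hr => ?_) D.x_ne D.x_sep)
    rw [S.actw_append, h1, S.actw_reverse]
    exact hr
  obtain ⟨u, hu, h, hh, eb⟩ := R.mem_B_iff.1 (inv_mem hb')
  obtain ⟨a', ha', c, hc, eu⟩ := D.U_decomp k hu
  have hb'e : b' = h⁻¹ * (c⁻¹ * a'⁻¹) := by rw [← inv_inv b', ← eb, eu]; group
  have hcU : n₀ * c⁻¹ * n₀⁻¹ ∈ R.U := by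
    refine (show InCoset R n₀ (D.wd k) from ⟨1, one_mem _, by simp [hn₀]⟩).conj_Sg R
      (T' := S.pos) (fun r hr => (D.wd_other k r hr.1 hr.2).1.1) (inv_mem hc)
  set b₀ := b * (R.nw w * n₀⁻¹) * (n₀ * h⁻¹ * n₀⁻¹) * (n₀ * c⁻¹ * n₀⁻¹) with hb₀
  have hb₀B : b₀ ∈ R.B :=
    mul_mem (mul_mem (mul_mem hb (R.H_le_B hwn)) (R.H_le_B (nw_conj_mem_H R _ (inv_mem hh))))
      (R.U_le_B hcU)
  have ev : v = b₀ * n₀ * a'⁻¹ := by rw [e, hb'e, hb₀]; group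
  -- uniqueness
  obtain ⟨w'', hw'', hperm''⟩ := hσn (D.wd k) fun i hi => hi
  obtain ⟨s', hs', es'⟩ := id hw''
  have hn₀σ : D.σ n₀ * n₀⁻¹ ∈ R.H := by
    obtain ⟨t', ht', e'⟩ := hw''.mul R
      ((show InCoset R n₀ (D.wd k) from ⟨1, one_mem _, by simp [hn₀]⟩).inv R)
    rw [e']
    refine mul_mem ht' (nw_mem_H_of_pos R (fun r hr => ?_) D.x_ne D.x_sep)
    have hcomm0 : ∀ x, D.ρ (S.actw (D.wd k) x) = S.actw (D.wd k) (D.ρ x) := fun x => by
      rw [← h1, hcomm, h1]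
    -- `w''` acts as the symmetric longest element
    obtain ⟨x, hx⟩ := hρ (S.actw (D.wd k).reverse r)
    rw [S.actw_append, ← hx, hperm'', hcomm0, hx, S.actw_reverse]
    exact hr
  have eσ : v = (D.σ b₀ * (D.σ n₀ * n₀⁻¹)) * n₀ * D.σ a'⁻¹ := by
    rw [← D.fixed v hvG, ev, map_mul, map_mul]; group
  have haa : a'⁻¹ * (D.σ a'⁻¹)⁻¹ = 1 := by
    refine conj_eq_one_iff.1 (one_of_B_of_V M (g := n₀ * (a'⁻¹ * (D.σ a'⁻¹)⁻¹) * n₀⁻¹) ?_ ?_)
    · have e5 : n₀ * (a'⁻¹ * (D.σ a'⁻¹)⁻¹) * n₀⁻¹ = b₀⁻¹ * (D.σ b₀ * (D.σ n₀ * n₀⁻¹)) := by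
        calc n₀ * (a'⁻¹ * (D.σ a'⁻¹)⁻¹) * n₀⁻¹
            = b₀⁻¹ * (b₀ * n₀ * a'⁻¹) * (D.σ a'⁻¹)⁻¹ * n₀⁻¹ := by group
          _ = _ := by rw [← ev, eσ]; group
      rw [e5]
      exact mul_mem (inv_mem hb₀B) (mul_mem (D.σ_B hb₀B) (R.H_le_B hn₀σ))
    · exact (show InCoset R n₀ (D.wd k) from ⟨1, one_mem _, by simp [hn₀]⟩).conj_Sg R
        (T' := fun r => S.pos (S.neg r)) (fun r hr => D.cls_pos k _ (D.wd_cls k r hr).1)
        (mul_mem (inv_mem ha') (inv_mem (D.σ_Uk (inv_mem ha'))))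
  have ha'fix : D.σ a'⁻¹ = a'⁻¹ := (mul_inv_eq_one.1 haa).symm
  have haX := D.X_mem (inv_mem ha') ha'fix
  have haG' := (Subgroup.mem_inf.1 haX).1
  refine ⟨v * a'⁻¹⁻¹ * (D.nJ k)⁻¹, Subgroup.mem_inf.2
    ⟨mul_mem (mul_mem hvG (inv_mem haG')) (inv_mem (D.nJ_mem k)), ?_⟩, a'⁻¹,
    D.U1_le_B1 (D.X_le_U1 k haX), by group⟩
  have e7 : v * a'⁻¹⁻¹ * (D.nJ k)⁻¹ = b₀ * t⁻¹ := by
    rw [ev, en]; group
  rw [e7]
  exact mul_mem hb₀B (R.H_le_B (inv_mem ht))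

end Data

end Cfsg.Agent.Twisted
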