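import Cfsg.Prelude.Def_LieTwisted
import Cfsg.Agent.ChevGroup.Mat.OrderF4
import Cfsg.Agent.ChevGroup.Mat.Inst
import Cfsg.Agent.Lib.ChevCore.CommAll
import Cfsg.Agent.Lib.ChevCore.SepAll
import Cfsg.Agent.Lib.ChevCore.UStruct

/-!
In characteristic two every element of 2-power order of `F₄(F)` has order at most 32: the positive
unipotent subgroup is a Sylow subgroup and is unitriangular for a grading with 23 levels.
-/

set_option autoImplicit false

namespace Cfsg.Agent.Twisted

open Cfsg.Lie ChevCore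

variable {F : Type*} [Field F] [Fintype F] [CharP F 2]

theorem maxHt_F4 : 2 * maxHt chevF4 + 1 ≤ ((32 : ℕ) : ℤ) := by decide +kernel

theorem f4_unipotent_pow {g : GL chevF4.Idx F} (hg : g ∈ chevF4.posUnipotent F) : g ^ 32 = 1 := by
  have h := commGoodF4.toGood.unipotent_pow hg maxHt_F4
  have hc : Commute (g : Matrix chevF4.Idx chevF4.Idx F) 1 := Commute.one_right _
  haveI : Nonempty chevF4.Idx := ⟨Sum.inr ⟨0, by decide⟩⟩
  haveI : CharP (Matrix chevF4.Idx chevF4.Idx F) 2 := Matrix.charP 2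
  have h2 := sub_pow_char_pow_of_commute hc (p := 2) (n := 5)
  norm_num at h2
  rw [h] at h2
  exact Units.ext (sub_eq_zero.1 (by simpa using h2.symm))

/-- The order of a 2-element of `F₄(F)`. -/
theorem f4_two_power_order (x : ↥(chevF4.group F)) {j : ℕ} (hx : orderOf x = 2 ^ j) : orderOf x ≤ 32 := by
  haveI : Fact (Nat.Prime 2) := ⟨Nat.prime_two⟩
  obtain ⟨n, -, hn⟩ := FiniteField.card F 2
  set q := Fintype.card F with hq
  have hG := ChevGroup.TypeF4.card_group (ChevGroup.torusFacts_of_good commGoodF4.toGood)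
    (ChevGroup.relsOfCommGood commGoodF4 F) hq.symm
  let P : Subgroup ↥(chevF4.group F) := (chevF4.posUnipotent F).subgroupOf (chevF4.group F)
  have hle := commGoodF4.toGood.posUnipotent_le_group (F := F)
  have hP : Nat.card P = q ^ 24 := by
    rw [Nat.card_congr (Subgroup.subgroupOfEquivOfLe hle).toEquiv, uGoodF4.card_posUnipotent]
    rfl
  have hodd : ∀ e, 0 < e → ¬ 2 ∣ q ^ e - 1 := by
    intro e he
    have h1 : 2 ∣ q ^ e := by
      rw [hn]; exact dvd_pow (dvd_pow_self 2 n.ne_zero) he.ne'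
    have h2 : 1 ≤ q ^ e := Nat.one_le_pow _ _ Fintype.card_pos
    omega
  have hfac : (Nat.card ↥(chevF4.group F)).factorization 2 = n * 24 := by
    rw [hG, hn, ← pow_mul]
    have h0 : ∀ e, 0 < e → q ^ e - 1 ≠ 0 := fun e he h => hodd e he (h ▸ dvd_zero 2)
    rw [← hn]
    rw [Nat.factorization_mul (mul_ne_zero (mul_ne_zero (mul_ne_zero (by positivity) (h0 2 (by omega)))
        (h0 6 (by omega))) (h0 8 (by omega))) (h0 12 (by omega)),
      Nat.factorization_mul (mul_ne_zero (mul_ne_zero (by positivity) (h0 2 (by omega))) (h0 6 (by omega)))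
        (h0 8 (by omega)),
      Nat.factorization_mul (mul_ne_zero (by positivity) (h0 2 (by omega))) (h0 6 (by omega)),
      Nat.factorization_mul (by positivity) (h0 2 (by omega))]
    simp only [Finsupp.add_apply, Nat.factorization_eq_zero_of_not_dvd (hodd _ (by omega : 0 < 2)),
      Nat.factorization_eq_zero_of_not_dvd (hodd _ (by omega : 0 < 6)),
      Nat.factorization_eq_zero_of_not_dvd (hodd _ (by omega : 0 < 8)),
      Nat.factorization_eq_zero_of_not_dvd (hodd _ (by omega : 0 < 12)), add_zero]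
    rw [Nat.Prime.factorization_pow Nat.prime_two, Finsupp.single_eq_same]
  let S : Sylow 2 ↥(chevF4.group F) := Sylow.ofCard P (by rw [hP, hfac, hn, ← pow_mul])
  obtain ⟨Q, hQ⟩ := IsPGroup.exists_le_sylow (G := ↥(chevF4.group F)) (p := 2) (P := Subgroup.zpowers x)
    (IsPGroup.of_card (n := j) (by rw [Nat.card_zpowers, hx]))
  obtain ⟨g, hg⟩ := MulAction.exists_smul_eq ↥(chevF4.group F) Q S
  have hmem : g * x * g⁻¹ ∈ (S : Subgroup ↥(chevF4.group F)) := by
    rw [← hg, Sylow.coe_subgroup_smul]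
    exact Subgroup.mem_pointwise_smul_iff_inv_smul_mem.2 (by
      simpa [MulAut.smul_def, mul_assoc] using hQ (Subgroup.mem_zpowers x))
  have h32 : (g * x * g⁻¹) ^ 32 = 1 := Subtype.ext (by
    rw [SubmonoidClass.coe_pow]
    exact f4_unipotent_pow (F := F) (Subgroup.mem_subgroupOf.1 (by simpa [S, P] using hmem)))
  rw [conj_pow, mul_inv_eq_one, mul_eq_left] at h32
  exact orderOf_le_of_pow_eq_one (by norm_num) h32

theorem genSubgroup_le_group {D : ChevalleyDatum} {K : Type*} [Field K] (hD : Good D)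
    (W : Set (List (ℕ × K))) : D.genSubgroup K W ≤ D.group K := by
  refine (Subgroup.closure_le _).2 fun g hg => ?_
  obtain ⟨w, -, hw⟩ := hg
  have e : g = wordG D K w := Units.ext (by rw [hw, hD.val_wordG])
  rw [e, wordG]
  refine list_prod_mem fun y hy => ?_
  obtain ⟨p, -, rfl⟩ := List.mem_map.1 hy
  exact hD.xg_mem_group _ _

end Cfsg.Agent.Twisted
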