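import Mathlib

/-!
The Frobenius power map of a finite field with `q ^ k` elements.
-/

set_option autoImplicit false

namespace Cfsg.Agent.Twisted

variable {F : Type*} [Field F] [Fintype F] {q k : ℕ}

theorem exists_char_pow (hq : IsPrimePow q) (hK : Fintype.card F = q ^ k) :
    ∃ p j : ℕ, p.Prime ∧ CharP F p ∧ q = p ^ j ∧ 0 < j := by
  obtain ⟨p, j, hp, hj, rfl⟩ := hq
  rw [← Nat.prime_iff] at hp
  obtain ⟨r, hr⟩ := CharP.exists F
  haveI := hr
  obtain ⟨n, hrp, hn⟩ := FiniteField.card F r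
  have hk : k ≠ 0 := by
    rintro rfl
    rw [pow_zero] at hK
    exact absurd hK (ne_of_gt Fintype.one_lt_card)
  have hdvd : r ∣ p := by
    refine hrp.dvd_of_dvd_pow (n := j * k) ?_
    rw [pow_mul, ← hK, hn]
    exact dvd_pow_self r n.ne_zero
  obtain rfl : r = p := (Nat.prime_dvd_prime_iff_eq hrp hp).1 hdvd
  exact ⟨r, j, hrp, hr, rfl, hj⟩

/-- the `q`-power map -/
theorem qpow_hom (hq : IsPrimePow q) (hK : Fintype.card F = q ^ k) :
    (∀ a b : F, (a + b) ^ q = a ^ q + b ^ q) ∧ (∀ z : ℤ, (z : F) ^ q = z) ∧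
      ∀ a : F, a ^ (q ^ k) = a := by
  obtain ⟨p, j, hp, hc, rfl, -⟩ := exists_char_pow hq hK
  haveI := hc
  haveI := Fact.mk hp
  refine ⟨fun a b => add_pow_char_pow a b p j, fun z => ?_, fun a => ?_⟩
  · have := map_intCast (iterateFrobenius F p j) z
    rwa [iterateFrobenius_def] at this
  · rw [← hK]; exact FiniteField.pow_card a

theorem qpow_inv_neg (h : ∀ a b : F, (a + b) ^ q = a ^ q + b ^ q) (hq0 : q ≠ 0) (a : F) :
    (-a⁻¹) ^ q = -(a ^ q)⁻¹ := by
  have h0 : (-a⁻¹ + a⁻¹) ^ q = (-a⁻¹) ^ q + (a⁻¹) ^ q := h _ _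
  rw [neg_add_cancel, zero_pow hq0, inv_pow] at h0
  exact eq_neg_of_add_eq_zero_left h0.symm

end Cfsg.Agent.Twisted
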