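import Cfsg.Agent.Twisted.Model

/-!
From facts on generators to the twisted data: uniqueness of ordered products over part of the positive roots,
the subgroup generated by words, and the instances of `Twisted.Data`, `Data.Split` and `Data.Proper`.
-/

set_option autoImplicit false

namespace Cfsg.Agent.Twisted

open ChevGroup ChevIsogeny Cfsg.Lie

variable {D : ChevalleyDatum} {T : Model D} {F : Type*} [Field F] {K : Rels D F}

variable (T K) in
/-- ordered product over a list of roots -/
def prodX (L : List (Fin T.tab.n)) (v : Fin T.tab.n → F) : ↥(D.group F) :=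
  (L.map fun r => (T.rel K).x r (v r)).prod

theorem prodX_pad {L M : List (Fin T.tab.n)} (h : L.Sublist M) (hM : M.Nodup) (v : Fin T.tab.n → F) :
    prodX T K M (fun r => if r ∈ L then v r else 0) = prodX T K L v := by
  induction h with
  | slnil => rfl
  | @cons L M a h ih =>
    rw [List.nodup_cons] at hM
    have ha : a ∉ L := fun ha => hM.1 (h.subset ha)
    simp only [prodX, List.map_cons, List.prod_cons] at ih ⊢
    rw [if_neg ha, (T.rel K).x_zero, one_mul]
    exact ih hM.2
  | @cons_cons L M a h ih =>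
    rw [List.nodup_cons] at hM
    simp only [prodX, List.map_cons, List.prod_cons] at ih ⊢
    rw [if_pos (List.mem_cons_self ..)]
    congr 1
    rw [← ih hM.2]
    refine congrArg List.prod (List.map_congr_left fun b hb => ?_)
    have hba : b ≠ a := fun e => hM.1 (e ▸ hb)
    simp [hba]

variable (T K) in
/-- the value of a word -/
def wv (w : List (ℕ × F)) : ↥(D.group F) := (w.map fun p => IsoHyp.xN T K p.1 p.2).prod

theorem mat_wv (w : List (ℕ × F)) : Model.mat (wv T K w) = D.wordMat F w := by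
  induction w with
  | nil => simp [wv, Model.mat, ChevalleyDatum.wordMat]
  | cons p w ih =>
    simp only [wv, ChevalleyDatum.wordMat, List.map_cons, List.prod_cons] at ih ⊢
    rw [Model.mat_mul, ih, IsoHyp.mat_xN]

variable (T K) in
/-- the subgroup generated by a set of words -/
def genG (W : Set (List (ℕ × F))) : Subgroup ↥(D.group F) := Subgroup.closure (wv T K '' W)

theorem wv_mem {W : Set (List (ℕ × F))} {w : List (ℕ × F)} (h : w ∈ W) : wv T K w ∈ genG T K W :=
  Subgroup.subset_closure ⟨w, h, rfl⟩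

theorem genG_map (W : Set (List (ℕ × F))) :
    (genG T K W).map (D.group F).subtype = D.genSubgroup F W := by
  rw [genG, MonoidHom.map_closure, ChevalleyDatum.genSubgroup]
  congr 1
  ext g
  constructor
  · rintro ⟨_, ⟨w, hw, rfl⟩, rfl⟩
    exact ⟨w, hw, mat_wv w⟩
  · rintro ⟨w, hw, e⟩
    exact ⟨wv T K w, ⟨w, hw, rfl⟩, Units.ext (by rw [e]; exact mat_wv w)⟩

variable [Finite F] {κ : ℕ} {P : IsoData} {e : ℕ} {A : FrameData T (κ := κ)}

namespace Frame

variable (Z : Frame K P e A)
include Z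

theorem posList_nodup : T.posList.Nodup := (List.nodup_finRange _).filter _

/-- Ordered products over part of the positive roots determine their parameters. -/
theorem prodX_inj {L : List (Fin T.tab.n)} (hL : L.Sublist T.posList) {v w : Fin T.tab.n → F}
    (h : prodX T K L v = prodX T K L w) : ∀ r ∈ L, v r = w r := by
  rw [← prodX_pad hL Z.posList_nodup v, ← prodX_pad hL Z.posList_nodup w] at h
  have key : ∀ f : Fin T.tab.n → F,
      (List.zipWith (T.rel K).x T.posList (List.ofFn fun i : Fin T.posList.length => f T.posList[i.val])).prod =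
        prodX T K T.posList f := by
    intro f
    refine congrArg List.prod (List.ext_getElem (by simp) fun i h1 h2 => ?_)
    simp
  have hinj := Z.iso.prod_inj Z.longest_ok Z.pos_span Z.w0_len
  rw [← key, ← key] at h
  have h' := hinj h
  intro r hr
  obtain ⟨i, hi, e1⟩ := List.mem_iff_getElem.1 (hL.subset hr)
  have := congrFun h' ⟨i, hi⟩
  simp only [e1, if_pos hr] at this
  exact this

theorem wv_cons (r : Fin T.tab.n) (t : F) (w : List (ℕ × F)) :
    wv T K ((r.val, t) :: w) = (T.rel K).x r t * wv T K w := by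
  simp [wv, IsoHyp.xN_val]

theorem σ_fixed {W : Set (List (ℕ × F))} (h : ∀ w ∈ W, Z.σ (wv T K w) = wv T K w) :
    ∀ g ∈ genG T K W, Z.σ g = g := by
  intro g hg
  induction hg using Subgroup.closure_induction with
  | mem y hy => obtain ⟨w, hw, rfl⟩ := hy; exact h w hw
  | one => simp
  | mul a b _ _ ha hb => rw [map_mul, ha, hb]
  | inv a _ ha => rw [map_inv, ha]

end Frame

/-- The facts on generators that give the twisted data. -/
structure Gens (Z : Frame K P e A) (G₁ : Subgroup ↥(D.group F))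
    (nj : Fin κ → ↥(D.group F)) : Prop where
  fixed : ∀ g ∈ G₁, Z.σ g = g
  og_mem : ∀ k, Z.og k 1 ∈ G₁
  nj_mem : ∀ k, nj k ∈ G₁
  nj_coset : ∀ k, InCoset (T.rel K) (nj k) (A.O.wd k)
  full : ∀ k, ∀ g ∈ Sg (T.rel K) (· ∈ A.O.cls k), Z.σ g = g → g ∈ G₁
  full_H : ∀ h ∈ (T.rel K).H, Z.σ h = h → h ∈ G₁
  gen : ∀ g ∈ G₁, g ∈ Subgroup.closure {y | ∃ k, y ∈ G₁ ∧
    (y ∈ Sg (T.rel K) (· ∈ A.O.cls k) ∨ y ∈ Sg (T.rel K) (fun r => T.S.neg r ∈ A.O.cls k))}

namespace Gens

variable {Z : Frame K P e A} {G₁ : Subgroup ↥(D.group F)} {nj : Fin κ → ↥(D.group F)}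
  (X : Gens Z G₁ nj)
include X

/-- the twisted data -/
noncomputable def data : Data (T.rel K) G₁ (Fin κ) where
  σ := Z.σ
  ρ := A.O.rho
  f r t := (P.ef r.val : F) * t ^ IsoHyp.lam P e r.val
  map_x := Z.σ_x
  map_H _ hh := Z.σ_mem_H hh
  ρ_pos r := (OrbitData.root_of Z.O_ok r).1
  cls := A.O.cls
  wd := A.O.wd
  cls_pos := OrbitData.cls_pos Z.O_ok
  ρ_cls k r := (OrbitData.cls_root Z.O_ok k r).1
  wd_cls := OrbitData.wd_cls Z.O_ok
  wd_other k r := (OrbitData.cls_root Z.O_ok k r).2.2.2
  comm := Z.comm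
  nJ := nj
  nJ_mem := X.nj_mem
  nJ_coset := X.nj_coset
  fixed := X.fixed
  full := X.full
  full_H := X.full_H
  x_ne := Z.x_one_ne
  x_sep := Z.x_sep

theorem longest {W0 : List (Fin κ)} (h : A.O.longB T.S W0 = true) : X.data.Longest W0 :=
  longest_of_longB (D := X.data) rfl rfl h

theorem valid {d : TStepData T.tab.n κ} (h : A.O.stepB T.S d = true) : X.data.Valid d.toStep :=
  valid_of_stepB (D := X.data) rfl rfl h

theorem rank (k : Fin κ) : ∀ a ∈ X.data.X k, a ≠ 1 →
    ∃ b₁ ∈ X.data.B1, ∃ b₂ ∈ X.data.B1,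
      X.data.nJ k * a * (X.data.nJ k)⁻¹ = b₁ * X.data.nJ k * b₂ := by
  refine X.data.rank_of (T.shapeR K) Z.pres k (fun w _ => ?_) ?_ Z.rho_surj
  · refine ⟨w.map Z.iso.ρIF, ⟨1, one_mem _, ?_⟩, fun r => Z.rho_actw w r⟩
    rw [one_mul]; exact Z.σ_nw w
  · exact fun w hw hc => OrbitData.rep_fixed Z.O_ok k w hw hc

theorem split : X.data.Split where
  gen := X.gen
  rank := X.rank
  invol := OrbitData.invol Z.O_ok
  dich k W := by
    rcases OrbitData.dich Z.O_ok k W with h | h
    · refine Or.inl fun r hr => ?_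
      rw [aw_eq (D := X.data) (O := A.O) rfl]
      exact h r hr
    · refine Or.inr fun r hr => ?_
      rw [aw_eq (D := X.data) (O := A.O) rfl]
      exact h r hr

theorem proper (hd : A.O.distinctB T.S = true)
    (hnt : ∀ k, ∃ L : List (Fin T.tab.n), L.Sublist T.posList ∧ A.orth k = L ∧ L ≠ []) :
    X.data.Proper where
  distinct := distinct_of_distinctB (D := X.data) (O := A.O) rfl hd
  nontriv k := by
    obtain ⟨L, hL, hA, hne⟩ := hnt k
    refine ⟨Z.og k 1, Subgroup.mem_inf.2 ⟨X.og_mem k, ?_⟩, fun h1 => ?_⟩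
    · refine Subgroup.list_prod_mem _ fun y hy => ?_
      obtain ⟨r, hr, rfl⟩ := List.mem_map.1 hy
      exact x_mem_Sg _ (T := fun r => r ∈ A.O.cls k) (Z.orth_cls k r hr) 1
    · obtain ⟨r, hr⟩ := List.exists_mem_of_ne_nil L hne
      refine one_ne_zero (Z.prodX_inj hL (v := fun _ => (1 : F)) (w := fun _ => 0) ?_ r hr)
      rw [Frame.og, hA] at h1
      rw [prodX, h1, prodX]
      refine (List.prod_eq_one fun y hy => ?_).symm
      obtain ⟨r, -, rfl⟩ := List.mem_map.1 hy
      exact (T.rel K).x_zero r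

end Gens

end Cfsg.Agent.Twisted
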