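import Cfsg.Agent.Twisted.Gens

/-!
The torus `H` of a Chevalley group in fundamental parameters, the action of `σ` on it, and its fixed points.
-/

set_option autoImplicit false

namespace Cfsg.Agent.Twisted

open ChevGroup ChevIsogeny Cfsg.Lie

variable {D : ChevalleyDatum} {T : Model D} {κ : ℕ}

namespace FrameData

/-- the pairing is bilinear in the coordinates -/
def torB (A : FrameData T (κ := κ)) : Bool :=
  ((List.finRange T.tab.n).all fun r => (List.finRange T.tab.n).all fun s =>
    decide (D.pairing r.val s.val =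
      ∑ i : Fin T.tab.l, (D.coroot.getD r.val #[]).getD i.val 0 * D.pairing (T.S.simple i).val s.val)) &&
  (List.finRange T.tab.l).all fun i => (List.finRange T.tab.n).all fun s =>
    decide (D.pairing (T.S.simple i).val s.val = ∑ j, A.O.step i j * A.O.vec s j)

/-- `M` is `k` times an inverse of the Cartan matrix -/
def invB (A : FrameData T (κ := κ)) (k : ℕ) (M : Fin T.tab.l → Fin T.tab.l → ℤ) : Bool :=
  (List.finRange T.tab.l).all fun i => (List.finRange T.tab.l).all fun m =>
    decide (∑ j, A.O.step i j * M j m = if i = m then (k : ℤ) else 0)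

/-- the coordinates of the fundamental roots -/
def vecB (A : FrameData T (κ := κ)) : Bool :=
  (List.finRange T.tab.l).all fun i => (List.finRange T.tab.l).all fun j =>
    decide (A.O.vec (T.S.simple i) j = if i = j then 1 else 0)

end FrameData

variable {F : Type*} [Field F] [Finite F] {K : Rels D F}

variable (T K) in
/-- the element of the torus with given fundamental parameters -/
def tor (c : Fin T.tab.l → Fˣ) : ↥(D.group F) :=
  ((List.finRange T.tab.l).map fun i => (T.rel K).hr (T.S.simple i) (c i : F)).prod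

variable (T) in
/-- the factor by which `tor c` scales the root group of `s` -/
def chi (c : Fin T.tab.l → Fˣ) (s : Fin T.tab.n) : Fˣ :=
  ∏ i, c i ^ D.pairing (T.S.simple i).val s.val

variable {P : IsoData} {e : ℕ} {A : FrameData T (κ := κ)}

/-- the checks on the torus -/
structure TorOk (A : FrameData T (κ := κ)) : Prop where
  bil : A.torB = true
  vec : A.vecB = true

namespace Frame

variable (Z : Frame K P e A)
include Z

theorem hr_conj (r s : Fin T.tab.n) (c : F) (hc : c ≠ 0) (t : F) :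
    (T.rel K).hr r c * (T.rel K).x s t * ((T.rel K).hr r c)⁻¹ =
      (T.rel K).x s (c ^ D.pairing r.val s.val * t) :=
  Z.iso.datum.scale_conj r c s t hc

theorem tor_mem_H (c : Fin T.tab.l → Fˣ) : tor T K c ∈ (T.rel K).H :=
  Subgroup.list_prod_mem _ fun y hy => by
    obtain ⟨i, -, rfl⟩ := List.mem_map.1 hy
    exact (T.rel K).hr_mem_H (c i).ne_zero

theorem tor_conj (c : Fin T.tab.l → Fˣ) (s : Fin T.tab.n) (t : F) :
    tor T K c * (T.rel K).x s t * (tor T K c)⁻¹ = (T.rel K).x s ((chi T c s : F) * t) := by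
  have key : ∀ L : List (Fin T.tab.l),
      (L.map fun i => (T.rel K).hr (T.S.simple i) (c i : F)).prod * (T.rel K).x s t *
          ((L.map fun i => (T.rel K).hr (T.S.simple i) (c i : F)).prod)⁻¹ =
        (T.rel K).x s ((((L.map fun i => c i ^ D.pairing (T.S.simple i).val s.val).prod : Fˣ) : F) * t) := by
    intro L
    induction L with
    | nil => simp
    | cons i L ih =>
      simp only [List.map_cons, List.prod_cons, Units.val_mul, Units.val_zpow_eq_zpow_val]
      rw [mul_assoc ((c i : F) ^ _), ← Z.hr_conj _ _ _ (c i).ne_zero, ← ih]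
      group
  rw [tor, key, chi, ← List.ofFn_eq_map, List.prod_ofFn]

theorem H_ext {g g' : ↥(D.group F)} (hg : g ∈ (T.rel K).H) (hg' : g' ∈ (T.rel K).H)
    (h : ∀ s t, g * (T.rel K).x s t * g⁻¹ = g' * (T.rel K).x s t * g'⁻¹) : g = g' := by
  refine (inv_mul_eq_one (G := ↥(D.group F))).1 (T.faithful K (mul_mem (inv_mem hg) hg') fun s t => ?_)
  have := h s t
  calc g⁻¹ * g' * (T.rel K).x s t
      = g⁻¹ * (g' * (T.rel K).x s t * g'⁻¹) * g' := by group
    _ = g⁻¹ * (g * (T.rel K).x s t * g⁻¹) * g' := by rw [this]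
    _ = (T.rel K).x s t * (g⁻¹ * g') := by group

theorem tor_ext {c d : Fin T.tab.l → Fˣ} (h : ∀ s, chi T c s = chi T d s) : tor T K c = tor T K d :=
  Z.H_ext (Z.tor_mem_H c) (Z.tor_mem_H d) fun s t => by rw [Z.tor_conj, Z.tor_conj, h]

theorem chi_of_tor_eq {c d : Fin T.tab.l → Fˣ} (h : tor T K c = tor T K d) (s : Fin T.tab.n) :
    chi T c s = chi T d s := by
  have := Z.tor_conj c s 1
  rw [h, Z.tor_conj, mul_one, mul_one] at this
  exact (Units.ext (Z.iso.x_injective s this)).symm

theorem tor_mul (c d : Fin T.tab.l → Fˣ) : tor T K (c * d) = tor T K c * tor T K d := by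
  refine Z.H_ext (Z.tor_mem_H _) (mul_mem (Z.tor_mem_H c) (Z.tor_mem_H d)) fun s t => ?_
  have : tor T K c * tor T K d * (T.rel K).x s t * (tor T K c * tor T K d)⁻¹ =
      tor T K c * (tor T K d * (T.rel K).x s t * (tor T K d)⁻¹) * (tor T K c)⁻¹ := by group
  rw [this, Z.tor_conj, Z.tor_conj, Z.tor_conj, ← mul_assoc, ← Units.val_mul]
  congr 3
  rw [chi, chi, chi, ← Finset.prod_mul_distrib]
  exact Finset.prod_congr rfl fun i _ => mul_zpow _ _ _

/-- `tor` as a homomorphism. -/
def torHom : (Fin T.tab.l → Fˣ) →* ↥(D.group F) := MonoidHom.mk' (tor T K) Z.tor_mul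

theorem torHom_apply (c : Fin T.tab.l → Fˣ) : Z.torHom c = tor T K c := rfl

theorem hr_eq_tor (hA : TorOk A) (r : Fin T.tab.n) (a : Fˣ) :
    (T.rel K).hr r (a : F) = tor T K fun i => a ^ (D.coroot.getD r.val #[]).getD i.val 0 := by
  refine Z.H_ext ((T.rel K).hr_mem_H a.ne_zero) (Z.tor_mem_H _) fun s t => ?_
  rw [Z.hr_conj _ _ _ a.ne_zero, Z.tor_conj, ← Units.val_zpow_eq_zpow_val]
  congr 3
  have h := hA.bil
  simp only [FrameData.torB, Bool.and_eq_true, List.all_eq_true, decide_eq_true_eq] at h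
  rw [chi, h.1 r (List.mem_finRange r) s (List.mem_finRange s)]
  simp_rw [← zpow_mul]
  refine Finset.induction_on (Finset.univ : Finset (Fin T.tab.l)) (by simp) fun i S hi ih => ?_
  rw [Finset.sum_insert hi, Finset.prod_insert hi, zpow_add, ih]

theorem exists_tor (hA : TorOk A) {h : ↥(D.group F)} (hh : h ∈ (T.rel K).H) :
    ∃ c, tor T K c = h := by
  suffices h ∈ Z.torHom.range from this
  refine (Subgroup.closure_le _).2 ?_ hh
  rintro _ ⟨r, c, hc, rfl⟩
  exact ⟨_, (Z.hr_eq_tor hA r (Units.mk0 c hc)).symm⟩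

theorem chi_eq (hA : TorOk A) (c : Fin T.tab.l → Fˣ) (s : Fin T.tab.n) :
    chi T c s = ∏ j, chi T c (T.S.simple j) ^ A.O.vec s j := by
  have h := hA.bil
  have hv := hA.vec
  simp only [FrameData.torB, FrameData.vecB, Bool.and_eq_true, List.all_eq_true, decide_eq_true_eq] at h hv
  have hp : ∀ i t, D.pairing (T.S.simple i).val t.val = ∑ j, A.O.step i j * A.O.vec t j :=
    fun i t => h.2 i (List.mem_finRange i) t (List.mem_finRange t)
  have hs : ∀ i j, D.pairing (T.S.simple i).val (T.S.simple j).val = A.O.step i j := by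
    intro i j
    rw [hp, Finset.sum_eq_single j]
    · rw [hv j (List.mem_finRange j) j (List.mem_finRange j), if_pos rfl, mul_one]
    · intro k _ hk
      rw [hv j (List.mem_finRange j) k (List.mem_finRange k), if_neg (Ne.symm hk), mul_zero]
    · simp
  simp only [chi, hs, hp, ← Finset.prod_zpow, ← zpow_mul]
  rw [Finset.prod_comm]
  refine Finset.prod_congr rfl fun i _ => ?_
  refine Finset.induction_on (Finset.univ : Finset (Fin T.tab.l)) (by simp) fun j S hj ih => ?_
  rw [Finset.sum_insert hj, Finset.prod_insert hj, zpow_add, ih]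

theorem tor_eq_one (hA : TorOk A) {c : Fin T.tab.l → Fˣ}
    (h : ∀ j, chi T c (T.S.simple j) = 1) : tor T K c = 1 := by
  have : tor T K c = tor T K 1 := Z.tor_ext fun s => by
    have h1 : ∀ j, chi T (1 : Fin T.tab.l → Fˣ) (T.S.simple j) = 1 := fun j => by simp [chi]
    rw [Z.chi_eq hA c s, Z.chi_eq hA 1 s]
    simp [h, h1]
  rw [this, ← Z.torHom_apply, map_one]

theorem chi_one_of_tor_eq_one {c : Fin T.tab.l → Fˣ} (h : tor T K c = 1) (s : Fin T.tab.n) :
    chi T c s = 1 := by
  rw [Z.chi_of_tor_eq (d := 1) (by rw [h, ← Z.torHom_apply, map_one]) s]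
  simp [chi]

theorem pow_eq_one_of_tor (hA : TorOk A) {k : ℕ} {M : Fin T.tab.l → Fin T.tab.l → ℤ}
    (hM : A.invB k M = true) {c : Fin T.tab.l → Fˣ} (h : tor T K c = 1) : c ^ k = 1 := by
  have hb := hA.bil
  have hv := hA.vec
  simp only [FrameData.torB, FrameData.vecB, FrameData.invB, Bool.and_eq_true, List.all_eq_true,
    decide_eq_true_eq] at hb hv hM
  have hchi : ∀ j, ∏ i, c i ^ A.O.step i j = 1 := by
    intro j
    rw [← Z.chi_one_of_tor_eq_one h (T.S.simple j), chi]
    refine Finset.prod_congr rfl fun i _ => ?_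
    rw [hb.2 i (List.mem_finRange i) _ (List.mem_finRange _), Finset.sum_eq_single j]
    · rw [hv j (List.mem_finRange j) j (List.mem_finRange j), if_pos rfl, mul_one]
    · intro m _ hm
      rw [hv j (List.mem_finRange j) m (List.mem_finRange m), if_neg (Ne.symm hm), mul_zero]
    · simp
  funext m
  have : c m ^ (k : ℤ) = ∏ j, (∏ i, c i ^ A.O.step i j) ^ M j m := by
    simp only [← Finset.prod_zpow, ← zpow_mul]
    rw [Finset.prod_comm, Finset.prod_eq_single m]
    · conv_lhs => rw [show (k : ℤ) = ∑ j, A.O.step m j * M j m by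
        rw [hM m (List.mem_finRange m) m (List.mem_finRange m), if_pos rfl]]
      refine Finset.induction_on (Finset.univ : Finset (Fin T.tab.l)) (by simp) fun j S hj ih => ?_
      rw [Finset.sum_insert hj, Finset.prod_insert hj, zpow_add, ih]
    · intro i _ hi
      have e0 : ∑ j, A.O.step i j * M j m = 0 := by
        rw [hM i (List.mem_finRange i) m (List.mem_finRange m), if_neg hi]
      rw [← zpow_zero (c i), ← e0]
      refine Finset.induction_on (Finset.univ : Finset (Fin T.tab.l)) (by simp) fun j S hj ih => ?_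
      rw [Finset.sum_insert hj, Finset.prod_insert hj, zpow_add, ih]
    · simp
  simp only [hchi, one_zpow, Finset.prod_const_one, zpow_natCast] at this
  simpa using this

theorem σ_hr_simple (i : Fin T.tab.l) (c : Fˣ) :
    Z.σ ((T.rel K).hr (T.S.simple i) (c : F)) =
      (T.rel K).hr (T.S.simple (Z.iso.ρIF i)) ((c : F) ^ IsoHyp.lam P e (T.S.simple i).val) := by
  have hef : (P.ef (T.S.simple i).val : F) = 1 := by
    rw [T.simple_eq, (Z.iso.base_simple (T.lt_l i)).2.2.1]; simp
  have hρ : A.O.rho (T.S.simple i) = T.S.simple (Z.iso.ρIF i) := by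
    rw [← Z.ρF_eq]; exact Z.iso.ρF_simple i
  have hn := Z.σ_nr (T.S.simple i) (c : F)
  have hn1 := Z.σ_nr (T.S.simple i) (-1 : F)
  rw [hef, one_mul, hρ] at hn hn1
  show Z.σ ((T.rel K).nr _ (c : F) * (T.rel K).nr _ (-1)) =
    (T.rel K).nr _ _ * (T.rel K).nr _ (-1)
  rw [map_mul, hn, hn1]
  congr 2
  have := Z.iso.neg_pow' (T.lt (T.S.simple i)) (1 : F)
  rw [one_pow] at this
  exact this

/-- the action of `σ` on the parameters -/
def sig (_ : Frame K P e A) (pre : Fin T.tab.l → Fin T.tab.l) :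
    (Fin T.tab.l → Fˣ) →* (Fin T.tab.l → Fˣ) where
  toFun c j := c (pre j) ^ IsoHyp.lam P e (T.S.simple (pre j)).val
  map_one' := by funext j; simp
  map_mul' c d := by funext j; simp [mul_pow]

theorem σ_tor {pre : Fin T.tab.l → Fin T.tab.l} (hpre : ∀ j, Z.iso.ρIF (pre j) = j)
    (c : Fin T.tab.l → Fˣ) : Z.σ (tor T K c) = tor T K (Z.sig pre c) := by
  refine Z.H_ext (Z.σ_mem_H (Z.tor_mem_H c)) (Z.tor_mem_H _) fun s t => ?_
  rw [Z.tor_conj]
  have key : ∀ L : List (Fin T.tab.l),
      Z.σ (L.map fun i => (T.rel K).hr (T.S.simple i) (c i : F)).prod * (T.rel K).x s t *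
          (Z.σ (L.map fun i => (T.rel K).hr (T.S.simple i) (c i : F)).prod)⁻¹ =
        (T.rel K).x s ((((L.map fun i => (c i ^ IsoHyp.lam P e (T.S.simple i).val) ^
          D.pairing (T.S.simple (Z.iso.ρIF i)).val s.val).prod : Fˣ) : F) * t) := by
    intro L
    induction L with
    | nil => simp
    | cons i L ih =>
      simp only [List.map_cons, List.prod_cons, map_mul, Units.val_mul, Units.val_zpow_eq_zpow_val,
        Units.val_pow_eq_pow_val, Z.σ_hr_simple]
      rw [mul_assoc (((c i : F) ^ _) ^ _), ← Z.hr_conj _ _ _ (pow_ne_zero _ (c i).ne_zero), ← ih]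
      group
  rw [tor, key, chi]
  congr 3
  rw [← List.ofFn_eq_map, List.prod_ofFn]
  have hbij : Function.Bijective pre :=
    Finite.injective_iff_bijective.1 fun a b hab => by rw [← hpre a, hab, hpre]
  refine (Fintype.prod_bijective pre hbij _ _ fun j => ?_).symm
  simp [sig, hpre]

/-- Fixed points of `σ` on `H` lie in `G₁` when the fixed parameter vectors give elements of `G₁`. -/
theorem full_H_of {G₁ : Subgroup ↥(D.group F)} (hA : TorOk A) {pre : Fin T.tab.l → Fin T.tab.l}
    (hpre : ∀ j, Z.iso.ρIF (pre j) = j) {k m : ℕ} {M : Fin T.tab.l → Fin T.tab.l → ℤ}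
    (hM : A.invB k M = true) (hkm : Nat.Coprime k m)
    (hper : ∀ c : Fin T.tab.l → Fˣ, (⇑(Z.sig pre))^[m] c = c)
    (htor : ∀ c : Fin T.tab.l → Fˣ, Z.sig pre c = c → tor T K c ∈ G₁)
    {h : ↥(D.group F)} (hh : h ∈ (T.rel K).H) (hfix : Z.σ h = h) : h ∈ G₁ := by
  obtain ⟨c, rfl⟩ := Z.exists_tor hA hh
  rw [Z.σ_tor hpre] at hfix
  have h1 : tor T K (Z.sig pre c * c⁻¹) = 1 := by
    rw [← Z.torHom_apply, map_mul, map_inv, Z.torHom_apply, Z.torHom_apply, hfix, mul_inv_cancel]
  have h2 := Z.pow_eq_one_of_tor hA hM h1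
  rw [mul_pow, inv_pow, mul_inv_eq_one, ← map_pow] at h2
  have hk : (tor T K c) ^ k ∈ G₁ := by
    rw [← Z.torHom_apply, ← map_pow]
    exact htor _ h2
  have hiter : ∀ j, tor T K ((⇑(Z.sig pre))^[j] c) = tor T K c := by
    intro j
    induction j with
    | zero => rfl
    | succ j ih => rw [Function.iterate_succ_apply', ← Z.σ_tor hpre, ih, Z.σ_tor hpre, hfix]
  set d := ∏ j ∈ Finset.range m, (⇑(Z.sig pre))^[j] c with hd
  have hdfix : Z.sig pre d = d := by
    have h3 : (∏ j ∈ Finset.range m, (⇑(Z.sig pre))^[j + 1] c) * (⇑(Z.sig pre))^[0] c =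
        (∏ j ∈ Finset.range m, (⇑(Z.sig pre))^[j] c) * (⇑(Z.sig pre))^[m] c := by
      rw [← Finset.prod_range_succ' (fun j => (⇑(Z.sig pre))^[j] c),
        Finset.prod_range_succ (fun j => (⇑(Z.sig pre))^[j] c)]
    rw [hper, Function.iterate_zero_apply, mul_left_inj] at h3
    rw [hd, map_prod]
    simpa [Function.iterate_succ_apply'] using h3
  have hpow : ∀ n, tor T K (∏ j ∈ Finset.range n, (⇑(Z.sig pre))^[j] c) = (tor T K c) ^ n := by
    intro n
    induction n with
    | zero => rw [Finset.prod_range_zero, pow_zero, ← Z.torHom_apply, map_one]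
    | succ j ih => rw [Finset.prod_range_succ, Z.tor_mul, pow_succ, hiter, ih]
  have hm : (tor T K c) ^ m ∈ G₁ := by
    have : tor T K d = (tor T K c) ^ m := by rw [hd]; exact hpow m
    rw [← this]
    exact htor d hdfix
  have hcop := Nat.isCoprime_iff_coprime.2 hkm
  obtain ⟨a, b, hab⟩ := hcop
  have := mul_mem (G₁.zpow_mem hk a) (G₁.zpow_mem hm b)
  rwa [← zpow_natCast, ← zpow_natCast, ← zpow_mul, ← zpow_mul, ← zpow_add, mul_comm (k : ℤ),
    mul_comm (m : ℤ), hab, zpow_one] at this

theorem H_eq_one_of_chi (hA : TorOk A) {h : ↥(D.group F)} (hh : h ∈ (T.rel K).H)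
    (hs : ∀ j, ∃ t : F, t ≠ 0 ∧ h * (T.rel K).x (T.S.simple j) t * h⁻¹ = (T.rel K).x (T.S.simple j) t) :
    h = 1 := by
  obtain ⟨c, rfl⟩ := Z.exists_tor hA hh
  refine Z.tor_eq_one hA fun j => ?_
  obtain ⟨t, ht, e1⟩ := hs j
  rw [Z.tor_conj] at e1
  have e2 := Z.iso.x_injective _ e1
  exact Units.ext (mul_right_cancel₀ ht (e2.trans (one_mul t).symm))

end Frame

end Cfsg.Agent.Twisted
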