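import Cfsg.Agent.ChevIsogeny.Endo
import Cfsg.Agent.Twisted.Rank

/-!
The twisted group inside a Chevalley group given by tables: the endomorphism `σ`, its effect on the monomial
elements, the representatives `nJ`, and the data of `Twisted.Data` and `Twisted.Split` from Boolean checks and
a few facts on the generators.
-/

set_option autoImplicit false

namespace Cfsg.Agent.Twisted

open ChevGroup ChevIsogeny Cfsg.Lie

variable {D : ChevalleyDatum} (T : Model D) {κ : ℕ}

/-- The tables of a twisted group: the orbit data, orthogonal roots in each orbit, witnesses for the roots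
and a longest word. -/
structure FrameData where
  O : OrbitData T.tab.n T.tab.l κ
  orth : Fin κ → List (Fin T.tab.n)
  wit : List (List (Fin T.tab.l) × Fin T.tab.l)
  w0 : List (Fin T.tab.l)

/-- Conjugation by a word permutes the `n_r(c)` with one sign for all parameters. -/
theorem nw_conj_nr_all {Φ I : Type*} {G : Type*} [Group G] {F : Type*} [Field F] {S : RootIdx Φ I}
    (R : RootRel G F S) (w : List I) (r : Φ) :
    ∃ e : F, e * e = 1 ∧ ∀ c, R.nw w * R.nr r c * (R.nw w)⁻¹ = R.nr (S.actw w r) (e * c) := by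
  induction w with
  | nil => exact ⟨1, one_mul 1, fun c => by simp⟩
  | cons i w ih =>
    obtain ⟨e, he, h⟩ := ih
    refine ⟨R.sgn i (S.actw w r) * e, by rw [mul_mul_mul_comm, R.sgn_sq, he, one_mul], fun c => ?_⟩
    rw [R.nw_cons, S.actw_cons, mul_assoc _ e c, ← R.n_conj_nr, ← h c]
    group

namespace FrameData

variable {T} (P : IsoData) (A : FrameData T (κ := κ))

/-- the word of the reflection in a root -/
def reflWord (r : Fin T.tab.n) : List (Fin T.tab.l) :=
  match A.wit[r.val]? with
  | some p => p.1 ++ [p.2] ++ p.1.reverse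
  | none => []

/-- the checks on the orthogonal roots of an orbit -/
def orthB (k : Fin κ) : Bool :=
  ((A.orth k).all fun r => decide (r ∈ A.O.cls k)) && decide ((A.orth k).Nodup) &&
  ((A.orth k).all fun r => (A.orth k).all fun s => decide (r = s) ||
    (P.commuteB D r.val s.val && P.commuteB D r.val (T.S.neg s).val &&
      P.commuteB D (T.S.neg r).val s.val && P.commuteB D (T.S.neg r).val (T.S.neg s).val))

/-- the reflections in the orthogonal roots multiply to the longest element of the orbit -/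
def reflB (k : Fin κ) : Bool :=
  A.orthB P k && OrbitData.sameB T.S ((A.orth k).map A.reflWord).flatten (A.O.wd k)

/-- the weak check: the orthogonal roots lie in the orbit -/
def orthMemB (k : Fin κ) : Bool := (A.orth k).all fun r => decide (r ∈ A.O.cls k)

/-- commutators with the root groups of an orbit stay outside it -/
def commB : Bool :=
  (List.finRange κ).all fun k => (A.O.cls k).all fun r => (List.finRange T.tab.n).all fun s =>
    !decide (T.S.pos s) || decide (s ∈ A.O.cls k) ||
      (decide (s.val ≠ r.val) && decide (s.val ≠ D.neg r.val) &&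
        (D.commTerms r.val s.val).all fun c =>
          decide (c.1 < D.nroots) && decide (D.IsPosRoot c.1) &&
            (A.O.cls k).all fun u => decide (u.val ≠ c.1))

/-- the root elements of different roots are separated by a matrix entry -/
def sepB : Bool :=
  (List.range D.nroots).all fun r => (List.range D.nroots).all fun s => decide (s = r) ||
    ((D.chain.getD s #[]).toList.all fun e => decide (e.1 ≠ D.neg r) ||
      e.2.toList.all fun q => decide (q.1 ≠ r))

/-- all checks -/
def okB : Bool :=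
  A.O.okB T.S &&
  ((List.finRange T.tab.n).all fun r => decide ((A.O.rho r).val = P.ρf r.val)) &&
  decide (A.wit.length = T.tab.n) && T.witB A.wit && T.longestB A.w0 &&
  decide (A.w0.length = T.posList.length) && Mat.spanB D (T.posList.map Fin.val) &&
  A.commB && sepB (D := D) && (List.finRange κ).all fun k => A.orthMemB k

end FrameData

variable {T} {F : Type*} [Field F] [Finite F]

/-- The standing hypotheses. -/
structure Frame (K : Rels D F) (P : IsoData) (e : ℕ) (A : FrameData T (κ := κ)) : Prop where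
  iso : IsoHyp T K P e
  ok : A.okB P = true

namespace Frame

variable {K : Rels D F} {P : IsoData} {e : ℕ} {A : FrameData T (κ := κ)} (Z : Frame K P e A)
include Z

theorem O_ok : A.O.okB T.S = true := by
  have := Z.ok; simp only [FrameData.okB, Bool.and_eq_true] at this
  exact this.1.1.1.1.1.1.1.1.1

theorem rho_val (r : Fin T.tab.n) : (A.O.rho r).val = P.ρf r.val := by
  have := Z.ok
  simp only [FrameData.okB, Bool.and_eq_true, List.all_eq_true, decide_eq_true_eq] at this
  exact this.1.1.1.1.1.1.1.1.2 r (List.mem_finRange r)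

theorem wit_len : A.wit.length = T.tab.n := by
  have := Z.ok; simp only [FrameData.okB, Bool.and_eq_true, decide_eq_true_eq] at this
  exact this.1.1.1.1.1.1.1.2

theorem witness_ok : T.witB A.wit = true := by
  have := Z.ok; simp only [FrameData.okB, Bool.and_eq_true] at this
  exact this.1.1.1.1.1.1.2

theorem longest_ok : T.longestB A.w0 = true := by
  have := Z.ok; simp only [FrameData.okB, Bool.and_eq_true] at this
  exact this.1.1.1.1.1.2

theorem w0_len : A.w0.length = T.posList.length := by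
  have := Z.ok; simp only [FrameData.okB, Bool.and_eq_true, decide_eq_true_eq] at this
  exact this.1.1.1.1.2

theorem pos_span : Mat.spanB D (T.posList.map Fin.val) = true := by
  have := Z.ok; simp only [FrameData.okB, Bool.and_eq_true] at this
  exact this.1.1.1.2

theorem unique : UniqueForm T K := Z.iso.uniqueForm Z.longest_ok Z.pos_span Z.w0_len

theorem exists_σ : ∃ α : ↥(D.group F) →* ↥(D.group F), ∀ (r : Fin T.tab.n) (t : F),
    α ((T.rel K).x r t) =
      (T.rel K).x (Z.iso.ρF r) ((P.ef r.val : F) * t ^ IsoHyp.lam P e r.val) :=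
  Z.iso.exists_hom Z.witness_ok Z.pos_span Z.unique

theorem ρF_eq (r : Fin T.tab.n) : Z.iso.ρF r = A.O.rho r := Fin.ext (Z.rho_val r).symm

/-- the endomorphism -/
noncomputable def σ : ↥(D.group F) →* ↥(D.group F) := Classical.choose Z.exists_σ

theorem σ_x (r : Fin T.tab.n) (t : F) : Z.σ ((T.rel K).x r t) =
    (T.rel K).x (A.O.rho r) ((P.ef r.val : F) * t ^ IsoHyp.lam P e r.val) := by
  rw [← Z.ρF_eq]; exact Classical.choose_spec Z.exists_σ r t

theorem σ_nr (r : Fin T.tab.n) (c : F) : Z.σ ((T.rel K).nr r c) =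
    (T.rel K).nr (A.O.rho r) ((P.ef r.val : F) * c ^ IsoHyp.lam P e r.val) := by
  have h := congrArg Prod.snd (Z.iso.datum.nOf_pairX r c)
  simp only [RootRel.nr, nOf, map_mul, Prod.snd_mul] at h ⊢
  rw [Z.σ_x, Z.σ_x, ← Z.ρF_eq, ← Z.ρF_eq]
  exact h

theorem σ_n (i : Fin T.tab.l) : Z.σ ((T.rel K).n i) = (T.rel K).n (Z.iso.ρIF i) := by
  rw [RootRel.n, Z.σ_nr, T.simple_eq, (Z.iso.base_simple (T.lt_l i)).2.2.1]
  simp [← Z.ρF_eq, Z.iso.ρF_simple, RootRel.n]

theorem σ_nw (w : List (Fin T.tab.l)) : Z.σ ((T.rel K).nw w) = (T.rel K).nw (w.map Z.iso.ρIF) := by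
  induction w with
  | nil => simp
  | cons i w ih => simp [map_mul, ih, Z.σ_n]

theorem rho_actw (w : List (Fin T.tab.l)) (r : Fin T.tab.n) :
    T.S.actw (w.map Z.iso.ρIF) (A.O.rho r) = A.O.rho (T.S.actw w r) := by
  induction w with
  | nil => rfl
  | cons i w ih =>
    simp only [List.map_cons, T.S.actw_cons]
    rw [ih, ← Z.ρF_eq, ← Z.ρF_eq]
    exact (Z.iso.datum.ρ_refl i _).symm

theorem rho_surj : Function.Surjective A.O.rho := fun r => by
  obtain ⟨s, hs⟩ := Z.iso.datum.ρ_surj r
  exact ⟨s, by rw [← Z.ρF_eq]; exact hs⟩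

theorem σ_mem_H {h : ↥(D.group F)} (hh : h ∈ (T.rel K).H) : Z.σ h ∈ (T.rel K).H := by
  induction hh using Subgroup.closure_induction with
  | mem g hg =>
    obtain ⟨r, c, hc, rfl⟩ := hg
    have he := Z.iso.datum.eps_ne r
    have e2 : Z.σ ((T.rel K).hr r c) = (T.rel K).hr (A.O.rho r) ((P.ef r.val : F) * c ^ IsoHyp.lam P e r.val) *
        ((T.rel K).hr (A.O.rho r) (P.ef r.val : F))⁻¹ := by
      have h := congrArg Prod.snd (Z.iso.datum.hOf_pairX r c)
      rw [← Z.ρF_eq]
      refine Eq.trans ?_ h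
      simp only [RootRel.hr, hOf, nOf, map_mul, Prod.snd_mul]
      rw [Z.σ_x, Z.σ_x, Z.σ_x, Z.σ_x, ← Z.ρF_eq, ← Z.ρF_eq]
      rfl
    rw [e2]
    exact mul_mem ((T.rel K).hr_mem_H (mul_ne_zero he (pow_ne_zero _ hc)))
      (inv_mem ((T.rel K).hr_mem_H he))
  | one => simp
  | mul a b _ _ ha hb => rw [map_mul]; exact mul_mem ha hb
  | inv a _ ha => rw [map_inv]; exact inv_mem ha

theorem x_one_ne (r : Fin T.tab.n) : (T.rel K).x r 1 ≠ 1 := fun h => one_ne_zero (T.x_ne K r _ h)

theorem x_sep (r s : Fin T.tab.n) (h : (T.rel K).x r 1 ∈ Sg (T.rel K) fun u => u = s) : r = s := by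
  obtain ⟨t, ht⟩ : ∃ t, (T.rel K).x r 1 = (T.rel K).x s t := by
    generalize (T.rel K).x r 1 = g at h
    induction h using Subgroup.closure_induction with
    | mem y hy => obtain ⟨u, t, rfl, rfl⟩ := hy; exact ⟨t, rfl⟩
    | one => exact ⟨0, ((T.rel K).x_zero s).symm⟩
    | mul a b _ _ ha hb =>
      obtain ⟨x, rfl⟩ := ha; obtain ⟨y, rfl⟩ := hb; exact ⟨x + y, ((T.rel K).x_add s x y).symm⟩
    | inv a _ ha => obtain ⟨x, rfl⟩ := ha; exact ⟨-x, ((T.rel K).x_neg s x).symm⟩
  by_contra hne
  have hn : (T.S.neg r).val = D.neg r.val := T.neg_eq r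
  have hr : T.S.neg r ≠ r := fun e => by
    rcases T.S.pos_or_neg r with hp | hp
    · exact T.S.not_pos_neg r hp (e.symm.subst (motive := fun u => T.S.pos u) hp)
    · exact T.S.not_pos_neg r (e.subst (motive := fun u => T.S.pos u) hp) hp
  have e1 := congrFun (congrFun (congrArg Model.mat ht) (T.coord r)) (T.coord (T.S.neg r))
  change Model.mat (T.xG K r 1) _ _ = Model.mat (T.xG K s t) _ _ at e1
  rw [T.mat_xG, T.mat_xG, ChevalleyDatum.x, dif_pos (T.lt r), ChevalleyDatum.x, dif_pos (T.lt s)] at e1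
  set R' : Fin D.nroots := ⟨r.val, T.lt r⟩ with hR'
  set N' : Fin D.nroots := ⟨(T.S.neg r).val, T.lt _⟩ with hN'
  set S' : Fin D.nroots := ⟨s.val, T.lt s⟩ with hS'
  have hNR : N' ≠ R' := fun e => hr (Fin.ext (congrArg Fin.val e :))
  have hRS : R' ≠ S' := fun e => hne (Fin.ext (congrArg Fin.val e :))
  have hN : N'.val = D.negIdx.getD R'.val 0 := hn
  have hL : D.xMat F R' 1 (T.coord r) (T.coord (T.S.neg r)) = -1 := by
    show D.xMat F R' 1 (Sum.inr R') (Sum.inr N') = -1
    simp only [ChevalleyDatum.xMat, Matrix.of_apply]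
    rw [if_neg hNR, if_pos hN, if_neg hNR.symm]
    simp
  have hR : D.xMat F S' t (T.coord r) (T.coord (T.S.neg r)) = 0 := by
    show D.xMat F S' t (Sum.inr R') (Sum.inr N') = 0
    simp only [ChevalleyDatum.xMat, Matrix.of_apply]
    by_cases h1 : N' = S'
    · rw [if_pos h1, if_neg hRS]
    rw [if_neg h1]
    by_cases h2 : N'.val = D.negIdx.getD S'.val 0
    · rw [if_pos h2, if_neg hNR.symm, if_neg hRS]
    rw [if_neg h2, if_neg hNR.symm]
    have hc : D.chainCoeff s.val (T.S.neg r).val r.val = [] := by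
      by_contra hc
      obtain ⟨en, hen, h5, q, hq, h6⟩ := Mat.exists_of_chainCoeff_ne hc
      have := Z.ok
      simp only [FrameData.okB, FrameData.sepB, Bool.and_eq_true, List.all_eq_true, List.mem_range,
        Bool.or_eq_true, decide_eq_true_eq] at this
      rcases ((this.1.2 r.val (T.lt r) s.val (T.lt s)).resolve_left
        fun e => hne (Fin.ext e).symm) en hen with h7 | h7
      · exact h7 (h5.trans hn)
      · exact h7 q hq h6
    simp [hS', hR', hN', hc]
  rw [hL, hR] at e1
  exact one_ne_zero (neg_eq_zero.1 e1)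

theorem pres (r : Fin T.tab.n) (t : F) (hr : T.S.pos r) :
    (T.shapeR K).Pres T.S.pos ((T.rel K).x r t) := T.pres_posList K Z.pos_span r t hr

theorem commute_x {a b : Fin T.tab.n} (h : P.commuteB D a.val b.val = true) (x y : F) :
    Commute ((T.rel K).x a x) ((T.rel K).x b y) := by
  rw [← IsoHyp.xN_val, ← IsoHyp.xN_val]
  exact Z.iso.commute_of (T.lt a) (T.lt b) h x y

/-- the product of the root elements of the orthogonal roots -/
def og (_ : Frame K P e A) (k : Fin κ) (c : F) : ↥(D.group F) :=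
  ((A.orth k).map fun r => (T.rel K).x r c).prod

/-- the product of the negative root elements of the orthogonal roots -/
def ogn (_ : Frame K P e A) (k : Fin κ) (c : F) : ↥(D.group F) :=
  ((A.orth k).map fun r => (T.rel K).x (T.S.neg r) c).prod

/-- the representative of the longest element of an orbit -/
def nJ (Z : Frame K P e A) (k : Fin κ) : ↥(D.group F) := Z.og k 1 * Z.ogn k (-1) * Z.og k 1

theorem orth_cls (k : Fin κ) : ∀ r ∈ A.orth k, r ∈ A.O.cls k := by
  have := Z.ok
  simp only [FrameData.okB, FrameData.orthMemB, Bool.and_eq_true, List.all_eq_true,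
    decide_eq_true_eq] at this
  exact this.2 k (List.mem_finRange k)

theorem nJ_eq (k : Fin κ) (hk : A.orthB P k = true) : Z.nJ k = ((A.orth k).map fun r => (T.rel K).nr r 1).prod := by
  have := hk
  simp only [FrameData.orthB, Bool.and_eq_true, List.all_eq_true, decide_eq_true_eq,
    Bool.or_eq_true] at this
  obtain ⟨⟨-, hnd⟩, hcom⟩ := this
  unfold nJ og ogn
  revert hnd hcom
  generalize A.orth k = L
  induction L with
  | nil => simp
  | cons r L ih =>
    intro hcom hnd
    rw [List.nodup_cons] at hnd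
    have hL := ih (fun a ha b hb => hcom a (List.mem_cons_of_mem _ ha) b (List.mem_cons_of_mem _ hb)) hnd.2
    have hc := fun b hb => (hcom r (List.mem_cons_self ..) b (List.mem_cons_of_mem _ hb)).resolve_left
      (fun e => hnd.1 (e ▸ hb))
    have c1 : ∀ u v : F, Commute ((T.rel K).x r u) ((L.map fun s => (T.rel K).x s v).prod) := fun u v =>
      Commute.list_prod_right _ _ fun y hy => by
        obtain ⟨b, hb, rfl⟩ := List.mem_map.1 hy; exact Z.commute_x (hc b hb).1.1.1 u v
    have c2 : ∀ u v : F,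
        Commute ((T.rel K).x (T.S.neg r) u) ((L.map fun s => (T.rel K).x s v).prod) := fun u v =>
      Commute.list_prod_right _ _ fun y hy => by
        obtain ⟨b, hb, rfl⟩ := List.mem_map.1 hy; exact Z.commute_x (hc b hb).1.2 u v
    have c3 : ∀ u v : F,
        Commute ((T.rel K).x r u) ((L.map fun s => (T.rel K).x (T.S.neg s) v).prod) := fun u v =>
      Commute.list_prod_right _ _ fun y hy => by
        obtain ⟨b, hb, rfl⟩ := List.mem_map.1 hy; exact Z.commute_x (hc b hb).1.1.2 u v
    simp only [List.map_cons, List.prod_cons]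
    rw [← hL]
    set A' := (L.map fun s => (T.rel K).x s (1 : F)).prod
    set B' := (L.map fun s => (T.rel K).x (T.S.neg s) (-1 : F)).prod
    set a := (T.rel K).x r (1 : F)
    set b := (T.rel K).x (T.S.neg r) (-1 : F)
    have hn : (T.rel K).nr r 1 = a * b * a := by simp [RootRel.nr, nOf, a, b]
    rw [hn]
    calc a * A' * (b * B') * (a * A') = a * (A' * b) * B' * a * A' := by group
      _ = a * (b * A') * B' * a * A' := by rw [(c2 (-1) 1).eq]
      _ = a * b * A' * (B' * a) * A' := by group
      _ = a * b * A' * (a * B') * A' := by rw [(c3 1 (-1)).eq]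
      _ = a * b * (A' * a) * B' * A' := by group
      _ = a * b * (a * A') * B' * A' := by rw [(c1 1 1).eq]
      _ = a * b * a * (A' * B' * A') := by group

theorem nr_coset (r : Fin T.tab.n) :
    InCoset (T.rel K) ((T.rel K).nr r 1) (A.reflWord r) := by
  have hlt : r.val < A.wit.length := lt_of_lt_of_eq r.isLt Z.wit_len.symm
  have hw := Z.witness_ok
  simp only [Model.witB, decide_eq_true_eq] at hw
  have hr : (T.S.actw A.wit[r.val].1 (T.S.simple A.wit[r.val].2)).val = r.val := by
    have h1 := List.getElem_of_eq hw (i := r.val) (by simpa using hlt)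
    simpa using h1
  simp only [FrameData.reflWord, List.getElem?_eq_getElem hlt]
  set w := A.wit[r.val].1
  set j := A.wit[r.val].2
  obtain ⟨c, hc, h⟩ := nw_conj_nr_all (T.rel K) w (T.S.simple j)
  have h' := h c
  rw [show T.S.actw w (T.S.simple j) = r from Fin.ext hr, hc] at h'
  have h0 : c ≠ 0 := fun e0 => by simp [e0] at hc
  have hcw : InCoset (T.rel K) ((T.rel K).nw w) w := ⟨1, one_mem _, by simp⟩
  rw [← h']
  exact (hcw.mul _ ⟨(T.rel K).hr (T.S.simple j) c, (T.rel K).hr_mem_H h0,
    by simp [RootRel.n, (T.rel K).nr_eq (T.S.simple j) c]⟩).mul _ (hcw.inv _)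

theorem nJ_coset (k : Fin κ) (hk : A.reflB P k = true) : InCoset (T.rel K) (Z.nJ k) (A.O.wd k) := by
  simp only [FrameData.reflB, Bool.and_eq_true] at hk
  have h1 : InCoset (T.rel K) (Z.nJ k) ((A.orth k).map A.reflWord).flatten := by
    rw [Z.nJ_eq k hk.1]
    generalize A.orth k = L
    induction L with
    | nil => exact InCoset.one _
    | cons r L ih => simpa using (Z.nr_coset r).mul _ ih
  obtain ⟨t, ht, e1⟩ := h1
  have := hk
  set u := ((A.orth k).map A.reflWord).flatten
  obtain ⟨t', ht', e2⟩ :=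
    (show InCoset (T.rel K) ((T.rel K).nw u) u from ⟨1, one_mem _, by simp⟩).mul _
      ((show InCoset (T.rel K) ((T.rel K).nw (A.O.wd k)) (A.O.wd k) from
        ⟨1, one_mem _, by simp⟩).inv _)
  refine ⟨t * ((T.rel K).nw u * ((T.rel K).nw (A.O.wd k))⁻¹), mul_mem ht ?_, by rw [e1]; group⟩
  rw [e2]
  refine mul_mem ht' (nw_mem_H_of_pos _ (fun r hr => ?_) Z.x_one_ne Z.x_sep)
  rw [T.S.actw_append, OrbitData.same_of_sameB this.2, T.S.actw_reverse]
  exact hr

theorem comm (k : Fin κ) (r : Fin T.tab.n) (hr : r ∈ A.O.cls k) (s : Fin T.tab.n) (hs : T.S.pos s)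
    (hsn : s ∉ A.O.cls k) (t u : F) :
    (T.rel K).x r t * (T.rel K).x s u * (T.rel K).x r (-t) ∈
      Sg (T.rel K) fun r => T.S.pos r ∧ r ∉ A.O.cls k := by
  have := Z.ok
  simp only [FrameData.okB, FrameData.commB, Bool.and_eq_true, List.all_eq_true, decide_eq_true_eq,
    Bool.or_eq_true, Bool.not_eq_true', decide_eq_false_iff_not] at this
  rcases this.1.1.2 k (List.mem_finRange k) r hr s (List.mem_finRange s) with (h' | h') | h'
  · exact absurd hs h'
  · exact absurd h' hsn
  obtain ⟨⟨h1, h2⟩, h3⟩ := h'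
  rw [← IsoHyp.xN_val, ← IsoHyp.xN_val, ← IsoHyp.xN_val,
    IsoHyp.conj_eq Z.iso.comm (T.lt r) (T.lt s) h1 h2]
  refine mul_mem (IsoHyp.xN_val (T := T) (K := K) s u ▸ x_mem_Sg _ ⟨hs, hsn⟩ u) ?_
  refine Subgroup.list_prod_mem _ fun y hy => ?_
  obtain ⟨c, hc, rfl⟩ := List.mem_map.1 hy
  obtain ⟨⟨hlt, hpos⟩, hout⟩ := h3 c hc
  let c' : Fin T.tab.n := ⟨c.1, lt_of_lt_of_eq hlt T.n_eq.symm⟩
  rw [IsoHyp.val, show c.1 = c'.val from rfl, IsoHyp.xN_val]
  exact x_mem_Sg _ ⟨(T.pos_val c').2 hpos, fun hin => hout c' hin rfl⟩ _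

end Frame

end Cfsg.Agent.Twisted
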