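import Cfsg.Agent.Twisted.Cells

/-!
The combinatorics of the orbits of a symmetry of a root system given by tables, checked by Boolean
functions: the hypotheses on `cls` and `wd` in `Data`, the dichotomy on the images of an orbit, the only
fixed elements of the group of an orbit, and certificates for steps of the chain of parabolic subgroups.
-/

set_option autoImplicit false

namespace Cfsg.Agent.Twisted

open ChevGroup

/-- The combinatorial data of the orbits: `vec` gives coordinates on the fundamental roots, `step i j` is the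
Cartan integer of `(p_i, p_j)`, `rep k` lists representatives of the reflection group of the orbit `k`, and
`cls k` starts with a fundamental root and continues with its images and with sums of earlier members. -/
structure OrbitData (n l κ : ℕ) where
  rho : Fin n → Fin n
  cls : Fin κ → List (Fin n)
  wd : Fin κ → List (Fin l)
  vec : Fin n → Fin l → ℤ
  step : Fin l → Fin l → ℤ
  rep : Fin κ → List (List (Fin l))
  base : Fin κ → Fin n

namespace OrbitData

variable {n l κ : ℕ} (S : RootIdx (Fin n) (Fin l)) (O : OrbitData n l κ)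

/-- height -/
def ht (v : Fin l → ℤ) : ℤ := ∑ j, v j

/-- the fundamental reflection on coordinates -/
def lstep (i : Fin l) (v : Fin l → ℤ) : Fin l → ℤ :=
  fun j => v j - if j = i then ∑ k, O.step i k * v k else 0

/-- the word of the orbits -/
def word (W : List (Fin κ)) : List (Fin l) := (W.map O.wd).flatten

/-- two words act in the same way -/
def sameB (u v : List (Fin l)) : Bool :=
  (List.finRange n).all fun r => decide (S.actw u r = S.actw v r)

variable [DecidablePred S.pos]

/-- facts on single roots -/
def rootB : Bool :=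
  (List.finRange n).all fun r =>
    (!decide (S.pos r) || decide (S.pos (O.rho r))) &&
    decide (O.rho (S.neg r) = S.neg (O.rho r)) &&
    decide (decide (S.pos r) = decide (0 < ht (O.vec r))) &&
    decide (decide (S.pos (S.neg r)) = decide (ht (O.vec r) < 0)) &&
    (List.finRange l).all fun i => decide (O.vec (S.refl i r) = O.lstep i (O.vec r))

/-- facts on one orbit -/
def clsB (k : Fin κ) : Bool :=
  ((O.cls k).all fun r => decide (S.pos r) &&
    decide (S.neg (S.actw (O.wd k) r) ∈ O.cls k) &&
    decide (S.neg (S.actw (O.wd k).reverse r) ∈ O.cls k)) &&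
  decide (O.base k ∈ O.cls k) &&
  ((List.range (O.cls k).length).all fun i =>
    let c := (O.cls k).getD i (O.base k)
    let pre := (O.cls k).take i
    decide (c = O.base k) || decide (c = O.rho (O.base k)) || decide (c = O.rho (O.rho (O.base k))) ||
      pre.any fun a => pre.any fun b => decide (O.vec c = fun j => O.vec a j + O.vec b j)) &&
  (List.finRange n).all fun r =>
    decide (decide (O.rho r ∈ O.cls k) = decide (r ∈ O.cls k)) &&
    decide (O.rho (S.actw (O.wd k) r) = S.actw (O.wd k) (O.rho r)) &&
    decide (S.actw (O.wd k) (S.actw (O.wd k) r) = r) &&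
    (!decide (S.pos r) || decide (r ∈ O.cls k) ||
      (decide (S.pos (S.actw (O.wd k) r)) && decide (S.actw (O.wd k) r ∉ O.cls k) &&
        decide (S.pos (S.actw (O.wd k).reverse r)) && decide (S.actw (O.wd k).reverse r ∉ O.cls k)))

/-- the only elements of the group of an orbit that commute with `ρ` are `1` and the longest one -/
def repB (k : Fin κ) : Bool :=
  decide (([] : List (Fin l)) ∈ O.rep k) &&
  (O.rep k).all fun w =>
    ((O.wd k).all fun i => (O.rep k).any fun v => sameB S (i :: w) v) &&
    (sameB S w [] || sameB S w (O.wd k) ||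
      (List.finRange n).any fun r => decide (O.rho (S.actw w r) ≠ S.actw w (O.rho r)))

/-- all checks -/
def okB : Bool :=
  O.rootB S && ((List.finRange κ).all fun k => O.clsB S k && O.repB S k)

variable {S O}

omit [DecidablePred S.pos] in
theorem same_of_sameB {u v : List (Fin l)} (h : sameB S u v = true) (r : Fin n) :
    S.actw u r = S.actw v r := by
  simp only [sameB, List.all_eq_true, decide_eq_true_eq] at h
  exact h r (List.mem_finRange r)

variable (h : O.okB S = true)
include h

theorem root_of (r : Fin n) :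
    (S.pos r → S.pos (O.rho r)) ∧ O.rho (S.neg r) = S.neg (O.rho r) ∧
      (S.pos r ↔ 0 < ht (O.vec r)) ∧ (S.pos (S.neg r) ↔ ht (O.vec r) < 0) ∧
      ∀ i, O.vec (S.refl i r) = O.lstep i (O.vec r) := by
  simp only [okB, rootB, Bool.and_eq_true, List.all_eq_true, decide_eq_true_eq, Bool.or_eq_true,
    Bool.not_eq_true', decide_eq_false_iff_not, decide_eq_decide] at h
  obtain ⟨⟨⟨⟨h1, h2⟩, h3⟩, h4⟩, h5⟩ := h.1 r (List.mem_finRange r)
  exact ⟨fun hr => h1.resolve_left (not_not.2 hr), h2, h3, h4, fun i => h5 i (List.mem_finRange i)⟩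

theorem cls_of (k : Fin κ) : O.clsB S k = true ∧ O.repB S k = true := by
  simp only [okB, Bool.and_eq_true, List.all_eq_true] at h
  exact h.2 k (List.mem_finRange k)

theorem cls_pos (k : Fin κ) : ∀ r ∈ O.cls k, S.pos r := by
  intro r hr
  have := (cls_of h k).1
  simp only [clsB, Bool.and_eq_true, List.all_eq_true, decide_eq_true_eq] at this
  exact (this.1.1.1 r hr).1.1

theorem wd_cls (k : Fin κ) : ∀ r ∈ O.cls k,
    S.neg (S.actw (O.wd k) r) ∈ O.cls k ∧ S.neg (S.actw (O.wd k).reverse r) ∈ O.cls k := by
  intro r hr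
  have := (cls_of h k).1
  simp only [clsB, Bool.and_eq_true, List.all_eq_true, decide_eq_true_eq] at this
  exact ⟨(this.1.1.1 r hr).1.2, (this.1.1.1 r hr).2⟩

theorem cls_root (k : Fin κ) (r : Fin n) :
    (O.rho r ∈ O.cls k ↔ r ∈ O.cls k) ∧
      O.rho (S.actw (O.wd k) r) = S.actw (O.wd k) (O.rho r) ∧
      S.actw (O.wd k) (S.actw (O.wd k) r) = r ∧
      (S.pos r → r ∉ O.cls k →
        (S.pos (S.actw (O.wd k) r) ∧ S.actw (O.wd k) r ∉ O.cls k) ∧
          (S.pos (S.actw (O.wd k).reverse r) ∧ S.actw (O.wd k).reverse r ∉ O.cls k)) := by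
  have := (cls_of h k).1
  simp only [clsB, Bool.and_eq_true, List.all_eq_true, decide_eq_true_eq, Bool.or_eq_true,
    Bool.not_eq_true', decide_eq_false_iff_not, decide_eq_decide] at this
  obtain ⟨⟨⟨h1, h2⟩, h3⟩, h4⟩ := this.2 r (List.mem_finRange r)
  refine ⟨h1, h2, h3, fun hr hc => ?_⟩
  rcases h4 with (h' | h') | h'
  · exact absurd hr h'
  · exact absurd h' hc
  · exact ⟨⟨h'.1.1.1, h'.1.1.2⟩, h'.1.2, h'.2⟩

theorem invol (k : Fin κ) (r : Fin n) : S.actw (O.wd k) (S.actw (O.wd k) r) = r :=
  (cls_root h k r).2.2.1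

theorem rev_eq (k : Fin κ) (r : Fin n) : S.actw (O.wd k).reverse r = S.actw (O.wd k) r := by
  conv_lhs => rw [← invol h k r]
  rw [S.actw_reverse']

theorem word_comm (W : List (Fin κ)) (r : Fin n) :
    O.rho (S.actw (O.word W).reverse r) = S.actw (O.word W).reverse (O.rho r) := by
  induction W generalizing r with
  | nil => simp [word]
  | cons k W ih =>
    have e : ∀ u, S.actw (O.word (k :: W)).reverse u =
        S.actw (O.word W).reverse (S.actw (O.wd k) u) := fun u => by
      rw [show O.word (k :: W) = O.wd k ++ O.word W by simp [word], List.reverse_append, S.actw_append,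
        rev_eq h]
    rw [e, e, ih, (cls_root h k r).2.1]

theorem actw_vec (w : List (Fin l)) (a b c : Fin n) (e : O.vec c = fun j => O.vec a j + O.vec b j) :
    O.vec (S.actw w c) = fun j => O.vec (S.actw w a) j + O.vec (S.actw w b) j := by
  induction w with
  | nil => simpa using e
  | cons i w ih =>
    simp only [S.actw_cons]
    rw [(root_of h _).2.2.2.2 i, (root_of h _).2.2.2.2 i, (root_of h _).2.2.2.2 i, ih]
    funext j
    simp only [lstep]
    by_cases hj : j = i
    · simp only [if_pos hj, mul_add, Finset.sum_add_distrib]; ring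
    · simp only [if_neg hj]; ring

/-- The dichotomy. -/
theorem dich (k : Fin κ) (W : List (Fin κ)) :
    (∀ r ∈ O.cls k, S.pos (S.actw (O.word W).reverse r)) ∨
      ∀ r ∈ O.cls k, S.pos (S.neg (S.actw (O.word W).reverse r)) := by
  set g := S.actw (O.word W).reverse with hg
  have hρpos : ∀ u, S.pos u → S.pos (O.rho u) := fun u => (root_of h u).1
  have hρneg : ∀ u, S.pos (S.neg u) → S.pos (S.neg (O.rho u)) := fun u hu => by
    rw [← (root_of h u).2.1]; exact hρpos _ hu
  have hcl := (cls_of h k).1
  simp only [clsB, Bool.and_eq_true, List.all_eq_true, decide_eq_true_eq, Bool.or_eq_true,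
    List.any_eq_true, List.mem_range] at hcl
  have key : ∀ (Q : ℤ → Prop), (∀ x y, Q x → Q y → Q (x + y)) →
      Q (ht (O.vec (g (O.base k)))) → Q (ht (O.vec (g (O.rho (O.base k))))) →
      Q (ht (O.vec (g (O.rho (O.rho (O.base k)))))) →
      ∀ i, ∀ hi : i < (O.cls k).length, Q (ht (O.vec (g (O.cls k)[i]))) := by
    intro Q hQ q0 q1 q2 i
    induction i using Nat.strong_induction_on with
    | _ i ih =>
      intro hi
      have := hcl.1.2 i hi
      rw [List.getD_eq_getElem _ _ hi] at this
      rcases this with ((e | e) | e) | ⟨a, ha, b, hb, e⟩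
      · rwa [e]
      · rwa [e]
      · rwa [e]
      · obtain ⟨j, hj, rfl⟩ := List.mem_iff_getElem.1 ha
        obtain ⟨j', hj', rfl⟩ := List.mem_iff_getElem.1 hb
        rw [List.length_take] at hj hj'
        simp only [List.getElem_take] at e
        have e' : O.vec (g (O.cls k)[i]) =
            fun t => O.vec (g (O.cls k)[j]) t + O.vec (g (O.cls k)[j']) t := actw_vec h _ _ _ _ e
        rw [e']
        simp only [ht, Finset.sum_add_distrib]
        exact hQ _ _ (ih j (by omega) (by omega)) (ih j' (by omega) (by omega))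
  rcases S.pos_or_neg (g (O.base k)) with hp | hn
  · refine Or.inl fun r hr => ?_
    obtain ⟨i, hi, rfl⟩ := List.mem_iff_getElem.1 hr
    refine (root_of h _).2.2.1.2 (key (fun x => 0 < x) (fun x y hx hy => by omega) ?_ ?_ ?_ i hi)
    · exact (root_of h _).2.2.1.1 hp
    · rw [hg, ← word_comm h]
      exact (root_of h _).2.2.1.1 (hρpos _ hp)
    · rw [hg, ← word_comm h, ← word_comm h]
      exact (root_of h _).2.2.1.1 (hρpos _ (hρpos _ hp))
  · refine Or.inr fun r hr => ?_
    obtain ⟨i, hi, rfl⟩ := List.mem_iff_getElem.1 hr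
    refine (root_of h _).2.2.2.1.2 (key (fun x => x < 0) (fun x y hx hy => by omega) ?_ ?_ ?_ i hi)
    · exact (root_of h _).2.2.2.1.1 hn
    · rw [hg, ← word_comm h]
      exact (root_of h _).2.2.2.1.1 (hρneg _ hn)
    · rw [hg, ← word_comm h, ← word_comm h]
      exact (root_of h _).2.2.2.1.1 (hρneg _ (hρneg _ hn))

/-- A word in the letters of an orbit that commutes with `ρ` acts as `1` or as the longest element. -/
theorem rep_fixed (k : Fin κ) (w : List (Fin l)) (hw : ∀ i ∈ w, i ∈ O.wd k)
    (hc : ∀ r, O.rho (S.actw w r) = S.actw w (O.rho r)) :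
    (∀ r, S.actw w r = r) ∨ ∀ r, S.actw w r = S.actw (O.wd k) r := by
  have hr := (cls_of h k).2
  simp only [repB, Bool.and_eq_true, List.all_eq_true, decide_eq_true_eq, List.any_eq_true,
    Bool.or_eq_true] at hr
  have hex : ∀ w : List (Fin l), (∀ i ∈ w, i ∈ O.wd k) →
      ∃ v ∈ O.rep k, ∀ r, S.actw w r = S.actw v r := by
    intro w
    induction w with
    | nil => exact fun _ => ⟨[], hr.1, fun _ => rfl⟩
    | cons i w ih =>
      intro hw
      obtain ⟨v, hv, e⟩ := ih fun j hj => hw j (List.mem_cons_of_mem _ hj)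
      obtain ⟨v', hv', e'⟩ := (hr.2 v hv).1 i (hw i (List.mem_cons_self ..))
      exact ⟨v', hv', fun r => by rw [← same_of_sameB e' r, S.actw_cons, S.actw_cons, e]⟩
  obtain ⟨v, hv, e⟩ := hex w hw
  rcases (hr.2 v hv).2 with (e' | e') | ⟨r, -, e'⟩
  · exact Or.inl fun r => by rw [e, same_of_sameB e' r, S.actw_nil]
  · exact Or.inr fun r => by rw [e, same_of_sameB e' r]
  · exfalso
    apply e'
    rw [← e, ← e]
    exact hc r

end OrbitData

end Cfsg.Agent.Twisted
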