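import Cfsg.Agent.Twisted.Commuting
import Cfsg.Agent.Twisted.Transfer

/-!
Pieces used for each type: reordering commuting products, monomial and diagonal elements of `G₁` from products of
orthogonal root elements, membership in `B₁`-parts of single root groups, and the torus as a commutative group.
-/

set_option autoImplicit false

namespace Cfsg.Agent.Twisted

open ChevGroup ChevIsogeny Cfsg.Lie

variable {D : ChevalleyDatum} {T : Model D} {F : Type*} [Field F] [Finite F] {K : Rels D F} {κ : ℕ}
  {P : IsoData} {e : ℕ} {A : FrameData T (κ := κ)}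

/-- the root groups of the listed roots and of their negatives commute pairwise -/
def pairOrthB (P : IsoData) (T : Model D) (L : List (Fin T.tab.n)) : Bool :=
  decide L.Nodup && L.all fun r => L.all fun s => decide (r = s) ||
    (P.commuteB D r.val s.val && P.commuteB D r.val (T.S.neg s).val &&
      P.commuteB D (T.S.neg r).val s.val && P.commuteB D (T.S.neg r).val (T.S.neg s).val)

variable (Z : Frame K P e A)

namespace Frame

include Z

theorem prodX_perm {L L' : List (Fin T.tab.n)} (h : L.Perm L') (hL : commListB P A L = true)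
    (v : Fin T.tab.n → F) : prodX T K L v = prodX T K L' v := by
  refine List.Perm.prod_eq' (h.map _) ?_
  have key : ∀ a ∈ L.map (fun r => (T.rel K).x r (v r)), ∀ b ∈ L.map (fun r => (T.rel K).x r (v r)),
      Commute a b := by
    intro a ha b hb
    obtain ⟨r, hr, rfl⟩ := List.mem_map.1 ha
    obtain ⟨s, hs, rfl⟩ := List.mem_map.1 hb
    exact Z.commList_commute hL hr hs _ _
  exact (List.Pairwise.imp_of_mem (fun {x y} hx hy _ => key x hx y hy)
    (List.pairwise_of_forall (R := fun _ _ => True) fun _ _ => trivial))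

theorem prodX_congr {L : List (Fin T.tab.n)} {v w : Fin T.tab.n → F} (h : ∀ r ∈ L, v r = w r) :
    prodX T K L v = prodX T K L w :=
  congrArg List.prod (List.map_congr_left fun r hr => by rw [h r hr])

theorem nr_commute {r s : Fin T.tab.n}
    (h : P.commuteB D r.val s.val = true ∧ P.commuteB D r.val (T.S.neg s).val = true ∧
      P.commuteB D (T.S.neg r).val s.val = true ∧ P.commuteB D (T.S.neg r).val (T.S.neg s).val = true)
    (a b : F) : Commute ((T.rel K).nr r a) ((T.rel K).nr s b) := by
  have h1 : ∀ u, Commute ((T.rel K).x r u) ((T.rel K).nr s b) := fun u =>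
    ((Z.commute_x h.1 u b).mul_right (Z.commute_x h.2.1 u _)).mul_right (Z.commute_x h.1 u b)
  have h2 : ∀ u, Commute ((T.rel K).x (T.S.neg r) u) ((T.rel K).nr s b) := fun u =>
    ((Z.commute_x h.2.2.1 u b).mul_right (Z.commute_x h.2.2.2 u _)).mul_right (Z.commute_x h.2.2.1 u b)
  exact ((h1 a).mul_left (h2 _)).mul_left (h1 a)

/-- Products of monomial elements of orthogonal roots. -/
theorem nprod_mem {G₁ : Subgroup ↥(D.group F)} {L : List (Fin T.tab.n)} (hL : pairOrthB P T L = true)
    (v : Fin T.tab.n → F) (hp : (L.map fun r => (T.rel K).x r (v r)).prod ∈ G₁)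
    (hn : (L.map fun r => (T.rel K).x (T.S.neg r) (-(v r)⁻¹)).prod ∈ G₁) :
    (L.map fun r => (T.rel K).nr r (v r)).prod ∈ G₁ := by
  have key : (L.map fun r => (T.rel K).nr r (v r)).prod =
      (L.map fun r => (T.rel K).x r (v r)).prod *
        (L.map fun r => (T.rel K).x (T.S.neg r) (-(v r)⁻¹)).prod *
        (L.map fun r => (T.rel K).x r (v r)).prod := by
    clear hp hn
    simp only [pairOrthB, Bool.and_eq_true, decide_eq_true_eq, List.all_eq_true, Bool.or_eq_true] at hL
    obtain ⟨hnd, hcom⟩ := hL
    induction L with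
    | nil => simp
    | cons r L ih =>
      rw [List.nodup_cons] at hnd
      have hc := fun b hb => (hcom r (List.mem_cons_self ..) b (List.mem_cons_of_mem _ hb)).resolve_left
        (fun (e1 : r = b) => hnd.1 (e1 ▸ hb))
      have hL' := ih hnd.2 fun a ha b hb => hcom a (List.mem_cons_of_mem _ ha) b (List.mem_cons_of_mem _ hb)
      simp only [List.map_cons, List.prod_cons]
      rw [hL']
      have c1 : Commute ((T.rel K).x r (v r)) ((L.map fun s => (T.rel K).x s (v s)).prod) :=
        Commute.list_prod_right _ _ fun y hy => by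
          obtain ⟨b, hb, rfl⟩ := List.mem_map.1 hy; exact Z.commute_x (hc b hb).1.1.1 _ _
      have c2 : Commute ((T.rel K).x (T.S.neg r) (-(v r)⁻¹))
          ((L.map fun s => (T.rel K).x s (v s)).prod) :=
        Commute.list_prod_right _ _ fun y hy => by
          obtain ⟨b, hb, rfl⟩ := List.mem_map.1 hy; exact Z.commute_x (hc b hb).1.2 _ _
      have c3 : Commute ((T.rel K).x r (v r))
          ((L.map fun s => (T.rel K).x (T.S.neg s) (-(v s)⁻¹)).prod) :=
        Commute.list_prod_right _ _ fun y hy => by
          obtain ⟨b, hb, rfl⟩ := List.mem_map.1 hy; exact Z.commute_x (hc b hb).1.1.2 _ _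
      set A' := (L.map fun s => (T.rel K).x s (v s)).prod
      set B' := (L.map fun s => (T.rel K).x (T.S.neg s) (-(v s)⁻¹)).prod
      set a := (T.rel K).x r (v r)
      set b := (T.rel K).x (T.S.neg r) (-(v r)⁻¹)
      show a * b * a * (A' * B' * A') = a * A' * (b * B') * (a * A')
      symm
      calc a * A' * (b * B') * (a * A') = a * (A' * b) * B' * a * A' := by group
        _ = a * (b * A') * B' * a * A' := by rw [c2.eq]
        _ = a * b * A' * (B' * a) * A' := by group
        _ = a * b * A' * (a * B') * A' := by rw [c3.eq]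
        _ = a * b * (A' * a) * B' * A' := by group
        _ = a * b * (a * A') * B' * A' := by rw [c1.eq]
        _ = a * b * a * (A' * B' * A') := by group
  rw [key]
  exact mul_mem (mul_mem hp hn) hp

/-- Products of diagonal elements of orthogonal roots. -/
theorem hprod_mem {G₁ : Subgroup ↥(D.group F)} {L : List (Fin T.tab.n)} (hL : pairOrthB P T L = true)
    (v : Fin T.tab.n → F) (h1 : (L.map fun r => (T.rel K).nr r (v r)).prod ∈ G₁)
    (h2 : (L.map fun r => (T.rel K).nr r (-1)).prod ∈ G₁) :
    (L.map fun r => (T.rel K).hr r (v r)).prod ∈ G₁ := by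
  have key : (L.map fun r => (T.rel K).hr r (v r)).prod =
      (L.map fun r => (T.rel K).nr r (v r)).prod * (L.map fun r => (T.rel K).nr r (-1)).prod := by
    clear h1 h2
    simp only [pairOrthB, Bool.and_eq_true, decide_eq_true_eq, List.all_eq_true, Bool.or_eq_true] at hL
    obtain ⟨hnd, hcom⟩ := hL
    induction L with
    | nil => simp
    | cons r L ih =>
      rw [List.nodup_cons] at hnd
      have hc := fun b hb => (hcom r (List.mem_cons_self ..) b (List.mem_cons_of_mem _ hb)).resolve_left
        (fun (e1 : r = b) => hnd.1 (e1 ▸ hb))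
      have hL' := ih hnd.2 fun a ha b hb => hcom a (List.mem_cons_of_mem _ ha) b (List.mem_cons_of_mem _ hb)
      have c1 : Commute ((T.rel K).nr r (-1)) ((L.map fun s => (T.rel K).nr s (v s)).prod) :=
        Commute.list_prod_right _ _ fun y hy => by
          obtain ⟨b, hb, rfl⟩ := List.mem_map.1 hy
          exact Z.nr_commute ⟨(hc b hb).1.1.1, (hc b hb).1.1.2, (hc b hb).1.2, (hc b hb).2⟩ _ _
      simp only [List.map_cons, List.prod_cons]
      rw [hL']
      set A' := (L.map fun s => (T.rel K).nr s (v s)).prod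
      set B' := (L.map fun s => (T.rel K).nr s (-1)).prod
      show (T.rel K).nr r (v r) * (T.rel K).nr r (-1) * (A' * B') =
        (T.rel K).nr r (v r) * A' * ((T.rel K).nr r (-1) * B')
      calc (T.rel K).nr r (v r) * (T.rel K).nr r (-1) * (A' * B') =
          (T.rel K).nr r (v r) * ((T.rel K).nr r (-1) * A') * B' := by group
        _ = (T.rel K).nr r (v r) * (A' * (T.rel K).nr r (-1)) * B' := by rw [c1.eq]
        _ = _ := by group
  rw [key]
  exact mul_mem h1 h2

theorem hr_simple_eq_tor (i : Fin T.tab.l) (a : Fˣ) :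
    (T.rel K).hr (T.S.simple i) (a : F) = tor T K (Pi.mulSingle i a) := by
  classical
  refine Z.H_ext ((T.rel K).hr_mem_H a.ne_zero) (Z.tor_mem_H _) fun s t => ?_
  rw [Z.hr_conj _ _ _ a.ne_zero, Z.tor_conj, chi, Finset.prod_eq_single i]
  · simp
  · intro j _ hj; simp [Pi.mulSingle_eq_of_ne hj]
  · simp

/-- `tor` in any order. -/
theorem tor_eq_prod {L : List (Fin T.tab.l)} (hL : L.Perm (List.finRange T.tab.l))
    (c : Fin T.tab.l → Fˣ) :
    tor T K c = (L.map fun i => (T.rel K).hr (T.S.simple i) (c i : F)).prod := by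
  refine (List.Perm.prod_eq' (hL.map _) ?_).symm
  have key : ∀ a ∈ L.map (fun i => (T.rel K).hr (T.S.simple i) (c i : F)),
      ∀ b ∈ L.map (fun i => (T.rel K).hr (T.S.simple i) (c i : F)), Commute a b := by
    intro a ha b hb
    obtain ⟨i, -, rfl⟩ := List.mem_map.1 ha
    obtain ⟨j, -, rfl⟩ := List.mem_map.1 hb
    rw [Z.hr_simple_eq_tor, Z.hr_simple_eq_tor]
    show _ * _ = _ * _
    rw [← Z.tor_mul, ← Z.tor_mul, mul_comm]
  exact (List.Pairwise.imp_of_mem (fun {x y} hx hy _ => key x hx y hy)
    (List.pairwise_of_forall (R := fun _ _ => True) fun _ _ => trivial))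

theorem Sg_mem_prodX {Q : Fin T.tab.n → Prop} {L : List (Fin T.tab.n)} (h : ∀ r ∈ L, Q r)
    (v : Fin T.tab.n → F) : prodX T K L v ∈ Sg (T.rel K) Q :=
  Subgroup.list_prod_mem _ fun y hy => by
    obtain ⟨r, hr, rfl⟩ := List.mem_map.1 hy
    exact x_mem_Sg _ (T := Q) (h r hr) _

end Frame

end Cfsg.Agent.Twisted
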