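import Cfsg.Agent.Lib.ChevCore.RootElem
import Cfsg.Agent.Twisted.Gens

/-!
Words in root elements whose parameters are polynomials in variables, over a field of characteristic two:
matrix entries as polynomials, computed on sparse vectors.
-/

set_option autoImplicit false

namespace Cfsg.Agent.Twisted.PolyWord

open Cfsg.Lie Cfsg.Agent.ChevCore

/-- a monomial: the sorted list of its variables -/
abbrev Mon := List ℕ

/-- a polynomial modulo two: the list of its monomials -/
abbrev Pol := List Mon

/-- insertion into a sorted list -/
noncomputable def ins (a : ℕ) (m : Mon) : Mon :=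
  List.rec [a] (fun b t acc => bif Nat.ble a b then a :: b :: t else b :: acc) m

/-- product of monomials -/
noncomputable def monMul (m n : Mon) : Mon := List.rec n (fun a _ acc => ins a acc) m

/-- equality of monomials -/
noncomputable def monBeq (m n : Mon) : Bool :=
  List.rec (fun n => n.isEmpty)
    (fun a _ acc n => List.rec false (fun b t _ => Nat.beq a b && acc t) n) m n

/-- add a monomial -/
noncomputable def toggle (m : Mon) (q : Pol) : Pol :=
  List.rec [m] (fun n t acc => bif monBeq m n then t else n :: acc) q

/-- sum -/
noncomputable def padd (p q : Pol) : Pol := List.rec q (fun m _ acc => toggle m acc) p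

/-- product -/
noncomputable def pmul (p q : Pol) : Pol :=
  List.rec [] (fun m _ acc => padd (kmap (monMul m) q) acc) p

/-- power by a numeral -/
noncomputable def ppow (p : Pol) (k : ℕ) : Pol := Nat.rec [[]] (fun _ acc => pmul p acc) k

/-- equality of polynomials -/
noncomputable def peqB (p q : Pol) : Bool := (padd p q).isEmpty

/-- a sparse vector of polynomials -/
abbrev PVec := List (ℕ × Pol)

/-- add into a coordinate -/
noncomputable def vadd (a : ℕ) (p : Pol) (v : PVec) : PVec :=
  List.rec [(a, p)] (fun e t acc => bif Nat.beq a e.1 then (a, padd p e.2) :: t else e :: acc) v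

/-- parity -/
noncomputable def zOdd (z : ℤ) : Bool := bif zIsZero (z % 2) then false else true

variable (D : ChevalleyDatum)

/-- add the image of a vector under one coefficient matrix -/
noncomputable def contrib (A : Acc) (k r : ℕ) (pk : Pol) (v acc : PVec) : PVec :=
  List.rec acc (fun e _ acc => List.rec acc
    (fun az _ acc => bif zOdd az.2 then vadd az.1 (pmul pk e.2) acc else acc) (colW D A k r e.1)) v

/-- a root element on a vector -/
noncomputable def applyRoot (A : Acc) (r : ℕ) (p : Pol) (v : PVec) : PVec :=
  contrib D A 3 r (ppow p 3) v (contrib D A 2 r (ppow p 2) v (contrib D A 1 r p v v))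

/-- a word on a vector -/
noncomputable def applyW (A : Acc) (w : List (ℕ × Pol)) (v : PVec) : PVec :=
  List.rec v (fun rp _ acc => applyRoot D A rp.1 rp.2 acc) w

/-- a coordinate -/
noncomputable def getP (a : ℕ) (v : PVec) : Pol :=
  List.rec [] (fun e _ acc => bif Nat.beq a e.1 then padd e.2 acc else acc) v

/-- the entry of the product at `(a, b)` is the polynomial `p` -/
noncomputable def entB (A : Acc) (w : List (ℕ × Pol)) (a b : ℕ) (p : Pol) : Bool :=
  kall w (fun rp => Nat.blt rp.1 D.nroots) && Nat.blt a (D.nroots + D.rank) &&
    Nat.blt b (D.nroots + D.rank) && peqB (getP a (applyW D A w [(b, [[]])])) p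

variable {F : Type*} [Field F]

/-- value of a monomial -/
def mev (v : ℕ → F) (m : Mon) : F := (m.map v).prod

/-- value of a polynomial -/
def pev (v : ℕ → F) (p : Pol) : F := (p.map (mev v)).sum

@[simp] theorem pev_nil (v : ℕ → F) : pev v [] = 0 := rfl

@[simp] theorem pev_cons (v : ℕ → F) (m : Mon) (p : Pol) : pev v (m :: p) = mev v m + pev v p := by
  simp [pev]

theorem mev_ins (v : ℕ → F) (a : ℕ) (m : Mon) : mev v (ins a m) = v a * mev v m := by
  induction m with
  | nil => simp [mev, ins]
  | cons b t ih =>
    rw [show ins a (b :: t) = bif Nat.ble a b then a :: b :: t else b :: ins a t from rfl]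
    cases Nat.ble a b <;> simp [mev] at ih ⊢
    rw [ih]; ring

theorem mev_mul (v : ℕ → F) (m n : Mon) : mev v (monMul m n) = mev v m * mev v n := by
  induction m with
  | nil => simp [monMul, mev]
  | cons a t ih =>
    rw [show monMul (a :: t) n = ins a (monMul t n) from rfl, mev_ins, ih]
    simp [mev, mul_assoc]

theorem monBeq_eq : ∀ {m n : Mon}, monBeq m n = true → m = n := by
  intro m
  induction m with
  | nil => intro n h; cases n with
    | nil => rfl
    | cons b t => simp [monBeq] at h
  | cons a t ih =>
    intro n h
    cases n with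
    | nil => simp [monBeq] at h
    | cons b s =>
      have h' : (Nat.beq a b && monBeq t s) = true := h
      rw [Bool.and_eq_true] at h'
      rw [Nat.eq_of_beq_eq_true h'.1, ih h'.2]

variable [CharP F 2]

theorem pev_toggle (v : ℕ → F) (m : Mon) (q : Pol) : pev v (toggle m q) = mev v m + pev v q := by
  induction q with
  | nil => simp [toggle]
  | cons n t ih =>
    rw [show toggle m (n :: t) = bif monBeq m n then t else n :: toggle m t from rfl]
    cases h : monBeq m n
    · simp [ih]; ring
    · rw [cond_true, pev_cons, monBeq_eq h, ← add_assoc, CharTwo.add_self_eq_zero, zero_add]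

theorem pev_padd (v : ℕ → F) (p q : Pol) : pev v (padd p q) = pev v p + pev v q := by
  induction p with
  | nil => simp [padd]
  | cons m t ih =>
    rw [show padd (m :: t) q = toggle m (padd t q) from rfl, pev_toggle, ih, pev_cons, add_assoc]

theorem pev_pmul (v : ℕ → F) (p q : Pol) : pev v (pmul p q) = pev v p * pev v q := by
  induction p with
  | nil => simp [pmul]
  | cons m t ih =>
    rw [show pmul (m :: t) q = padd (kmap (monMul m) q) (pmul t q) from rfl, pev_padd, ih, pev_cons,
      add_mul]
    congr 1
    rw [kmap_eq]
    clear ih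
    induction q with
    | nil => simp
    | cons n s ihq => simp [mev_mul, mul_add] at ihq ⊢; rw [← ihq]

theorem pev_ppow (v : ℕ → F) (p : Pol) (k : ℕ) : pev v (ppow p k) = pev v p ^ k := by
  induction k with
  | zero => simp [ppow, mev]
  | succ k ih => rw [show ppow p (k + 1) = pmul p (ppow p k) from rfl, pev_pmul, ih, pow_succ']

theorem eq_of_peqB (v : ℕ → F) {p q : Pol} (h : peqB p q = true) : pev v p = pev v q := by
  have h' : padd p q = [] := List.isEmpty_iff.1 h
  have h2 := pev_padd v p q
  rw [h', pev_nil] at h2
  exact CharTwo.add_eq_zero.1 h2.symm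

theorem intCast_odd (z : ℤ) : ((z : ℤ) : F) = if zOdd z then 1 else 0 := by
  have h2 : ((2 : ℤ) : F) = 0 := by exact_mod_cast CharP.cast_eq_zero F 2
  have e : ((z : ℤ) : F) = ((z % 2 : ℤ) : F) := by
    conv_lhs => rw [← Int.mul_ediv_add_emod z 2]
    push_cast
    rw [show (2 : F) = 0 by exact_mod_cast h2]
    simp
  rw [e, zOdd]
  by_cases h : z % 2 = 0
  · rw [zIsZero_iff.2 h, h]; simp
  · rw [Bool.eq_false_iff.2 fun hb => h (zIsZero_iff.1 hb), show z % 2 = 1 by omega]; simp

/-- value of a sparse vector of polynomials -/
def pvec (v : ℕ → F) (L : PVec) : D.Idx → F :=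
  fun a => ((L.filter fun e => e.1 == code D a).map fun e => pev v e.2).sum

variable {D}

omit [CharP F 2] in
theorem pvec_cons (v : ℕ → F) (c : ℕ) (p : Pol) (L : PVec) :
    pvec D v ((c, p) :: L) = (fun a => if c = code D a then pev v p else 0) + pvec D v L := by
  funext a
  by_cases h : c = code D a <;> simp [pvec, h]

theorem pvec_vadd (v : ℕ → F) (c : ℕ) (p : Pol) (L : PVec) :
    pvec D v (vadd c p L) = (fun a => if c = code D a then pev v p else 0) + pvec D v L := by
  induction L with
  | nil => simp [vadd, pvec_cons, pvec]
  | cons e t ih =>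
    obtain ⟨d, q⟩ := e
    rw [show vadd c p ((d, q) :: t) = bif Nat.beq c d then (c, padd p q) :: t else (d, q) :: vadd c p t from rfl]
    cases h : Nat.beq c d
    · rw [cond_false, pvec_cons, ih, pvec_cons]; abel
    · rw [cond_true, pvec_cons, pvec_cons, Nat.eq_of_beq_eq_true h, ← add_assoc]
      congr 1
      funext a
      by_cases hd : d = code D a <;> simp [hd, pev_padd]

theorem pvec_contrib (v : ℕ → F) (k r : ℕ) (pk : Pol) (L acc : PVec) :
    pvec D v (contrib D (std D) k r pk L acc) =
      pev v pk • Matrix.mulVec (Mc D F k r) (pvec D v L) + pvec D v acc := by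
  induction L with
  | nil =>
    have : pvec D v ([] : PVec) = 0 := rfl
    simp [contrib, this]
  | cons e L ih =>
    obtain ⟨c, q⟩ := e
    have inner : ∀ (l : SVec) (acc : PVec),
        pvec D v (List.rec acc (fun az _ acc => bif zOdd az.2 then vadd az.1 (pmul pk q) acc else acc) l) =
          (pev v pk * pev v q) • vec D F l + pvec D v acc := by
      intro l acc
      induction l with
      | nil => simp
      | cons az l ihl =>
        obtain ⟨a, z⟩ := az
        show pvec D v (bif zOdd z then vadd a (pmul pk q) _ else _) = _
        rw [vec_cons, smul_add]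
        cases hz : zOdd z
        · rw [cond_false, ihl]
          have : ((z : ℤ) : F) = 0 := by rw [intCast_odd, hz]; rfl
          funext i
          simp [this]
        · rw [cond_true, pvec_vadd, ihl, pev_pmul, add_assoc]
          congr 1
          funext i
          have : ((z : ℤ) : F) = 1 := by rw [intCast_odd, hz]; rfl
          by_cases hi : a = code D i <;> simp [hi, this]
    show pvec D v (List.rec (contrib D (std D) k r pk L acc) _ (colW D (std D) k r c)) = _
    rw [inner, ih, pvec_cons, Matrix.mulVec_add, smul_add, ← add_assoc]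
    congr 2
    by_cases hc : c < D.nroots + D.rank
    · obtain ⟨b, rfl⟩ := exists_code_eq D hc
      rw [show colW D (std D) k r (code D b) = col D k r (code D b) from rfl, ← Mc_single, mul_smul,
        ← Matrix.mulVec_smul]
      congr 2
      funext a
      by_cases ha : b = a
      · subst ha; simp
      · rw [Pi.smul_apply, Pi.single_eq_of_ne (Ne.symm ha), if_neg fun e => ha (code_injective D e)]
        simp
    · rw [show colW D (std D) k r c = col D k r c from rfl, col_out D (by omega)]
      have : (fun a => if c = code D a then pev v q else 0) = (0 : D.Idx → F) := by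
        funext a
        have := code_lt D a
        simp [show c ≠ code D a by omega]
      simp [this]

theorem pvec_applyW (hD : Good D) (v : ℕ → F) (L : PVec) (w : List (ℕ × Pol))
    (hw : ∀ rp ∈ w, rp.1 < D.nroots) :
    pvec D v (applyW D (std D) w L) =
      Matrix.mulVec (D.wordMat F (w.map fun rp => (rp.1, pev v rp.2))) (pvec D v L) := by
  induction w with
  | nil => simp [applyW, ChevalleyDatum.wordMat]
  | cons rp w ih =>
    show pvec D v (applyRoot D (std D) rp.1 rp.2 (applyW D (std D) w L)) = _
    simp only [ChevalleyDatum.wordMat, List.map_cons, List.prod_cons]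
    rw [← Matrix.mulVec_mulVec, ← ChevalleyDatum.wordMat, ← ih fun x hx => hw x (List.mem_cons_of_mem _ hx),
      hD.x_eq F (hw rp (List.mem_cons_self ..)), applyRoot, pvec_contrib, pvec_contrib, pvec_contrib,
      pev_ppow, pev_ppow]
    simp only [xR, Matrix.add_mulVec, Matrix.one_mulVec, Matrix.smul_mulVec]
    abel

theorem pvec_getP (v : ℕ → F) (a : D.Idx) (L : PVec) :
    pvec D v L a = pev v (getP (code D a) L) := by
  induction L with
  | nil => rfl
  | cons e t ih =>
    obtain ⟨c, q⟩ := e
    rw [pvec_cons, show getP (code D a) ((c, q) :: t) =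
      bif Nat.beq (code D a) c then padd q (getP (code D a) t) else getP (code D a) t from rfl]
    cases h : Nat.beq (code D a) c
    · rw [cond_false, ← ih]
      have : c ≠ code D a := fun e => by rw [e] at h; simp at h
      simp [this]
    · rw [cond_true, pev_padd, ← ih]
      simp [(Nat.eq_of_beq_eq_true h).symm]

/-- A checked entry. -/
theorem entry_eq (hD : Good D) {P : Packed} (hP : chkLink D P = true) {w : List (ℕ × Pol)} {a b : ℕ}
    {p : Pol} (h : entB D (fast D P) w a b p = true) (v : ℕ → F) (ia ib : D.Idx) (ha : code D ia = a)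
    (hb : code D ib = b) :
    D.wordMat F (w.map fun rp => (rp.1, pev v rp.2)) ia ib = pev v p := by
  rw [(fast_eq_std hP).1] at h
  simp only [entB, Bool.and_eq_true, kall_iff, Nat.blt_eq] at h
  obtain ⟨⟨⟨hw, -⟩, -⟩, hp⟩ := h
  subst ha; subst hb
  have h2 := congrFun (pvec_applyW hD v [(code D ib, [[]])] w hw) ia
  rw [pvec_getP, eq_of_peqB v hp] at h2
  rw [h2, show pvec D v [(code D ib, [[]])] = Pi.single ib (1 : F) by
    funext a
    rw [pvec_cons]
    by_cases e : ib = a
    · subst e; simp [pvec, mev]
    · simp only [Pi.add_apply, if_neg fun h => e (code_injective D h), Pi.single_eq_of_ne (Ne.symm e)]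
      simp [pvec]]
  simp [Matrix.mulVec_single]

end Cfsg.Agent.Twisted.PolyWord
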